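import Mathlib
import Cfsg.Prelude.Def_GeometricClasses
import Cfsg.Agent.H922.OddBase

/-!
Gram matrices, and the normalisation of subfield groups in odd dimension: a rational structure of
`ζ • f` gives a rational structure of the quadratic form itself, for the same subfield group.
-/

set_option autoImplicit false
set_option linter.unusedSectionVars false

namespace Cfsg.Agent.H922

open Cfsg Cfsg.Geo
open scoped MatrixGroups Matrix

variable {ι : Type} [Fintype ι] [DecidableEq ι] {F : Type*} [Field F]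

theorem toMatrix_toBilin {f : (ι → F) → (ι → F) → F} (h : IsBilinearForm f) :
    LinearMap.BilinForm.toMatrix' (toBilin h) = gramMatrix f := by
  ext i j
  rw [LinearMap.BilinForm.toMatrix'_apply]
  rfl

theorem eq_gram {f : (ι → F) → (ι → F) → F} (h : IsBilinearForm f) (u v : ι → F) :
    f u v = u ⬝ᵥ (gramMatrix f *ᵥ v) := by
  have h1 : toBilin h u v = Matrix.toBilin' (gramMatrix f) u v := by
    rw [← toMatrix_toBilin h, Matrix.toBilin'_toMatrix']
  rw [toBilin_apply, Matrix.toBilin'_apply'] at h1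
  exact h1

/-- The pull-back of a form along a matrix. -/
theorem isBilinearForm_comp {f : (ι → F) → (ι → F) → F} (h : IsBilinearForm f)
    (B : Matrix ι ι F) : IsBilinearForm (fun u v => f (B *ᵥ u) (B *ᵥ v)) where
  add_left x y v := by rw [Matrix.mulVec_add, h.add_left]
  smul_left c x v := by rw [Matrix.mulVec_smul, h.smul_left]
  add_right v x y := by rw [Matrix.mulVec_add, h.add_right]
  smul_right c v x := by rw [Matrix.mulVec_smul, h.smul_right]

theorem gramMatrix_comp {f : (ι → F) → (ι → F) → F} (h : IsBilinearForm f)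
    (B : Matrix ι ι F) :
    gramMatrix (fun u v => f (B *ᵥ u) (B *ᵥ v)) = Bᵀ * gramMatrix f * B := by
  have h1 : toBilin (isBilinearForm_comp h B) =
      (toBilin h).comp (Matrix.toLin' B) (Matrix.toLin' B) := by
    ext u v
    rfl
  rw [← toMatrix_toBilin (isBilinearForm_comp h B), h1, LinearMap.BilinForm.toMatrix'_comp,
    toMatrix_toBilin, LinearMap.toMatrix'_toLin']

theorem gramMatrix_det_ne_zero {f : (ι → F) → (ι → F) → F} (h : IsBilinearForm f)
    (hn : IsNondegenerateForm f) : (gramMatrix f).det ≠ 0 := by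
  intro h0
  obtain ⟨v, hv, hv0⟩ := Matrix.exists_mulVec_eq_zero_iff.2 h0
  obtain ⟨x, hx⟩ := (hn v hv).1
  apply hx
  rw [eq_gram h, hv0, dotProduct_zero]

/-- A matrix with entries in a subfield has its determinant there. -/
theorem det_mem_of_entries (F₁ : Subfield F) {M : Matrix ι ι F} (hM : ∀ i j, M i j ∈ F₁) :
    M.det ∈ F₁ := by
  have h : M = (Matrix.of fun i j => (⟨M i j, hM i j⟩ : F₁)).map F₁.subtype := by
    ext i j; rfl
  rw [h]
  have h2 := RingHom.map_det (F₁.subtype) (Matrix.of fun i j => (⟨M i j, hM i j⟩ : F₁))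
  rw [RingHom.mapMatrix_apply] at h2
  rw [← h2]
  exact Subtype.prop _

/-- The scalar matrix as an element of `GL`. -/
def scal (ι : Type) [Fintype ι] [DecidableEq ι] {F : Type*} [Field F] (c : Fˣ) : GL ι F :=
  Units.map (Matrix.scalar ι : F →+* Matrix ι ι F).toMonoidHom c

theorem coe_scal (c : Fˣ) : (scal ι c : Matrix ι ι F) = (c : F) • (1 : Matrix ι ι F) := by
  simp [scal, Matrix.smul_one_eq_diagonal]

theorem scal_mem (c : Fˣ) : scal ι c ∈ scalars ι F := ⟨c, rfl⟩

theorem scal_comm (c : Fˣ) (g : GL ι F) : scal ι c * g = g * scal ι c := by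
  apply Units.ext
  rw [Units.val_mul, Units.val_mul, coe_scal]
  simp

theorem scal_mul_mulVec (c : Fˣ) (g : GL ι F) (v : ι → F) :
    ((scal ι c * g : GL ι F) : Matrix ι ι F) *ᵥ v = (c : F) • ((g : Matrix ι ι F) *ᵥ v) := by
  rw [Units.val_mul, coe_scal, smul_mul_assoc, one_mul, Matrix.smul_mulVec]

/-- Conjugation by a scalar multiple is the same as conjugation. -/
theorem subfieldSubgroup_scal (F₁ : Subfield F) (c : Fˣ) (B : GL ι F) :
    subfieldSubgroup F₁ (scal ι c * B) = subfieldSubgroup F₁ B := by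
  unfold subfieldSubgroup
  have h : (MulAut.conj (scal ι c * B)).toMonoidHom = (MulAut.conj B).toMonoidHom := by
    refine MonoidHom.ext fun g => ?_
    simp only [MulEquiv.coe_toMonoidHom, MulAut.conj_apply, mul_inv_rev]
    calc scal ι c * B * g * (B⁻¹ * (scal ι c)⁻¹) = scal ι c * (B * g * B⁻¹) * (scal ι c)⁻¹ := by
          group
      _ = B * g * B⁻¹ := by rw [scal_comm, mul_inv_cancel_right]
  rw [h]

theorem mem_subfieldSubgroup_iff (F₁ : Subfield F) (B : GL ι F) (g : GL ι F) :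
    g ∈ subfieldSubgroup F₁ B ↔ ∃ (x : GL ι F₁) (c : Fˣ),
      g = B * (Matrix.GeneralLinearGroup.map (F₁.subtype : F₁ →+* F) x * scal ι c) * B⁻¹ := by
  unfold subfieldSubgroup
  rw [Subgroup.mem_map]
  constructor
  · rintro ⟨y, hy, hyg⟩
    rw [← SetLike.mem_coe, Subgroup.mul_normal] at hy
    obtain ⟨a, ha, b, hb, hab⟩ := Set.mem_mul.1 hy
    obtain ⟨x, hx⟩ := MonoidHom.mem_range.1 ha
    obtain ⟨c, hc⟩ := MonoidHom.mem_range.1 hb
    refine ⟨x, c, ?_⟩
    rw [← hyg, ← hab, ← hx, ← hc, MulEquiv.coe_toMonoidHom, MulAut.conj_apply]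
    rfl
  · rintro ⟨x, c, hg⟩
    refine ⟨Matrix.GeneralLinearGroup.map (F₁.subtype : F₁ →+* F) x * scal ι c,
      Subgroup.mul_mem_sup (MonoidHom.mem_range.2 ⟨x, rfl⟩) (scal_mem c), ?_⟩
    rw [MulEquiv.coe_toMonoidHom, MulAut.conj_apply, hg]

/-- `(E6)` In odd dimension, a rational structure of `ζ • f` can be rescaled to a rational
structure of the quadratic form. -/
theorem exists_quadRational {Q : (ι → F) → F} (hQ : IsNondegenerateQuadraticForm Q)
    (h2 : (2 : F) ≠ 0) (hn : Odd (Fintype.card ι)) (F₁ : Subfield F)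
    (hdet : (gramMatrix (QuadraticMap.polar Q)).det ∈ F₁) {ζ : F} (hζ : ζ ≠ 0) {B : GL ι F}
    (hB : IsFormRationalStructure (QuadraticMap.polar Q) F₁ ζ B) :
    ∃ c : Fˣ, IsQuadFormRationalStructure Q F₁ (scal ι c * B) ∧
      subfieldSubgroup F₁ (scal ι c * B) = subfieldSubgroup F₁ B := by
  obtain ⟨k, hk⟩ := hn
  set f := QuadraticMap.polar Q with hf
  have hbf := hQ.polar_bilinear
  have hG0 : (gramMatrix f).det ≠ 0 := gramMatrix_det_ne_zero hbf hQ.nondegenerate
  have hBdet : ((B : Matrix ι ι F)).det ≠ 0 := by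
    have := Matrix.GeneralLinearGroup.det B
    exact (Matrix.isUnit_iff_isUnit_det _).1 B.isUnit |>.ne_zero
  have h1 : (ζ • ((B : Matrix ι ι F)ᵀ * gramMatrix f * (B : Matrix ι ι F))).det ∈ F₁ := by
    apply det_mem_of_entries
    intro i j
    rw [← gramMatrix_comp hbf]
    have hs : ∀ i : ι, ∀ l, (Pi.single i 1 : ι → F) l ∈ F₁ := by
      intro i l
      by_cases h : l = i
      · subst h; rw [Pi.single_eq_same]; exact F₁.one_mem
      · rw [Pi.single_eq_of_ne h]; exact F₁.zero_mem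
    exact hB _ _ (hs i) (hs j)
  rw [Matrix.det_smul, Matrix.det_mul, Matrix.det_mul, Matrix.det_transpose, hk] at h1
  set d := ((B : Matrix ι ι F)).det with hd
  set a := ζ * (ζ ^ k * d) ^ 2 with ha
  have hζk : ζ ^ k * d ≠ 0 := mul_ne_zero (pow_ne_zero _ hζ) hBdet
  have ha0 : a ≠ 0 := mul_ne_zero hζ (pow_ne_zero _ hζk)
  have haF : a ∈ F₁ := by
    have h3 : a = ζ ^ (2 * k + 1) * (d * (gramMatrix f).det * d) / (gramMatrix f).det := by
      rw [ha]; field_simp; ring
    rw [h3]
    exact F₁.div_mem h1 hdet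
  refine ⟨(Units.mk0 _ hζk)⁻¹, ?_, subfieldSubgroup_scal _ _ _⟩
  intro u hu
  have h4 := hB u u hu hu
  rw [hf, two_mul_Q hQ.smul] at h4
  rw [scal_mul_mulVec, hQ.smul, Units.val_inv_eq_inv_val, Units.val_mk0]
  have h2F : (2 : F) ∈ F₁ := by
    have : (2 : F) = 1 + 1 := by norm_num
    rw [this]; exact F₁.add_mem F₁.one_mem F₁.one_mem
  have h5 : ((ζ ^ k * d)⁻¹) ^ 2 * Q ((B : Matrix ι ι F) *ᵥ u) =
      ζ * (2 * Q ((B : Matrix ι ι F) *ᵥ u)) / (2 * a) := by
    rw [ha]; field_simp
  rw [h5]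
  exact F₁.div_mem h4 (F₁.mul_mem h2F haF)

end Cfsg.Agent.H922
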