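import Mathlib
import Cfsg.Prelude.Def_GeometricClasses
import Cfsg.Agent.H922.OddBase
import Cfsg.Agent.H922.OddSubfield

/-!
Decompositions: transitivity from irreducibility, isometry of the members, frames of
one-dimensional spaces and their stabilisers inside subfield groups.
-/

set_option autoImplicit false
set_option linter.unusedSectionVars false

namespace Cfsg.Agent.H922

open Cfsg Cfsg.Geo
open scoped MatrixGroups Matrix

variable {ι : Type} [Fintype ι] [DecidableEq ι] {F : Type*} [Field F]

/-- The linear equivalence `v ↦ g *ᵥ v`. -/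
noncomputable def glLin (g : GL ι F) : (ι → F) ≃ₗ[F] (ι → F) :=
  LinearEquiv.ofLinearMap (Matrix.toLin' (g : Matrix ι ι F))
    (Matrix.toLin' ((g⁻¹ : GL ι F) : Matrix ι ι F))
    (by rw [← Matrix.toLin'_mul, ← Units.val_mul, mul_inv_cancel]; simp)
    (by rw [← Matrix.toLin'_mul, ← Units.val_mul, inv_mul_cancel]; simp)

theorem glLin_apply (g : GL ι F) (v : ι → F) : glLin g v = (g : Matrix ι ι F) *ᵥ v :=
  Matrix.toLin'_apply _ _

theorem coe_glLin (g : GL ι F) :
    (glLin g : (ι → F) →ₗ[F] (ι → F)) = Matrix.toLin' (g : Matrix ι ι F) := rfl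

/-- An irreducible group permuting the members of a decomposition is transitive on them. -/
theorem decomposition_transitive {H : Subgroup (GL ι F)} (hirr : ActsIrreducibly (matrixSet H))
    {t m : ℕ} {D : Fin t → Submodule F (ι → F)} (hD : IsMDecomposition m D)
    (hH : H ≤ decompositionStabilizer D) (i j : Fin t) :
    ∃ h ∈ H, (D i).map (Matrix.toLin' (h : Matrix ι ι F)) = D j := by
  classical
  by_contra hcon
  let S : Set (Fin t) := {j | ∃ h ∈ H, (D i).map (Matrix.toLin' (h : Matrix ι ι F)) = D j}
  have hiS : i ∈ S := ⟨1, H.one_mem, by simp⟩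
  let W : Submodule F (ι → F) := ⨆ k ∈ S, D k
  have hWinv : ∀ s ∈ matrixSet H, W.map (Matrix.toLin' s) ≤ W := by
    rintro _ ⟨g, hg, rfl⟩
    rw [Submodule.map_iSup]
    refine iSup_le fun k => ?_
    rw [Submodule.map_iSup]
    refine iSup_le fun hk => ?_
    obtain ⟨h, hh, hk'⟩ := hk
    obtain ⟨σ, hσ⟩ := hH hg
    rw [hσ k]
    refine le_iSup₂_of_le (σ k) ⟨g * h, H.mul_mem hg hh, ?_⟩ le_rfl
    rw [Units.val_mul, Matrix.toLin'_mul, Submodule.map_comp, hk', hσ]
  have hne : ∀ k, D k ≠ ⊥ := by
    intro k hk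
    have := hD.finrank_eq k
    rw [hk, finrank_bot] at this
    exact absurd this.symm hD.pos.ne'
  rcases hirr W hWinv with h | h
  · apply hne i
    rw [eq_bot_iff, ← h]
    exact le_iSup₂_of_le i hiS le_rfl
  · have hj : j ∉ S := hcon
    have h1 := hD.indep j
    have h2 : W ≤ ⨆ k, ⨆ (_ : k ≠ j), D k := by
      refine iSup₂_le fun k hk => ?_
      refine le_iSup₂_of_le k ?_ le_rfl
      rintro rfl
      exact hj hk
    rw [h, top_le_iff] at h2
    rw [h2, disjoint_top] at h1
    exact hne j h1

/-- The members of an orthogonal decomposition permuted by an irreducible group of isometries are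
pairwise isometric. -/
theorem isOrthogonalMDecomposition_of_irreducible {Q : (ι → F) → F} {H : Subgroup (GL ι F)}
    (hirr : ActsIrreducibly (matrixSet H)) (hI : H ≤ isometryGroup F Q) {t m : ℕ}
    {D : Fin t → Submodule F (ι → F)}
    (hD : IsNondegenerateMDecomposition (QuadraticMap.polar Q) m D)
    (hH : H ≤ decompositionStabilizer D) : IsOrthogonalMDecomposition Q m D := by
  refine ⟨hD, fun i j => ?_⟩
  obtain ⟨h, hh, hij⟩ := decomposition_transitive hirr hD.decomp hH i j
  have hmap : (D i).map (glLin h : (ι → F) →ₗ[F] (ι → F)) = D j := by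
    rw [← hij]; rfl
  refine ⟨((glLin h).submoduleMap (D i)).trans (LinearEquiv.ofEq _ _ hmap), fun w => ?_⟩
  show Q (glLin h (w : ι → F)) = Q w
  rw [glLin_apply]
  exact mem_isometryGroup.1 (hI hh) _

theorem mul_eq_card {t m : ℕ} {D : Fin t → Submodule F (ι → F)} (hD : IsMDecomposition m D) :
    t * m = Fintype.card ι := by
  classical
  have hint : DirectSum.IsInternal D :=
    (DirectSum.isInternal_submodule_iff_iSupIndep_and_iSup_eq_top D).2
      ⟨hD.indep, hD.iSup_eq_top⟩
  have b := hint.collectedBasis (fun i => Module.finBasis F (D i))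
  have h := Module.finrank_eq_card_basis b
  rw [Module.finrank_fintype_fun_eq_card, Fintype.card_sigma] at h
  simp only [Fintype.card_fin, hD.finrank_eq, Finset.sum_const, Finset.card_univ,
    smul_eq_mul] at h
  exact h.symm

end Cfsg.Agent.H922
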