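import Mathlib
import Cfsg.Prelude.Def_GeometricClasses
import Cfsg.Agent.H922.OddBase
import Cfsg.Agent.H922.OddSubfield
import Cfsg.Agent.H922.OddDecomp
import Cfsg.Agent.H922.OddFrame
import Cfsg.Agent.ClassicalGeometry.Discriminant

/-!
Over the field with three elements, a decomposition into pairwise orthogonal isometric 3-spaces
refines canonically to a frame of lines: `O_3(3) wr S_t ≤ O_1(3) wr S_{3t}`.
-/

set_option autoImplicit false
set_option linter.unusedSectionVars false

namespace Cfsg.Agent.H922

open Cfsg Cfsg.Geo Module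
open scoped MatrixGroups Matrix

/-- An odd-dimensional non-degenerate symmetric bilinear form over a finite field of odd
characteristic has a basis which is orthogonal with constant norm. -/
theorem exists_basis_const {F : Type*} [Field F] [Finite F] (h2 : (2 : F) ≠ 0) {V : Type*}
    [AddCommGroup V] [Module F V] [FiniteDimensional F V] (B : LinearMap.BilinForm F V)
    (hS : B.IsSymm) (hB : B.Nondegenerate) {n : ℕ} (hn : Odd n) (hV : finrank F V = n) :
    ∃ (d : F) (v : Basis (Fin n) F V), d ≠ 0 ∧ ∀ i j, B (v i) (v j) = if i = j then d else 0 := by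
  obtain ⟨k, hk⟩ := hn
  let b := finBasis F V
  set d := (LinearMap.BilinForm.toMatrix b B).det with hd
  have hd0 : d ≠ 0 := (LinearMap.BilinForm.nondegenerate_iff_det_ne_zero b).1 hB
  have hdet : (LinearMap.BilinForm.toMatrix b B).det = ((d ^ k)⁻¹) ^ 2 * ∏ _i : Fin n, d := by
    rw [Finset.prod_const, Finset.card_univ, Fintype.card_fin, ← hd, hk]
    field_simp
    ring
  obtain ⟨v, hv⟩ := Cfsg.Agent.ClassicalGeometry.Discriminant.exists_basis_diag h2 B hS hB b
    (fun _ : Fin n => d) (by rw [Fintype.card_fin, hV]) (fun _ => hd0) _ hdet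
  exact ⟨d, v, hd0, hv⟩

variable {ι : Type} [Fintype ι] [DecidableEq ι] {F : Type*} [Field F]

/-- The restriction of the polar form to a subspace. -/
noncomputable def resBilin {f : (ι → F) → (ι → F) → F} (h : IsBilinearForm f)
    (W : Submodule F (ι → F)) : LinearMap.BilinForm F W :=
  (toBilin h).restrict W

theorem resBilin_apply {f : (ι → F) → (ι → F) → F} (h : IsBilinearForm f)
    (W : Submodule F (ι → F)) (x y : W) : resBilin h W x y = f x y := rfl

theorem resBilin_nondegenerate {f : (ι → F) → (ι → F) → F} (h : IsBilinearForm f)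
    {W : Submodule F (ι → F)} (hW : IsNondegenerateOn f W) : (resBilin h W).Nondegenerate := by
  constructor
  · intro x hx
    by_contra h0
    have h0' : (x : ι → F) ≠ 0 := fun h' => h0 (Subtype.ext h')
    obtain ⟨y, hyW, hy⟩ := (hW x.1 x.2 h0').2
    exact hy (hx ⟨y, hyW⟩)
  · intro x hx
    by_contra h0
    have h0' : (x : ι → F) ≠ 0 := fun h' => h0 (Subtype.ext h')
    obtain ⟨y, hyW, hy⟩ := (hW x.1 x.2 h0').1
    exact hy (hx ⟨y, hyW⟩)

theorem resBilin_isSymm {f : (ι → F) → (ι → F) → F} (h : IsBilinearForm f)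
    (hs : ∀ u v, f u v = f v u) (W : Submodule F (ι → F)) : (resBilin h W).IsSymm :=
  ⟨fun x y => hs x y⟩

/-- An isometry between subspaces preserves the polar form. -/
theorem polar_of_isometry {Q : (ι → F) → F} {W W' : Submodule F (ι → F)} (e : W ≃ₗ[F] W')
    (he : ∀ w : W, Q ((e w : W') : ι → F) = Q (w : ι → F)) (x y : W) :
    QuadraticMap.polar Q ((e x : W') : ι → F) ((e y : W') : ι → F) =
      QuadraticMap.polar Q (x : ι → F) (y : ι → F) := by
  have h := he (x + y)
  rw [map_add, Submodule.coe_add, Submodule.coe_add] at h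
  simp only [QuadraticMap.polar, h, he]

/-- A family of `card ι` pairwise orthogonal vectors with the same nonzero value of `Q` gives an
orthogonal decomposition into lines. -/
theorem isOrthogonalMDecomposition_of_vectors {Q : (ι → F) → F}
    (hQ : IsNondegenerateQuadraticForm Q) (h2 : (2 : F) ≠ 0) {n : ℕ} (hn : n = Fintype.card ι)
    (hn2 : 2 ≤ n) (v : Fin n → (ι → F)) {c : F} (hc : c ≠ 0) (hv : ∀ i, Q (v i) = c)
    (horth : ∀ i j, i ≠ j → QuadraticMap.polar Q (v i) (v j) = 0) :
    IsOrthogonalMDecomposition Q 1 (fun i => Submodule.span F {v i}) := by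
  classical
  have hbf := hQ.polar_bilinear
  have hvv : ∀ i, QuadraticMap.polar Q (v i) (v i) ≠ 0 := by
    intro i
    rw [two_mul_Q hQ.smul, hv]
    exact mul_ne_zero h2 hc
  have hv0 : ∀ i, v i ≠ 0 := by
    intro i h
    apply hvv i
    have h1 := hbf.smul_left 0 0 (v i)
    rw [zero_smul, zero_mul] at h1
    rw [h]
    have h3 := hbf.smul_left 0 0 0
    rw [zero_smul, zero_mul] at h3
    exact h3
  have hli : LinearIndependent F v := by
    rw [Fintype.linearIndependent_iff]
    intro g hg i
    have h1 : toBilin hbf (∑ j, g j • v j) (v i) = 0 := by rw [hg]; simp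
    rw [map_sum, LinearMap.sum_apply] at h1
    rw [Finset.sum_eq_single i] at h1
    · rw [map_smul, LinearMap.smul_apply, smul_eq_mul, toBilin_apply] at h1
      exact (mul_eq_zero.1 h1).resolve_right (hvv i)
    · intro j _ hji
      rw [map_smul, LinearMap.smul_apply, smul_eq_mul, toBilin_apply, horth j i hji, mul_zero]
    · intro h; exact absurd (Finset.mem_univ i) h
  refine ⟨⟨⟨hn2, one_pos, ?_, ?_, ?_⟩, ?_, ?_⟩, ?_⟩
  · intro i
    exact finrank_span_singleton (hv0 i)
  · exact hli.iSupIndep_span_singleton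
  · rw [← Submodule.span_range_eq_iSup]
    apply hli.span_eq_top_of_card_eq_finrank'
    rw [Fintype.card_fin, Module.finrank_fintype_fun_eq_card, hn]
  · intro i w hw hw0
    obtain ⟨a, rfl⟩ := Submodule.mem_span_singleton.1 hw
    have ha : a ≠ 0 := by rintro rfl; simp at hw0
    refine ⟨⟨v i, Submodule.mem_span_singleton_self _, ?_⟩,
      ⟨v i, Submodule.mem_span_singleton_self _, ?_⟩⟩
    · rw [hbf.smul_right]; exact mul_ne_zero ha (hvv i)
    · rw [hbf.smul_left]; exact mul_ne_zero ha (hvv i)
  · intro i j hij u hu w hw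
    obtain ⟨a, rfl⟩ := Submodule.mem_span_singleton.1 hu
    obtain ⟨b, rfl⟩ := Submodule.mem_span_singleton.1 hw
    rw [hbf.smul_left, hbf.smul_right, horth i j hij]; simp
  · intro i j
    let ei := LinearEquiv.toSpanNonzeroSingleton F (ι → F) (v i) (hv0 i)
    let ej := LinearEquiv.toSpanNonzeroSingleton F (ι → F) (v j) (hv0 j)
    refine ⟨ei.symm.trans ej, fun w => ?_⟩
    obtain ⟨a, rfl⟩ := ei.surjective w
    rw [LinearEquiv.trans_apply, LinearEquiv.symm_apply_apply]
    show Q (a • v j) = Q (a • v i)
    rw [hQ.smul, hQ.smul, hv, hv]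

/-- Membership in the stabiliser of a decomposition, without exhibiting the permutation. -/
theorem mem_decompositionStabilizer_of_forall {t m : ℕ} {D : Fin t → Submodule F (ι → F)}
    (hD : IsMDecomposition m D) {g : GL ι F}
    (h : ∀ i, ∃ j, (D i).map (Matrix.toLin' (g : Matrix ι ι F)) = D j) :
    g ∈ decompositionStabilizer D := by
  choose s hs using h
  have hne : ∀ k, D k ≠ ⊥ := by
    intro k hk
    have := hD.finrank_eq k
    rw [hk, finrank_bot] at this
    exact absurd this.symm hD.pos.ne'
  have hDinj : Function.Injective D := hD.indep.injective hne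
  have hginj : Function.Injective (Matrix.toLin' (g : Matrix ι ι F)) := (glLin g).injective
  have hsinj : Function.Injective s := by
    intro i j hij
    apply hDinj
    apply Submodule.map_injective_of_injective hginj
    rw [hs, hs, hij]
  refine ⟨Equiv.ofBijective s (Finite.injective_iff_bijective.1 hsinj), fun i => ?_⟩
  rw [hs i]; rfl

/-- In the field with three elements a sum of three squares is `1` only if exactly one of the
numbers is nonzero. -/
theorem sum_sq_three [Fintype F] (h3 : Fintype.card F = 3) (c : Fin 3 → F)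
    (hc : ∑ a, c a ^ 2 = 1) : ∃ a, (∀ b, b ≠ a → c b = 0) ∧ c a ^ 2 = 1 := by
  have hsq : ∀ x : F, x = 0 ∨ x ^ 2 = 1 := by
    intro x
    by_cases hx : x = 0
    · exact Or.inl hx
    · right
      have := FiniteField.pow_card_sub_one_eq_one x hx
      rwa [h3] at this
  have h30 : (3 : F) = 0 := by
    have := FiniteField.cast_card_eq_zero F
    rw [h3] at this
    exact_mod_cast this
  have h2 : (2 : F) ≠ 1 := by
    intro h
    have : (1 : F) = 0 := by linear_combination h
    exact one_ne_zero this
  rw [Fin.sum_univ_three] at hc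
  rcases hsq (c 0) with h0 | h0 <;> rcases hsq (c 1) with h1 | h1 <;>
    rcases hsq (c 2) with h4 | h4
  · exfalso; rw [h0, h1, h4] at hc; simp at hc
  · refine ⟨2, fun b hb => ?_, h4⟩
    fin_cases b
    · exact h0
    · exact h1
    · exact absurd rfl hb
  · refine ⟨1, fun b hb => ?_, h1⟩
    fin_cases b
    · exact h0
    · exact absurd rfl hb
    · exact h4
  · exfalso; rw [h0, h1, h4] at hc; apply h2; linear_combination hc
  · refine ⟨0, fun b hb => ?_, h0⟩
    fin_cases b
    · exact absurd rfl hb
    · exact h1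
    · exact h4
  · exfalso; rw [h0, h1, h4] at hc; apply h2; linear_combination hc
  · exfalso; rw [h0, h1, h4] at hc; apply h2; linear_combination hc
  · exfalso; rw [h0, h1, h4] at hc
    exact one_ne_zero (α := F) (by linear_combination h30 - hc)

/-- `(E4)` Over the field with three elements: the stabiliser of a decomposition into `t`
pairwise orthogonal isometric 3-spaces stabilises a frame of `3 t` lines. -/
theorem three_spaces_le_frame [Fintype F] (h3 : Fintype.card F = 3) {Q : (ι → F) → F}
    (hQ : IsNondegenerateQuadraticForm Q) {t : ℕ} {D : Fin t → Submodule F (ι → F)}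
    (hD : IsOrthogonalMDecomposition Q 3 D) :
    ∃ D' : Fin (t * 3) → Submodule F (ι → F), IsOrthogonalMDecomposition Q 1 D' ∧
      decompositionStabilizer D ⊓ isometryGroup F Q ≤ decompositionStabilizer D' := by
  classical
  have h2 : (2 : F) ≠ 0 := by
    apply two_ne_zero_of_odd_card
    rw [h3]; decide
  have hbf := hQ.polar_bilinear
  have ht : 0 < t := lt_of_lt_of_le two_pos hD.decomp.decomp.two_le
  let i0 : Fin t := ⟨0, ht⟩
  obtain ⟨d, w, hd, hw⟩ := exists_basis_const h2 (resBilin hbf (D i0))
    (resBilin_isSymm hbf (polar_symm Q) _)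
    (resBilin_nondegenerate hbf (hD.decomp.nondegenerate i0)) (n := 3) (by decide)
    (hD.decomp.decomp.finrank_eq i0)
  choose e he using hD.isometric i0
  let x : Fin t → Fin 3 → (ι → F) := fun i a => (e i (w a) : D i)
  have hx : ∀ i a b, QuadraticMap.polar Q (x i a) (x i b) = if a = b then d else 0 := by
    intro i a b
    rw [← hw a b]
    exact polar_of_isometry (e i) (he i) (w a) (w b)
  have hxi : ∀ i j a b, i ≠ j → QuadraticMap.polar Q (x i a) (x j b) = 0 := by
    intro i j a b hij
    exact hD.decomp.orthogonal i j hij _ (e i (w a)).2 _ (e j (w b)).2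
  let v : Fin (t * 3) → (ι → F) := fun k =>
    x (finProdFinEquiv.symm k).1 (finProdFinEquiv.symm k).2
  have hvv : ∀ i a, v (finProdFinEquiv (i, a)) = x i a := by
    intro i a
    simp only [v, Equiv.symm_apply_apply]
  have hQx : ∀ i a, Q (x i a) = d / 2 := by
    intro i a
    have h1 := hx i a a
    rw [if_pos rfl, two_mul_Q hQ.smul] at h1
    rw [eq_div_iff h2, mul_comm]
    exact h1
  have hcard : t * 3 = Fintype.card ι := mul_eq_card hD.decomp.decomp
  have hdec : IsOrthogonalMDecomposition Q 1 (fun k => Submodule.span F {v k}) := by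
    refine isOrthogonalMDecomposition_of_vectors hQ h2 hcard (by omega) v
      (c := d / 2) (div_ne_zero hd h2) (fun k => hQx _ _) ?_
    intro k l hkl
    by_cases h : (finProdFinEquiv.symm k).1 = (finProdFinEquiv.symm l).1
    · have h' : (finProdFinEquiv.symm k).2 ≠ (finProdFinEquiv.symm l).2 := by
        intro h''
        apply hkl
        apply finProdFinEquiv.symm.injective
        exact Prod.ext h h''
      show QuadraticMap.polar Q (x _ _) (x _ _) = 0
      rw [h, hx, if_neg h']
    · exact hxi _ _ _ _ h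
  refine ⟨_, hdec, ?_⟩
  rintro g ⟨⟨σ, hσ⟩, hgI⟩
  apply mem_decompositionStabilizer_of_forall hdec.decomp.decomp
  intro k
  obtain ⟨⟨i, a⟩, rfl⟩ := finProdFinEquiv.surjective k
  -- the image vector
  have hmem : (g : Matrix ι ι F) *ᵥ x i a ∈ D (σ i) := by
    rw [← hσ i]
    exact ⟨x i a, (e i (w a)).2, Matrix.toLin'_apply _ _⟩
  let y : D (σ i) := ⟨_, hmem⟩
  let bs : Basis (Fin 3) F (D (σ i)) := w.map (e (σ i))
  have hbs : ∀ b, ((bs b : D (σ i)) : ι → F) = x (σ i) b := by
    intro b
    simp only [bs, x, Basis.map_apply]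
  have hsum : (g : Matrix ι ι F) *ᵥ x i a = ∑ b, bs.repr y b • x (σ i) b := by
    have h1 := congrArg (Subtype.val) (bs.sum_repr y)
    rw [AddSubmonoidClass.coe_finsetSum] at h1
    simp only [Submodule.coe_smul, hbs] at h1
    exact h1.symm
  have hpol : QuadraticMap.polar Q ((g : Matrix ι ι F) *ᵥ x i a)
      ((g : Matrix ι ι F) *ᵥ x i a) = d * ∑ b, (bs.repr y b) ^ 2 := by
    rw [hsum]
    rw [← toBilin_apply hbf]
    rw [map_sum, Finset.mul_sum]
    refine Finset.sum_congr rfl fun b _ => ?_
    rw [map_smul, map_sum (toBilin hbf), LinearMap.sum_apply, Finset.sum_eq_single b]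
    · rw [map_smul, LinearMap.smul_apply, toBilin_apply, hx, if_pos rfl, smul_eq_mul,
        smul_eq_mul]; ring
    · intro b' _ hb'
      rw [map_smul, LinearMap.smul_apply, toBilin_apply, hx, if_neg hb', smul_zero]
    · intro h; exact absurd (Finset.mem_univ b) h
  rw [polar_of_mem hgI, hx, if_pos rfl] at hpol
  have hone : ∑ b, (bs.repr y b) ^ 2 = 1 := by
    have : d * (∑ b, (bs.repr y b) ^ 2 - 1) = 0 := by linear_combination -hpol
    rcases mul_eq_zero.1 this with h | h
    · exact absurd h hd
    · linear_combination h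
  obtain ⟨b, hb, hb1⟩ := sum_sq_three h3 _ hone
  have hgx : (g : Matrix ι ι F) *ᵥ x i a = bs.repr y b • x (σ i) b := by
    rw [hsum, Finset.sum_eq_single b]
    · intro b' _ hb'; rw [hb b' hb', zero_smul]
    · intro h; exact absurd (Finset.mem_univ b) h
  have hb0 : bs.repr y b ≠ 0 := by
    intro h; rw [h] at hb1; simp at hb1
  refine ⟨finProdFinEquiv (σ i, b), ?_⟩
  simp only [hvv]
  rw [Submodule.map_span, Set.image_singleton, Matrix.toLin'_apply, hgx]
  exact Submodule.span_singleton_smul_eq (IsUnit.mk0 _ hb0) _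

end Cfsg.Agent.H922
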