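import Cfsg.Agent.H879.Nine.RowPSU

/-!
# `PSU_m(q)`, `m ≥ 7`, defining characteristic, self-dual, dimension at most 13: impossible (helper922)

As in `H879.Nine.own_psu`, with a primitive prime divisor of `p^{14 b} - 1`.
-/

set_option autoImplicit false
set_option linter.unusedSectionVars false

namespace Cfsg.Agent.H922.Own

open Matrix Cfsg Cfsg.Geo Cfsg.Agent.H915.LD Cfsg.Agent.H48.NatSU Cfsg.Agent.H879.Nine

universe u v

variable {F : Type u} [Field F] [Fintype F] {ι : Type} [Fintype ι] [DecidableEq ι]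

theorem card_GL_reindex : Nat.card (GL ι F) = Nat.card (GL (Fin (Fintype.card ι)) F) :=
  Nat.card_congr (Units.mapEquiv
    (Matrix.reindexRingEquiv F (Fintype.equivFin ι)).toMulEquiv).toEquiv

theorem own_psu_seven {p : ℕ} [hp : Fact p.Prime] [CharP F p] {P : Subgroup (GL ι F)} (hn : Fintype.card ι ≤ 13)
    (hC : Core P) (hsd : SD P) {K : Type} [Field K] [Fintype K] [CharP K p] {m q : ℕ} (hm : 7 ≤ m)
    (hK : Fintype.card K = q ^ 2) (e : Soc P ≃* PSU m K q) : False := by
  have hcj := psu_cj hC p hK (by omega) (by omega) e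
  obtain ⟨p', b, hp', hch, hq, hb⟩ := LieClassical.HermBasic.exists_prime_pow hK
  obtain rfl : p' = p := CharP.eq K hch ‹_›
  have hfr : Fr P (p' ^ b) := by rw [← hq]; exact Fr.of_sd_cj hsd hcj
  obtain ⟨f, hf, hF⟩ := FiniteField.card F p'
  -- `f ≤ b`
  have hfb : (f : ℕ) ≤ b := by
    have h1 := hC.card_le p' hb.ne' hfr
    rw [hF] at h1
    exact (Nat.pow_le_pow_iff_right hp'.one_lt).1 h1
  obtain ⟨r, hr, ho⟩ := Cfsg.Agent.Lib.Zsigmondy.exists_prime_orderOf (a := p') (n := 14 * b) hp'.two_le (by omega)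
    (fun h => by omega) (fun h => by omega)
  have := Fact.mk hr
  have hrp : ¬ r ∣ p' := by
    intro h
    have h1 : (p' : ZMod r) = 0 := (ZMod.natCast_eq_zero_iff _ _).2 h
    rw [h1, orderOf_zero] at ho
    omega
  have h1 : ¬ r ∣ Nat.card (GL ι F) := by
    rw [card_GL_reindex]
    exact not_dvd_card_GL hr ho hrp f.pos hF (by
      calc (f : ℕ) * Fintype.card ι ≤ b * 13 := Nat.mul_le_mul hfb hn
        _ < 14 * b := by omega)
  apply h1
  obtain ⟨φ, hφ, hk, -⟩ := psu_cover p' hK (by omega) (by omega) hC.perfect e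
  have hfin : Finite (SU m K q) := inferInstance
  have h2 : Nat.card (SU m K q) = Nat.card φ.ker * Nat.card P := by
    rw [Subgroup.card_eq_card_quotient_mul_card_subgroup φ.ker,
      Nat.card_congr (QuotientGroup.quotientKerEquivRange φ).toEquiv, hφ, mul_comm]
  have hq2 : 2 ≤ q := two_le_of_sq hK
  -- orders
  have hord : ∀ k, r ∣ p' ^ k - 1 → 14 * b ∣ k := by
    intro k hk
    have h3 : ((p' ^ k - 1 : ℕ) : ZMod r) = 0 := (ZMod.natCast_eq_zero_iff _ _).2 hk
    rw [Nat.cast_sub (Nat.one_le_pow _ _ hp'.pos), sub_eq_zero] at h3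
    push_cast at h3
    have h4 := orderOf_dvd_of_pow_eq_one h3
    rwa [ho] at h4
  have h10 : r ∣ q ^ 14 - 1 := by
    have h3 : (p' : ZMod r) ^ (14 * b) = 1 := by rw [← ho]; exact pow_orderOf_eq_one _
    have h4 : ((p' ^ (14 * b) - 1 : ℕ) : ZMod r) = 0 := by
      rw [Nat.cast_sub (Nat.one_le_pow _ _ hp'.pos), sub_eq_zero]
      push_cast
      exact h3
    have h5 := (ZMod.natCast_eq_zero_iff _ _).1 h4
    rw [hq, ← pow_mul, mul_comm b 14]
    exact h5
  have h5 : r ∣ q ^ 7 + 1 := by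
    have h3 : q ^ 14 - 1 = (q ^ 7 + 1) * (q ^ 7 - 1) := by
      have h4 := Nat.sq_sub_sq (q ^ 7) 1
      rw [← pow_mul, one_pow] at h4
      exact h4
    rw [h3, hr.dvd_mul] at h10
    rcases h10 with h10 | h10
    · exact h10
    · exfalso
      rw [hq, ← pow_mul] at h10
      have := Nat.le_of_dvd (by omega) (hord _ h10)
      omega
  have hkc : ¬ r ∣ Nat.card φ.ker := by
    intro hd
    have h4 : Nat.card φ.ker ∣ q + 1 := by
      refine (Subgroup.card_dvd_of_le hk).trans ?_
      rw [Cfsg.Agent.S0279.result hK m (by omega)]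
      exact Nat.gcd_dvd_right _ _
    have h6 : r ∣ q ^ 2 - 1 := by
      have h7 := Nat.sq_sub_sq q 1
      rw [one_pow] at h7
      rw [h7]
      exact (hd.trans h4).mul_right _
    rw [hq, ← pow_mul] at h6
    have := Nat.le_of_dvd (by omega) (hord _ h6)
    omega
  have h6 : r ∣ Nat.card (SU m K q) := H948.UProd.dvd_card_SU hK (i := 6) (by omega) (by omega) (by
    unfold H948.UProd.ph
    rw [if_pos (by decide)]
    exact h5)
  rw [h2, hr.dvd_mul] at h6
  exact (h6.resolve_left hkc).trans (Subgroup.card_subgroup_dvd_card P)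

end Cfsg.Agent.H922.Own
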