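import Cfsg.Agent.H922.Own12
import Cfsg.Agent.H922.OwnPSU
import Cfsg.Agent.H922.S12.Base
import Cfsg.Agent.H875.PslRows
import Cfsg.Agent.H879.Nine.RowPSL
import Cfsg.Agent.H905.Sp4Adj
import Cfsg.Agent.H114.O12.Base

/-!
# Dimension 12, own characteristic: the rows (helper922)

* `own_nsd` : `¬ SD P`: `SL₁₂(F)` or `PSU₁₂`;
* `own_sp` : S5869;
* `dc_false` : S5872, S5875.
-/

set_option autoImplicit false
set_option linter.unusedSectionVars false

namespace Cfsg.Agent.H922.Own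

open Matrix Cfsg Cfsg.Geo Cfsg.Agent.H915.LD Cfsg.Agent.H925.Nat

universe u

variable {F : Type u} [Field F]

theorem nd_plus (m : ℕ) (F : Type*) [Field F] : IsNondegenerateQuadraticForm (quadFormPlus m F) := by
  rw [← LieClassical.OrthForms.coe_plusForm]
  exact H883.Bridge.isNondegenerateQuadraticForm (LieClassical.OrthForms.nondeg_plusForm m F)

theorem nd_minus (m : ℕ) (F : Type*) [Field F] [Finite F] (a b : F)
    (hab : ∀ z₁ z₂ : F, z₁ ^ 2 + a * z₁ * z₂ + b * z₂ ^ 2 = 0 → z₁ = 0 ∧ z₂ = 0) :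
    IsNondegenerateQuadraticForm (quadFormMinus m F a b) := by
  rw [← LieClassical.OrthForms.coe_minusForm]
  exact H883.Bridge.isNondegenerateQuadraticForm (LieClassical.OrthForms.nondeg_minusForm m F a b hab)

/-- `SL_n(F)`, `n ≥ 3`, fixes no alternating form -/
theorem not_fixA_sl {n : ℕ} (hn : 3 ≤ n) : ¬ FixA (specialLinear (Fin n) F) := by
  rintro ⟨f, hf, hP⟩
  let i : Fin n := ⟨0, by omega⟩
  have key : ∀ j : Fin n, j ≠ i → ∀ v w : Fin n → F, w j * f v (Pi.single i 1) + v j * f (Pi.single i 1) w = 0 := by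
    intro j hj v w
    let g : GL (Fin n) F := Matrix.GeneralLinearGroup.mkOfDetNeZero (1 + Matrix.single i j 1) (by
      rw [← Matrix.transvection, Matrix.det_transvection_of_ne i j hj.symm]
      exact one_ne_zero)
    have hg : g ∈ specialLinear (Fin n) F := by
      change Matrix.GeneralLinearGroup.det g = 1
      apply Units.ext
      change (1 + Matrix.single i j (1 : F)).det = 1
      rw [← Matrix.transvection, Matrix.det_transvection_of_ne i j hj.symm]
    have h1 := hP _ ⟨g, hg, rfl⟩ v w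
    have h2 : ∀ v, (g : Matrix (Fin n) (Fin n) F) *ᵥ v = v + v j • Pi.single i 1 := by
      intro v
      change (1 + Matrix.single i j (1 : F)) *ᵥ v = _
      rw [Matrix.add_mulVec, Matrix.one_mulVec]
      congr 1
      ext k
      by_cases hk : k = i
      · subst hk
        rw [Matrix.single_mulVec]
        simp
      · simp [hk, Matrix.single_mulVec]
    simp only [h2] at h1
    rw [hf.bilinear.add_left, hf.bilinear.add_right, hf.bilinear.add_right, hf.bilinear.smul_left,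
      hf.bilinear.smul_right, hf.bilinear.smul_left, hf.bilinear.smul_right, hf.alternating] at h1
    linear_combination h1
  have hne : (Pi.single i 1 : Fin n → F) ≠ 0 := by
    intro h0
    have := congrFun h0 i
    rw [Pi.single_eq_same] at this
    exact one_ne_zero this
  obtain ⟨⟨x, hx⟩, -⟩ := hf.nondegenerate _ hne
  apply hx
  have h0 : ∀ j : Fin n, j ≠ i → ∀ v : Fin n → F, v j = 0 → f v (Pi.single i 1) = 0 := by
    intro j hj v hv
    have h1 := key j hj v (Pi.single j 1)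
    rw [hv, zero_mul, add_zero, Pi.single_eq_same, one_mul] at h1
    exact h1
  let j1 : Fin n := ⟨1, by omega⟩
  let j2 : Fin n := ⟨2, by omega⟩
  have h1 : f (Pi.single j1 1) (Pi.single i 1) = 0 :=
    h0 j2 (by simp [j2, i]) _ (by rw [Pi.single_eq_of_ne (by simp [j1, j2])])
  have h2 : f (x - x j1 • Pi.single j1 1) (Pi.single i 1) = 0 :=
    h0 j1 (by simp [j1, i]) _ (by simp)
  have h3 : x = (x - x j1 • Pi.single j1 1) + x j1 • Pi.single j1 1 := by rw [sub_add_cancel]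
  rw [h3, hf.bilinear.add_left, hf.bilinear.smul_left, h1, h2, mul_zero, add_zero]

section

variable [Finite F] {ι : Type} [Fintype ι] [DecidableEq ι] {P : Subgroup (GL ι F)} {p : ℕ} [hp : Fact p.Prime]
  [CharP F p]

include hp in
theorem psl_twelve (hC : Core P) (hn : Fintype.card ι = 12) {K : Type} [Field K] [Fintype K] [CharP K p]
    (e : Soc P ≃* Matrix.ProjectiveSpecialLinearGroup (Fin 12) K) :
    H912.Rx.re (Fintype.equivFinOfCardEq hn) P = specialLinear (Fin 12) F := by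
  have hC' := H912.Rx.core_re (Fintype.equivFinOfCardEq hn) hC
  exact (H905.Md.psl_eq (l := 11) p hC'.absIrred hC'.perfect (by norm_num) (by norm_num)
    ((H912.Rx.socEquiv (Fintype.equivFinOfCardEq hn)).symm.trans e) hC'.no_subfield rfl).2

/-- a core of type `PSL₁₂` fixes no form -/
theorem psl_not_sd (hC : Core P) (hn : Fintype.card ι = 12) {K : Type} [Field K] [Fintype K] [CharP K p]
    (e : Soc P ≃* Matrix.ProjectiveSpecialLinearGroup (Fin 12) K) (hsd : SD P) : False := by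
  have h1 := psl_twelve (p := p) hC hn e
  rcases hC.forms_of_sd hsd with h | h
  · have h2 := H912.Rx.fixQ_re_of (Fintype.equivFinOfCardEq hn) h
    rw [h1] at h2
    exact H879.Nine.not_fixQ_sl (by norm_num) h2
  · have h2 := H912.Rx.fixA_re_of (Fintype.equivFinOfCardEq hn) h
    rw [h1] at h2
    exact not_fixA_sl (by norm_num) h2

/-- **not self-dual** : `SL₁₂(F)` or `PSU₁₂` -/
theorem own_nsd (hC : Core P) (hn : Fintype.card ι = 12) (hL : IsLieTypeChar p (Soc P)) (hsd : ¬ SD P) :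
    H912.Rx.re (Fintype.equivFinOfCardEq hn) P = specialLinear (Fin 12) F ∨
      ∃ (K : Type) (_ : Field K) (_ : Fintype K) (_ : CharP K p) (q : ℕ), Fintype.card K = q ^ 2 ∧
        Nonempty (Soc P ≃* PSU 12 K q) := by
  rcases own_twelve hC hn hL with ⟨K, iK, iKf, iKp, h4, ⟨e⟩⟩ | ⟨K, iK, iKf, iKp, ⟨e⟩⟩ | h | ⟨-, h, -⟩ | h | h |
    ⟨a, b, hab, h⟩
  · exact (hsd (H875.DefCov.sd_of_psl2 hC p (by omega) e)).elim
  · exact Or.inl (psl_twelve (p := p) hC hn e)
  · exact Or.inr h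
  · exact (hsd h).elim
  · exfalso
    obtain ⟨f, hf, hfix⟩ := h.fixA
    exact hsd (H879.Nine.sd_of_form hf.bilinear hf.nondegenerate hfix)
  · exact (hsd (H879.Nine.sd_of_fixQ (h.fixQ (nd_plus 6 F)))).elim
  · exact (hsd (H879.Nine.sd_of_fixQ (h.fixQ (nd_minus 5 F a b hab)))).elim

end

section rows

variable {ι : Type} [Fintype ι] [DecidableEq ι] {p : ℕ} [hp : Fact p.Prime] [CharP F p]

/-- **linear case** -/
theorem own_sl [Finite F] {H P : Subgroup (GL (Fin 12) F)} (hH : H < specialLinear (Fin 12) F) (hc : IsResidualCore H P)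
    (hsd : ¬ SD P) (hcj : ∀ k, ¬ Cj P (p ^ k)) (hL : IsLieTypeChar p (Soc P)) : False := by
  have := Fintype.ofFinite F
  have hC := core_of_residual hc
  rcases own_twelve hC (Fintype.card_fin 12) hL with ⟨K, iK, iKf, iKp, h4, ⟨e⟩⟩ | ⟨K, iK, iKf, iKp, ⟨e⟩⟩ |
    ⟨K, iK, iKf, iKp, q, hK, ⟨e⟩⟩ | ⟨-, h, -⟩ | h | h | ⟨a, b, hab, h⟩
  · exact (hsd (H875.DefCov.sd_of_psl2 hC p (by omega) e)).elim
  · have h1 := (H905.Md.psl_eq (l := 11) p hC.absIrred hC.perfect (by norm_num) (by norm_num) e hC.no_subfield rfl).2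
    exact absurd hH (not_lt_of_ge (h1 ▸ hc.le))
  · obtain ⟨p', b, hp', hch, hq, hb⟩ := LieClassical.HermBasic.exists_prime_pow hK
    obtain rfl : p' = p := CharP.eq K hch ‹_›
    apply hcj b
    rw [← hq]
    exact H48.NatSU.psu_cj hC p' hK (by omega) (by omega) e
  · exact (hsd h).elim
  · exfalso
    obtain ⟨f, hf, hfix⟩ := h.fixA
    exact hsd (H879.Nine.sd_of_form hf.bilinear hf.nondegenerate hfix)
  · exact (hsd (H879.Nine.sd_of_fixQ (h.fixQ (nd_plus 6 F)))).elim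
  · exact (hsd (H879.Nine.sd_of_fixQ (h.fixQ (nd_minus 5 F a b hab)))).elim

/-- **unitary case** -/
theorem own_su [Fintype F] {q : ℕ} (hF : Fintype.card F = q ^ 2) {H P : Subgroup (GL (Fin 12) F)}
    (hH : H < GU 12 F q ⊓ specialLinear (Fin 12) F) (hc : IsResidualCore H P)
    (hsd : ¬ SD P) (hL : IsLieTypeChar p (Soc P)) : False := by
  have hC := core_of_residual hc
  rcases own_twelve hC (Fintype.card_fin 12) hL with ⟨K, iK, iKf, iKp, h4, ⟨e⟩⟩ | ⟨K, iK, iKf, iKp, ⟨e⟩⟩ |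
    ⟨K, iK, iKf, iKp, q', hK, ⟨e⟩⟩ | ⟨-, h, -⟩ | h | h | ⟨a, b, hab, h⟩
  · exact (hsd (H875.DefCov.sd_of_psl2 hC p (by omega) e)).elim
  · have h1 := (H905.Md.psl_eq (l := 11) p hC.absIrred hC.perfect (by norm_num) (by norm_num) e hC.no_subfield rfl).2
    exact absurd hH (not_lt_of_ge (inf_le_right.trans (h1 ▸ hc.le)))
  · have h1 := (H48.NatSU.psu_eq hC p hF (hc.le.trans (hH.le.trans inf_le_left)) hK (by norm_num) (by omega) e rfl).2
    exact absurd hH (not_lt_of_ge (h1 ▸ hc.le))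
  · exact (hsd h).elim
  · exfalso
    obtain ⟨f, hf, hfix⟩ := h.fixA
    exact hsd (H879.Nine.sd_of_form hf.bilinear hf.nondegenerate hfix)
  · exact (hsd (H879.Nine.sd_of_fixQ (h.fixQ (nd_plus 6 F)))).elim
  · exact (hsd (H879.Nine.sd_of_fixQ (h.fixQ (nd_minus 5 F a b hab)))).elim

end rows

/-- **symplectic case** (S5869) -/
theorem own_sp [Fintype F] {p : ℕ} {H P : Subgroup (GL (Fin 6 ⊕ Fin 6) F)} (h : S12.Cx p H P)
    (hL : IsLieTypeChar p (Soc P)) : S12.Concl P p := by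
  have := h.char
  have hp : Fact p.Prime := ⟨h.prime⟩
  have hn : Fintype.card (Fin 6 ⊕ Fin 6) = 12 := rfl
  rcases own_twelve h.core hn hL with ⟨K, iK, iKf, iKp, h4, ⟨e⟩⟩ | ⟨K, iK, iKf, iKp, ⟨e⟩⟩ |
    ⟨K, iK, iKf, iKp, q, hK, ⟨e⟩⟩ | ⟨h5, -, -, -, K, iK, iKf, iKp, hFK, ⟨e⟩⟩ | h1 | h1 | ⟨a, b, hab, h1⟩
  · have h1 := H875.PslRows.sp_twelve p h.hH h.hc e
    exact Or.inr (Or.inr (Or.inr (Or.inr (Or.inr (Or.inr (Or.inr (Or.inl h1)))))))
  · exact (psl_not_sd (p := p) h.core hn e h.sd).elim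
  · exact (own_psu_seven (p := p) (by rw [hn]; norm_num) h.core h.sd (by norm_num) hK e).elim
  · have h3 : 3 ≤ Nat.card K := by
      rw [Nat.card_eq_fintype_card]
      obtain ⟨k, -, hk⟩ := FiniteField.card K p
      rw [hk, h5]
      calc 3 ≤ 5 ^ 1 := by norm_num
        _ ≤ 5 ^ (k : ℕ) := Nat.pow_le_pow_right (by norm_num) k.pos
    have h4 := H905.Sp4.psp4_equiv p h.core h3 e (by rw [hn])
    exact Or.inr (Or.inr (Or.inr (Or.inr (Or.inr (Or.inr (Or.inr (Or.inr ⟨h4, h5⟩)))))))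
  · exact (CjOf.not_maximal_sp h.hc h1 h.hH).elim
  · exact (h.hQ (h1.fixQ (nd_plus 6 F))).elim
  · exact (h.hQ (h1.fixQ (nd_minus 5 F a b hab))).elim

/-- **orthogonal case** (S5872, S5875) -/
theorem dc_false [Finite F] {p : ℕ} {Q : (Fin 12 → F) → F} {H P : Subgroup (GL (Fin 12) F)}
    (h : H114.O12.Cx p Q H P) (hL : IsLieTypeChar p (Soc P)) : False := by
  have := Fintype.ofFinite F
  have := h.char
  have hp : Fact p.Prime := ⟨h.prime⟩
  have hn : Fintype.card (Fin 12) = 12 := rfl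
  rcases own_twelve h.core hn hL with ⟨K, iK, iKf, iKp, h4, ⟨e⟩⟩ | ⟨K, iK, iKf, iKp, ⟨e⟩⟩ |
    ⟨K, iK, iKf, iKp, q, hK, ⟨e⟩⟩ | ⟨-, -, -, h1, -⟩ | h1 | h1 | ⟨a, b, hab, h1⟩
  · exact H875.PslRows.omega_row p h.hQ (Or.inr hn) h.hH h.hc e
  · exact psl_not_sd (p := p) h.core hn e h.sd
  · exact own_psu_seven (p := p) (by rw [hn]; norm_num) h.core h.sd (by norm_num) hK e
  · exact h1 h.fixQ
  · exact h1.sp_not_fixQ (by norm_num) h.fixQ
  · exact h1.not_maximal_omega h.hc (nd_plus 6 F) h.hQ h.hH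
  · exact h1.not_maximal_omega h.hc (nd_minus 5 F a b hab) h.hQ h.hH

end Cfsg.Agent.H922.Own
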