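import Mathlib
import Cfsg.Prelude.Def_GeometricClasses
import Cfsg.Agent.H922.OddBase

/-!
An adjoint-closed field subalgebra of odd degree is self-adjoint (symmetric bilinear form,
characteristic not two).
-/

set_option autoImplicit false
set_option linter.unusedSectionVars false

namespace Cfsg.Agent.H922

open Cfsg Cfsg.Geo
open scoped MatrixGroups Matrix

variable {ι : Type} [Fintype ι] [DecidableEq ι] {F : Type*} [Field F]

/-- The adjoint of a matrix is unique. -/
theorem adjoint_unique {f : (ι → F) → (ι → F) → F} (hf : IsBilinearForm f)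
    (hn : IsNondegenerateForm f) {a b : Matrix ι ι F}
    (h : ∀ u v : ι → F, f u (a *ᵥ v) = f u (b *ᵥ v)) : a = b := by
  have h1 : ∀ v, a *ᵥ v = b *ᵥ v := by
    intro v
    by_contra hne
    have h0 : a *ᵥ v - b *ᵥ v ≠ 0 := sub_ne_zero.2 hne
    obtain ⟨x, hx⟩ := (hn _ h0).1
    apply hx
    have hb := hf.add_right x (a *ᵥ v - b *ᵥ v) (b *ᵥ v)
    rw [sub_add_cancel, h x v] at hb
    linear_combination -hb
  exact Matrix.toLin'.injective (LinearMap.ext fun v => by simpa [Matrix.toLin'_apply] using h1 v)

theorem isSelfAdjointFor_of_odd {f : (ι → F) → (ι → F) → F} (hf : IsBilinearForm f)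
    (hsymm : ∀ u v, f u v = f v u) (hn : IsNondegenerateForm f) (h2 : (2 : F) ≠ 0)
    {r : ℕ} (hr : Odd r) {K : Subalgebra F (Matrix ι ι F)} (hK : IsFieldSubalgebra r K)
    (hadj : IsAdjointClosedFor f K) : IsSelfAdjointFor f K := by
  classical
  choose! st hst hadj' using hadj
  -- basic properties of the adjoint
  have hadd : ∀ x ∈ K, ∀ y ∈ K, st (x + y) = st x + st y := by
    intro x hx y hy
    apply adjoint_unique hf hn
    intro u v
    rw [← hadj' _ (K.add_mem hx hy) u v, Matrix.add_mulVec, hf.add_left, Matrix.add_mulVec,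
      hf.add_right, hadj' x hx, hadj' y hy]
  have hsmul : ∀ c : F, ∀ x ∈ K, st (c • x) = c • st x := by
    intro c x hx
    apply adjoint_unique hf hn
    intro u v
    rw [← hadj' _ (K.smul_mem hx c) u v, Matrix.smul_mulVec, hf.smul_left, Matrix.smul_mulVec,
      hf.smul_right, hadj' x hx]
  have hmul : ∀ x ∈ K, ∀ y ∈ K, st (x * y) = st y * st x := by
    intro x hx y hy
    apply adjoint_unique hf hn
    intro u v
    rw [← hadj' _ (K.mul_mem hx hy) u v, ← Matrix.mulVec_mulVec, hadj' x hx, hadj' y hy,
      Matrix.mulVec_mulVec]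
  have hinv : ∀ x ∈ K, st (st x) = x := by
    intro x hx
    apply adjoint_unique hf hn
    intro u v
    rw [← hadj' _ (hst x hx) u v, hsymm (st x *ᵥ u) v, ← hadj' x hx v u, hsymm]
  -- the linear endomorphism of K
  let T : K →ₗ[F] K :=
    { toFun := fun x => ⟨st x.1, hst x.1 x.2⟩
      map_add' := fun x y => Subtype.ext (hadd x.1 x.2 y.1 y.2)
      map_smul' := fun c x => Subtype.ext (hsmul c x.1 x.2) }
  have hTT : ∀ x : K, T (T x) = x := fun x => Subtype.ext (hinv x.1 x.2)
  have hTapp : ∀ x : K, ((T x : K) : Matrix ι ι F) = st x.1 := fun x => rfl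
  -- plus and minus parts
  let Kp : Submodule F K := LinearMap.ker (T - LinearMap.id)
  let Km : Submodule F K := LinearMap.ker (T + LinearMap.id)
  have hp : ∀ x : K, x ∈ Kp ↔ T x = x := by
    intro x
    simp [Kp, LinearMap.mem_ker, sub_eq_zero]
  have hm : ∀ x : K, x ∈ Km ↔ T x = -x := by
    intro x
    simp [Km, LinearMap.mem_ker, add_eq_zero_iff_eq_neg]
  by_cases hKm : Km = ⊥
  · -- T = id
    have hT : ∀ x : K, T x = x := by
      intro x
      have h1 : T x - x ∈ Km := by
        rw [hm, map_sub, hTT]; abel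
      rw [hKm, Submodule.mem_bot, sub_eq_zero] at h1
      exact h1
    intro k hk u v
    rw [hadj' k hk u v]
    have := congrArg (fun z : K => (z : Matrix ι ι F)) (hT ⟨k, hk⟩)
    simp only [hTapp] at this
    rw [this]
  · exfalso
    obtain ⟨y, hy, hy0⟩ := Submodule.exists_mem_ne_zero_of_ne_bot hKm
    have hy0' : (y : Matrix ι ι F) ≠ 0 := fun h => hy0 (Subtype.ext h)
    obtain ⟨z, hz, hyz⟩ := hK.inv y.1 y.2 hy0'
    have hmy : T y = -y := (hm y).1 hy
    have hTmul : ∀ a b : K, T (a * b) = T a * T b := by
      intro a b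
      apply Subtype.ext
      show st (a.1 * b.1) = st a.1 * st b.1
      rw [hmul a.1 a.2 b.1 b.2]
      exact hK.comm _ (hst _ b.2) _ (hst _ a.2)
    -- multiplication by y
    have hinj : ∀ a b : K, y * a = y * b → a = b := by
      intro a b hab
      have h1 : (z * (y : Matrix ι ι F)) = 1 := by
        rw [hK.comm z hz y.1 y.2]; exact hyz
      apply Subtype.ext
      have h3 := congrArg (fun w : K => z * (w : Matrix ι ι F)) hab
      simp only [Subalgebra.coe_mul, ← mul_assoc, h1, one_mul] at h3
      exact h3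
    let M : K →ₗ[F] K := LinearMap.mulLeft F y
    have hMapp : ∀ a : K, M a = y * a := fun a => rfl
    have hMinj : Function.Injective M := fun a b h => hinj a b h
    have hpm : ∀ a ∈ Kp, M a ∈ Km := by
      intro a ha
      rw [hp] at ha
      rw [hm, hMapp, hTmul, hmy, ha]
      exact Subtype.ext (by show -(y : Matrix ι ι F) * a.1 = -(y.1 * a.1); rw [neg_mul])
    have hmp : ∀ a ∈ Km, M a ∈ Kp := by
      intro a ha
      rw [hm] at ha
      rw [hp, hMapp, hTmul, hmy, ha]
      exact Subtype.ext (by show -(y : Matrix ι ι F) * -a.1 = y.1 * a.1; rw [neg_mul_neg])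
    have hfin : Module.Finite F K := inferInstance
    have hle1 : Module.finrank F Kp ≤ Module.finrank F Km := by
      refine LinearMap.finrank_le_finrank_of_injective
        (f := (M.restrict hpm : Kp →ₗ[F] Km)) ?_
      intro a b h
      apply Subtype.ext
      apply hMinj
      exact congrArg Subtype.val h
    have hle2 : Module.finrank F Km ≤ Module.finrank F Kp := by
      refine LinearMap.finrank_le_finrank_of_injective
        (f := (M.restrict hmp : Km →ₗ[F] Kp)) ?_
      intro a b h
      apply Subtype.ext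
      apply hMinj
      exact congrArg Subtype.val h
    have hcompl : IsCompl Kp Km := by
      constructor
      · rw [Submodule.disjoint_def]
        intro x hx1 hx2
        rw [hp] at hx1
        rw [hm, hx1] at hx2
        have h3 : (2 : F) • x = 0 := by
          rw [two_smul]; nth_rewrite 1 [hx2]; simp
        rcases smul_eq_zero.1 h3 with h4 | h4
        · exact absurd h4 h2
        · exact h4
      · rw [codisjoint_iff, eq_top_iff]
        intro x _
        rw [Submodule.mem_sup]
        refine ⟨(2 : F)⁻¹ • (x + T x), ?_, (2 : F)⁻¹ • (x - T x), ?_, ?_⟩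
        · rw [hp, map_smul, map_add, hTT, add_comm (T x) x]
        · rw [hm, map_smul, map_sub, hTT, ← smul_neg, neg_sub]
        · rw [← smul_add]
          have : x + T x + (x - T x) = (2 : F) • x := by rw [two_smul]; abel
          rw [this, smul_smul, inv_mul_cancel₀ h2, one_smul]
    have hsum := Submodule.finrank_add_eq_of_isCompl hcompl
    rw [hK.finrank_eq] at hsum
    obtain ⟨k, hk⟩ := hr
    omega

end Cfsg.Agent.H922
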