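import Mathlib
import Cfsg.Prelude.Def_GeometricClasses
import Cfsg.Agent.H922.OddBase
import Cfsg.Agent.H922.OddField
import Cfsg.Agent.H922.OddDecomp
import Cfsg.Agent.H924.Adj
import Cfsg.Agent.H907.Schur
import Cfsg.Agent.H912.Core1

/-!
A group of isometries in odd prime dimension `r` normalising a self-adjoint field of degree `r`
is reducible.
-/

set_option autoImplicit false
set_option linter.unusedSectionVars false
set_option linter.style.haveILetI false

namespace Cfsg.Agent.H922

open Cfsg Cfsg.Geo Module Cfsg.Agent.H919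
open scoped MatrixGroups Matrix

variable {ι : Type} [Fintype ι] [DecidableEq ι] {F : Type*} [Field F]

/-- The polar form of a nondegenerate quadratic form as a `HermForm`. -/
theorem hermForm_polar {Q : (ι → F) → F} (hQ : IsNondegenerateQuadraticForm Q) :
    HermForm (RingEquiv.refl F) 1 (QuadraticMap.polar Q) where
  add_left := hQ.polar_bilinear.add_left
  smul_left := hQ.polar_bilinear.smul_left
  sigma_sq _ := rfl
  eps := by simp
  herm v w := by rw [one_mul]; exact polar_symm Q v w
  nondegenerate := hQ.nondegenerate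

/-- A field subalgebra of full degree is its own centraliser. -/
theorem mem_of_commute {K : Subalgebra F (Matrix ι ι F)}
    (hK : IsFieldSubalgebra (Fintype.card ι) K) (hne : 0 < Fintype.card ι) {g : Matrix ι ι F}
    (hg : ∀ k ∈ K, g * k = k * g) : g ∈ K := by
  classical
  haveI : Nonempty ι := Fintype.card_pos_iff.1 hne
  obtain ⟨i⟩ := ‹Nonempty ι›
  let v : ι → F := Pi.single i 1
  have hv : v ≠ 0 := by
    intro h; have := congrFun h i; simp [v] at this
  let L : K →ₗ[F] (ι → F) :=
    { toFun := fun k => (k : Matrix ι ι F) *ᵥ v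
      map_add' := fun a b => by rw [Subalgebra.coe_add, Matrix.add_mulVec]
      map_smul' := fun c a => by rw [Subalgebra.coe_smul, Matrix.smul_mulVec]; rfl }
  have hL : ∀ k : K, L k = (k : Matrix ι ι F) *ᵥ v := fun _ => rfl
  have hinj : Function.Injective L := by
    rw [injective_iff_map_eq_zero]
    intro k hk
    by_contra h0
    obtain ⟨y, hy, hy1⟩ := hK.inv k.1 k.2 (fun h => h0 (Subtype.ext h))
    rw [hK.comm k.1 k.2 y hy] at hy1
    apply hv
    have h1 : (y * k.1) *ᵥ v = 0 := by
      rw [← Matrix.mulVec_mulVec, ← hL, hk, Matrix.mulVec_zero]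
    rwa [hy1, Matrix.one_mulVec] at h1
  haveI : Module.Finite F K := inferInstance
  have hsurj : Function.Surjective L := by
    rw [← LinearMap.range_eq_top]
    apply Submodule.eq_top_of_finrank_eq
    rw [LinearMap.finrank_range_of_inj hinj, hK.finrank_eq, finrank_fintype_fun_eq_card]
  obtain ⟨k, hk⟩ := hsurj (g *ᵥ v)
  rw [hL] at hk
  have hgk : g = k := by
    apply Matrix.toLin'.injective
    apply LinearMap.ext
    intro u
    obtain ⟨k', hk'⟩ := hsurj u
    rw [hL] at hk'
    rw [Matrix.toLin'_apply, Matrix.toLin'_apply, ← hk', Matrix.mulVec_mulVec,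
      Matrix.mulVec_mulVec, hg k'.1 k'.2, hK.comm k.1 k.2 k'.1 k'.2, ← Matrix.mulVec_mulVec,
      ← Matrix.mulVec_mulVec, hk]
  rw [hgk]; exact k.2

/-- A self-adjoint isometry lying in a field subalgebra is `±1`. -/
theorem eq_one_or_neg_one {f : (ι → F) → (ι → F) → F} (hf : IsBilinearForm f)
    (hn : IsNondegenerateForm f) {r : ℕ} {K : Subalgebra F (Matrix ι ι F)}
    (hK : IsFieldSubalgebra r K) (hsa : IsSelfAdjointFor f K) {g : Matrix ι ι F} (hgK : g ∈ K)
    (hg : ∀ u v, f (g *ᵥ u) (g *ᵥ v) = f u v) : g = 1 ∨ g = -1 := by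
  have h1 : g * g = 1 := by
    apply adjoint_unique hf hn
    intro u v
    rw [Matrix.one_mulVec, ← Matrix.mulVec_mulVec, ← hsa g hgK, hg]
  have h2 : (g - 1) * (g + 1) = 0 := by
    rw [sub_mul, mul_add, h1, one_mul, mul_one]; abel
  by_cases h3 : g - 1 = 0
  · left; exact sub_eq_zero.1 h3
  · right
    obtain ⟨y, hy, hy1⟩ := hK.inv _ (K.sub_mem hgK K.one_mem) h3
    rw [hK.comm _ (K.sub_mem hgK K.one_mem) y hy] at hy1
    have h4 : y * ((g - 1) * (g + 1)) = 0 := by rw [h2, mul_zero]
    rw [← mul_assoc, hy1, one_mul] at h4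
    exact eq_neg_of_add_eq_zero_left h4

/-- The automorphism of a subalgebra induced by an element of its normaliser. -/
noncomputable def conjK (K : Subalgebra F (Matrix ι ι F)) (g : GL ι F)
    (hg : g ∈ subalgebraNormalizer K) : K ≃ₐ[F] K :=
  AlgEquiv.ofAlgHom
    (((Cfsg.Agent.H912.conjAlg g : Matrix ι ι F →ₐ[F] Matrix ι ι F).comp K.val).codRestrict K
      (fun x => (hg x.1).1 x.2))
    (((Cfsg.Agent.H912.conjAlg g⁻¹ : Matrix ι ι F →ₐ[F] Matrix ι ι F).comp K.val).codRestrict K
      (fun x => ((Subgroup.inv_mem _ hg) x.1).1 x.2))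
    (by
      ext x : 1
      apply Subtype.ext
      show (g : Matrix ι ι F) * (((g⁻¹ : GL ι F) : Matrix ι ι F) * x.1 *
        (((g⁻¹)⁻¹ : GL ι F) : Matrix ι ι F)) * ((g⁻¹ : GL ι F) : Matrix ι ι F) = x.1
      rw [inv_inv]
      simp only [mul_assoc, Units.mul_inv, mul_one]
      rw [← mul_assoc, Units.mul_inv, one_mul])
    (by
      ext x : 1
      apply Subtype.ext
      show ((g⁻¹ : GL ι F) : Matrix ι ι F) * ((g : Matrix ι ι F) * x.1 *
        ((g⁻¹ : GL ι F) : Matrix ι ι F)) * (((g⁻¹)⁻¹ : GL ι F) : Matrix ι ι F) = x.1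
      rw [inv_inv]
      simp only [mul_assoc, Units.inv_mul, mul_one]
      rw [← mul_assoc, Units.inv_mul, one_mul])

theorem conjK_apply (K : Subalgebra F (Matrix ι ι F)) (g : GL ι F)
    (hg : g ∈ subalgebraNormalizer K) (x : K) :
    ((conjK K g hg x : K) : Matrix ι ι F) =
      (g : Matrix ι ι F) * x.1 * ((g⁻¹ : GL ι F) : Matrix ι ι F) := rfl

/-- Commutators of elements normalising a field subalgebra centralise it. -/
theorem commutator_centralises [Finite F] {r : ℕ} {K : Subalgebra F (Matrix ι ι F)}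
    (hK : IsFieldSubalgebra r K) (hne : 0 < Fintype.card ι) {g h : GL ι F}
    (hg : g ∈ subalgebraNormalizer K) (hh : h ∈ subalgebraNormalizer K) :
    ∀ k ∈ K, ((g * h : GL ι F) : Matrix ι ι F) * k * (((g * h)⁻¹ : GL ι F) : Matrix ι ι F) =
      ((h * g : GL ι F) : Matrix ι ι F) * k * (((h * g)⁻¹ : GL ι F) : Matrix ι ι F) := by
  haveI : Nonempty ι := Fintype.card_pos_iff.1 hne
  have hfield : IsField K :=
    { exists_pair_ne := ⟨0, 1, fun h => by
        have := congrArg Subtype.val h
        exact zero_ne_one (α := Matrix ι ι F) this⟩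
      mul_comm := fun x y => Subtype.ext (hK.comm x.1 x.2 y.1 y.2)
      mul_inv_cancel := fun {x} hx => by
        obtain ⟨y, hy, hxy⟩ := hK.inv x.1 x.2 (fun h => hx (Subtype.ext h))
        exact ⟨⟨y, hy⟩, Subtype.ext hxy⟩ }
  letI : Field K := hfield.toField
  haveI : Finite K := Module.finite_of_finite F
  have hcyc : IsCyclic (K ≃ₐ[F] K) := inferInstance
  have hcomm : conjK K g hg * conjK K h hh = conjK K h hh * conjK K g hg := by
    letI := IsCyclic.commGroup (α := K ≃ₐ[F] K)
    exact mul_comm _ _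
  intro k hk
  have h1 := congrArg (fun φ : K ≃ₐ[F] K => ((φ ⟨k, hk⟩ : K) : Matrix ι ι F)) hcomm
  simp only [AlgEquiv.mul_apply] at h1
  rw [conjK_apply, conjK_apply, conjK_apply, conjK_apply] at h1
  rw [mul_inv_rev, mul_inv_rev, Units.val_mul, Units.val_mul, Units.val_mul, Units.val_mul]
  simp only [mul_assoc] at h1 ⊢
  exact h1

/-- In odd prime dimension a group of isometries normalising a self-adjoint field of full degree
is reducible. -/
theorem not_irreducible_of_full_degree [Finite F] {Q : (ι → F) → F}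
    (hQ : IsNondegenerateQuadraticForm Q) (h2 : (2 : F) ≠ 0) (hp : (Fintype.card ι).Prime)
    (hodd : Odd (Fintype.card ι)) {K : Subalgebra F (Matrix ι ι F)}
    (hK : IsFieldSubalgebra (Fintype.card ι) K)
    (hsa : IsSelfAdjointFor (QuadraticMap.polar Q) K) {H : Subgroup (GL ι F)}
    (hI : H ≤ isometryGroup F Q) (hH : H ≤ subalgebraNormalizer K) :
    ¬ ActsIrreducibly (matrixSet H) := by
  intro hirr
  haveI : Nonempty ι := Fintype.card_pos_iff.1 hp.pos
  have hbf := hQ.polar_bilinear
  -- H is abelian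
  have hab : ∀ a ∈ H, ∀ b ∈ H, a * b = b * a := by
    intro a ha b hb
    set c : GL ι F := (b * a)⁻¹ * (a * b) with hc
    have hcH : c ∈ H := H.mul_mem (H.inv_mem (H.mul_mem hb ha)) (H.mul_mem ha hb)
    have hcc : ∀ k ∈ K, (c : Matrix ι ι F) * k = k * (c : Matrix ι ι F) := by
      intro k hk
      have h1 := commutator_centralises hK hp.pos (hH ha) (hH hb) k hk
      have h2 : ((a * b : GL ι F) : Matrix ι ι F) = ((b * a : GL ι F) : Matrix ι ι F) *
          (c : Matrix ι ι F) := by
        rw [← Units.val_mul, hc, mul_inv_cancel_left]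
      have h3 : ((a * b : GL ι F) : Matrix ι ι F) * k =
          ((b * a : GL ι F) : Matrix ι ι F) * k * (((b * a)⁻¹ : GL ι F) : Matrix ι ι F) *
          ((a * b : GL ι F) : Matrix ι ι F) := by
        rw [← h1, mul_assoc _ _ ((a * b : GL ι F) : Matrix ι ι F), Units.inv_mul, mul_one]
      have h4 : (((b * a)⁻¹ : GL ι F) : Matrix ι ι F) * (((a * b : GL ι F) : Matrix ι ι F) * k) =
          k * ((((b * a)⁻¹ : GL ι F) : Matrix ι ι F) * ((a * b : GL ι F) : Matrix ι ι F)) := by
        rw [h3]
        simp only [← mul_assoc, Units.inv_mul, one_mul]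
      rw [hc, Units.val_mul, mul_assoc]
      exact h4
    have hcK : (c : Matrix ι ι F) ∈ K := mem_of_commute hK hp.pos hcc
    have hdet : Matrix.det (c : Matrix ι ι F) = 1 := by
      have h5 : Matrix.GeneralLinearGroup.det c = 1 := by
        rw [hc, map_mul, map_inv, map_mul, map_mul, mul_comm (Matrix.GeneralLinearGroup.det b)]
        exact inv_mul_cancel _
      have := congrArg (fun u : Fˣ => (u : F)) h5
      simpa using this
    rcases eq_one_or_neg_one hbf hQ.nondegenerate hK hsa hcK
      (fun u v => polar_of_mem (hI hcH) u v) with h6 | h6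
    · have : c = 1 := Units.ext h6
      rw [hc, inv_mul_eq_one] at this
      exact this.symm
    · exfalso
      rw [h6, Matrix.det_neg, Matrix.det_one, hodd.neg_one_pow, mul_one] at hdet
      apply h2
      linear_combination -hdet
  -- the enveloping field
  have hL := Cfsg.Agent.H907.isField_adjoin hp rfl hirr hab
  have hLadj : IsAdjointClosedFor (QuadraticMap.polar Q) (Algebra.adjoin F (matrixSet H)) :=
    Cfsg.Agent.H924.isAdjointClosedFor_env (hermForm_polar hQ)
      (fun g hg u v => polar_of_mem (hI hg) u v)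
  have hLsa := isSelfAdjointFor_of_odd hbf (polar_symm Q) hQ.nondegenerate h2 hodd hL hLadj
  have hpm : ∀ g ∈ H, (g : Matrix ι ι F) = 1 ∨ (g : Matrix ι ι F) = -1 := by
    intro g hg
    exact eq_one_or_neg_one hbf hQ.nondegenerate hL hLsa (Algebra.subset_adjoin ⟨g, hg, rfl⟩)
      (fun u v => polar_of_mem (hI hg) u v)
  -- reducible
  obtain ⟨i⟩ := ‹Nonempty ι›
  let v : ι → F := Pi.single i 1
  have hv : v ≠ 0 := by
    intro h; have := congrFun h i; simp [v] at this
  rcases hirr (Submodule.span F {v}) (by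
      rintro _ ⟨g, hg, rfl⟩
      rw [Submodule.map_span_le]
      intro w hw
      rw [Set.mem_singleton_iff.1 hw, Matrix.toLin'_apply]
      rcases hpm g hg with h | h
      · simp only [h, Matrix.one_mulVec]; exact Submodule.mem_span_singleton_self v
      · simp only [h, Matrix.neg_mulVec, Matrix.one_mulVec]
        exact Submodule.neg_mem _ (Submodule.mem_span_singleton_self v)) with h | h
  · rw [Submodule.span_singleton_eq_bot] at h
    exact hv h
  · have h7 := congrArg (fun W : Submodule F (ι → F) => finrank F W) h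
    simp only [finrank_span_singleton hv, finrank_top, finrank_fintype_fun_eq_card] at h7
    exact hp.one_lt.ne h7

end Cfsg.Agent.H922
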