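import Mathlib
import Cfsg.Prelude.Def_GeometricClasses
import Cfsg.Agent.H922.OddBase
import Cfsg.Agent.H922.OddSubfield
import Cfsg.Agent.LieClassical.OrthForms

/-!
The standard odd-dimensional form `quadFormOdd m F`: non-degeneracy, Gram matrix in every subfield.
-/

set_option autoImplicit false
set_option linter.unusedSectionVars false

namespace Cfsg.Agent.H922

open Cfsg Cfsg.Geo Module
open scoped MatrixGroups Matrix

variable {F : Type*} [Field F]

theorem isNondegenerateQuadraticForm_quadFormOdd (m : ℕ) (h2 : (2 : F) ≠ 0) :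
    IsNondegenerateQuadraticForm (quadFormOdd m F) := by
  have hcoe := Cfsg.Agent.LieClassical.OrthForms.coe_oddForm m F
  rw [← hcoe]
  refine ⟨?_, ?_, ?_⟩
  · intro c v
    rw [QuadraticMap.map_smul, smul_eq_mul, pow_two]
  · refine ⟨?_, ?_, ?_, ?_⟩
    · intro x y v; exact QuadraticMap.polar_add_left _ x y v
    · intro c x v; exact QuadraticMap.polar_smul_left _ c x v
    · intro v x y; exact QuadraticMap.polar_add_right _ v x y
    · intro c v x; exact QuadraticMap.polar_smul_right _ c v x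
  · intro v hv
    have h := Cfsg.Agent.LieClassical.OrthForms.nondeg_oddForm m F h2
    have h1 : ∃ x, QuadraticMap.polar (Cfsg.Agent.LieClassical.OrthForms.oddForm m F) v x ≠ 0 := by
      by_contra hcon
      push Not at hcon
      exact hv (h v hcon)
    obtain ⟨x, hx⟩ := h1
    exact ⟨⟨x, by rwa [QuadraticMap.polar_comm]⟩, ⟨x, hx⟩⟩

theorem gram_quadFormOdd_mem (m : ℕ) (F₁ : Subfield F) :
    (gramMatrix (QuadraticMap.polar (quadFormOdd m F))).det ∈ F₁ := by
  apply det_mem_of_entries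
  intro i j
  have hcoe := Cfsg.Agent.LieClassical.OrthForms.coe_oddForm m F
  rw [gramMatrix, ← hcoe, Cfsg.Agent.LieClassical.OrthForms.polar_oddForm]
  have hs : ∀ i : Unit ⊕ (Fin m ⊕ Fin m), ∀ l, (Pi.single i 1 : Unit ⊕ (Fin m ⊕ Fin m) → F) l ∈ F₁ := by
    intro i l
    by_cases h : l = i
    · subst h; rw [Pi.single_eq_same]; exact F₁.one_mem
    · rw [Pi.single_eq_of_ne h]; exact F₁.zero_mem
  have h2F : (2 : F) ∈ F₁ := by
    have : (2 : F) = 1 + 1 := by norm_num
    rw [this]; exact F₁.add_mem F₁.one_mem F₁.one_mem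
  refine F₁.add_mem (F₁.mul_mem (F₁.mul_mem h2F (hs _ _)) (hs _ _)) (F₁.sum_mem fun k _ => ?_)
  exact F₁.add_mem (F₁.mul_mem (hs _ _) (hs _ _)) (F₁.mul_mem (hs _ _) (hs _ _))

end Cfsg.Agent.H922
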