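import Mathlib
import Cfsg.Prelude.Def_GeometricClasses
import Cfsg.Agent.H922.OddBase
import Cfsg.Agent.H922.OddSubfield
import Cfsg.Agent.H922.OddThree
import Cfsg.Agent.H922.OddTensor

/-!
A tensor decomposition with two factors of the same odd dimension carrying symmetric forms is a
tensor square: the forms are similar.  Skew forms do not exist in odd dimension.
-/

set_option autoImplicit false
set_option linter.unusedSectionVars false

namespace Cfsg.Agent.H922

open Cfsg Cfsg.Geo Module Cfsg.Agent.H919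
open scoped MatrixGroups Matrix Kronecker

variable {F : Type*} [Field F]

/-- Symmetric forms on the same odd-dimensional space over a finite field are similar. -/
theorem exists_similarity [Finite F] (h2 : (2 : F) ≠ 0) {k : ℕ} (hk : Odd k)
    {f₁ f₂ : (Fin k → F) → (Fin k → F) → F} (hf₁ : IsSymmetricForm f₁) (hf₂ : IsSymmetricForm f₂) :
    ∃ (g : GL (Fin k) F) (c : F), c ≠ 0 ∧
      (g : Matrix (Fin k) (Fin k) F)ᵀ * gramMatrix f₂ * (g : Matrix (Fin k) (Fin k) F) =
        c • gramMatrix f₁ := by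
  obtain ⟨d₁, v, hd₁, hv⟩ := exists_basis_const h2 (toBilin hf₁.bilinear)
    ⟨fun x y => hf₁.symm x y⟩ (toBilin_nondegenerate hf₁.bilinear hf₁.nondegenerate) (n := k)
    hk (by rw [finrank_fintype_fun_eq_card, Fintype.card_fin])
  obtain ⟨d₂, w, hd₂, hw⟩ := exists_basis_const h2 (toBilin hf₂.bilinear)
    ⟨fun x y => hf₂.symm x y⟩ (toBilin_nondegenerate hf₂.bilinear hf₂.nondegenerate) (n := k)
    hk (by rw [finrank_fintype_fun_eq_card, Fintype.card_fin])
  let E : (Fin k → F) ≃ₗ[F] (Fin k → F) := v.equiv w (Equiv.refl _)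
  let M : Matrix (Fin k) (Fin k) F := LinearMap.toMatrix' (E : (Fin k → F) →ₗ[F] (Fin k → F))
  let M' : Matrix (Fin k) (Fin k) F := LinearMap.toMatrix' (E.symm : (Fin k → F) →ₗ[F] (Fin k → F))
  have hMM' : M * M' = 1 := by
    show LinearMap.toMatrix' _ * LinearMap.toMatrix' _ = 1
    rw [← LinearMap.toMatrix'_comp]
    simp
  have hM'M : M' * M = 1 := by
    show LinearMap.toMatrix' _ * LinearMap.toMatrix' _ = 1
    rw [← LinearMap.toMatrix'_comp]
    simp
  let g : GL (Fin k) F := ⟨M, M', hMM', hM'M⟩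
  refine ⟨g, d₂ / d₁, div_ne_zero hd₂ hd₁, ?_⟩
  have hg : ∀ x, (g : Matrix (Fin k) (Fin k) F) *ᵥ x = E x := by
    intro x
    show LinearMap.toMatrix' (E : (Fin k → F) →ₗ[F] (Fin k → F)) *ᵥ x = _
    rw [LinearMap.toMatrix'_mulVec]
    rfl
  have hbil : (toBilin hf₂.bilinear).comp (E : (Fin k → F) →ₗ[F] (Fin k → F))
      (E : (Fin k → F) →ₗ[F] (Fin k → F)) = (d₂ / d₁) • toBilin hf₁.bilinear := by
    apply LinearMap.BilinForm.ext_basis v
    intro i j
    rw [LinearMap.BilinForm.comp_apply, LinearMap.smul_apply, LinearMap.smul_apply, hv]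
    have hE : ∀ i, (E : (Fin k → F) →ₗ[F] (Fin k → F)) (v i) = w i := by
      intro i
      show v.equiv w (Equiv.refl _) (v i) = w i
      rw [Basis.equiv_apply]; rfl
    rw [hE, hE, hw]
    by_cases h : i = j
    · rw [if_pos h, if_pos h, smul_eq_mul, div_mul_cancel₀ _ hd₁]
    · rw [if_neg h, if_neg h, smul_zero]
  rw [← gramMatrix_comp hf₂.bilinear]
  ext i j
  show f₂ ((g : Matrix (Fin k) (Fin k) F) *ᵥ _) ((g : Matrix (Fin k) (Fin k) F) *ᵥ _) = _
  rw [hg, hg]
  have h5 := congrArg (fun B : LinearMap.BilinForm F (Fin k → F) => B (Pi.single i 1) (Pi.single j 1)) hbil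
  exact h5

/-- The Kronecker product of invertible matrices. -/
def kronGL {k l : ℕ} (a : GL (Fin k) F) (b : GL (Fin l) F) : GL (Fin k × Fin l) F where
  val := (a : Matrix _ _ F) ⊗ₖ (b : Matrix _ _ F)
  inv := ((a⁻¹ : GL (Fin k) F) : Matrix _ _ F) ⊗ₖ ((b⁻¹ : GL (Fin l) F) : Matrix _ _ F)
  val_inv := by
    rw [← Matrix.mul_kronecker_mul, ← Units.val_mul, ← Units.val_mul, mul_inv_cancel,
      mul_inv_cancel, Units.val_one, Units.val_one, Matrix.one_kronecker_one]
  inv_val := by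
    rw [← Matrix.mul_kronecker_mul, ← Units.val_mul, ← Units.val_mul, inv_mul_cancel,
      inv_mul_cancel, Units.val_one, Units.val_one, Matrix.one_kronecker_one]

theorem kronGL_val {k l : ℕ} (a : GL (Fin k) F) (b : GL (Fin l) F) :
    (kronGL a b : Matrix (Fin k × Fin l) (Fin k × Fin l) F) = (a : Matrix _ _ F) ⊗ₖ (b : Matrix _ _ F) :=
  rfl

theorem kronGL_mul {k l : ℕ} (a a' : GL (Fin k) F) (b b' : GL (Fin l) F) :
    kronGL a b * kronGL a' b' = kronGL (a * a') (b * b') := by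
  apply Units.ext
  rw [Units.val_mul, kronGL_val, kronGL_val, kronGL_val, Units.val_mul, Units.val_mul,
    Matrix.mul_kronecker_mul]

theorem kronGL_inv {k l : ℕ} (a : GL (Fin k) F) (b : GL (Fin l) F) :
    (kronGL a b)⁻¹ = kronGL a⁻¹ b⁻¹ := rfl

variable {ι : Type} [Fintype ι] [DecidableEq ι]

theorem mem_tensorProductSubgroup_iff {k l : ℕ} (e : ι ≃ Fin k × Fin l) (P : GL ι F) (x : GL ι F) :
    x ∈ tensorProductSubgroup k l e P ↔ ∃ (a : GL (Fin k) F) (b : GL (Fin l) F),
      x = P * glReindex e.symm (kronGL a b) * P⁻¹ := by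
  unfold tensorProductSubgroup
  simp only [Subgroup.mem_map]
  constructor
  · rintro ⟨y, ⟨z, ⟨a, b, hz⟩, rfl⟩, rfl⟩
    refine ⟨a, b, ?_⟩
    have : z = kronGL a b := Units.ext hz
    rw [this]
    rfl
  · rintro ⟨a, b, rfl⟩
    exact ⟨_, ⟨kronGL a b, ⟨a, b, rfl⟩, rfl⟩, rfl⟩

/-- The bijection of index sets from pairs to functions on `Fin 2`. -/
def pairEquiv {k : ℕ} (e : ι ≃ Fin k × Fin k) : ι ≃ (Fin 2 → Fin k) :=
  e.trans (finTwoArrowEquiv (Fin k)).symm

theorem glReindex_pair {k : ℕ} (e : ι ≃ Fin k × Fin k) (a b : GL (Fin k) F) :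
    glReindex (pairEquiv e).symm (pureGL ![a, b]) = glReindex e.symm (kronGL a b) := by
  apply Units.ext
  ext i j
  have h1 : ((glReindex (pairEquiv e).symm (pureGL ![a, b]) : GL ι F) : Matrix ι ι F) i j =
      pureMat (fun l => ((![a, b] : Fin 2 → GL (Fin k) F) l : Matrix (Fin k) (Fin k) F))
        (pairEquiv e i) (pairEquiv e j) := rfl
  have h2 : ((glReindex e.symm (kronGL a b) : GL ι F) : Matrix ι ι F) i j =
      ((a : Matrix (Fin k) (Fin k) F) ⊗ₖ (b : Matrix (Fin k) (Fin k) F)) (e i) (e j) := rfl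
  rw [h1, h2, pureMat_apply, Fin.prod_univ_two, Matrix.kroneckerMap_apply]
  rfl

theorem glReindex_mulVec {κ : Type} [Fintype κ] [DecidableEq κ] (e : ι ≃ κ) (g : GL κ F)
    (x : κ → F) : ((glReindex e.symm g : GL ι F) : Matrix ι ι F) *ᵥ (x ∘ e) =
      ((g : Matrix κ κ F) *ᵥ x) ∘ e := by
  show (Matrix.reindexAlgEquiv F F e.symm (g : Matrix κ κ F)) *ᵥ (x ∘ e) = _
  rw [Matrix.coe_reindexAlgEquiv, Matrix.reindex_apply, Matrix.submatrix_mulVec_equiv]
  congr 2
  funext a
  simp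

theorem formOfGram_id {κ : Type} [Fintype κ] [DecidableEq κ] (G : Matrix κ κ F) (x y : κ → F) :
    formOfGram id G x y = x ⬝ᵥ (G *ᵥ y) := by
  simp only [formOfGram, dotProduct, Matrix.mulVec, Finset.mul_sum, id, mul_assoc]

/-- `(E8a)` -/
theorem tensorProduct_le_wreath [Finite F] (h2 : (2 : F) ≠ 0) {k : ℕ} (hk : Odd k)
    {f : (ι → F) → (ι → F) → F} {f₁ f₂ : (Fin k → F) → (Fin k → F) → F}
    (hf₁ : IsSymmetricForm f₁) (hf₂ : IsSymmetricForm f₂) {e : ι ≃ Fin k × Fin k} {P : GL ι F}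
    (hP : IsTensorFormStructure id f f₁ f₂ e P) :
    ∃ P' : GL ι F, IsTensorPowerFormStructure id f f₁ (pairEquiv e) P' ∧
      tensorProductSubgroup k k e P ≤ tensorWreathSubgroup k 2 (pairEquiv e) P' := by
  obtain ⟨g, c, hc, hg⟩ := exists_similarity h2 hk hf₁ hf₂
  obtain ⟨c₀, hc₀, hcf⟩ := hP
  refine ⟨P * glReindex e.symm (kronGL 1 g), ⟨c₀ * c, mul_ne_zero hc₀ hc, ?_⟩, ?_⟩
  · intro x y
    let x' : Fin k × Fin k → F := x ∘ (finTwoArrowEquiv (Fin k)).symm
    let y' : Fin k × Fin k → F := y ∘ (finTwoArrowEquiv (Fin k)).symm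
    have hx : x ∘ (pairEquiv e) = x' ∘ e := rfl
    have hy : y ∘ (pairEquiv e) = y' ∘ e := rfl
    rw [hx, hy, Units.val_mul, ← Matrix.mulVec_mulVec, ← Matrix.mulVec_mulVec, glReindex_mulVec,
      glReindex_mulVec, hcf, formOfGram_id]
    have h6 : ((kronGL 1 g : GL (Fin k × Fin k) F) : Matrix _ _ F)ᵀ *
        (gramMatrix f₁ ⊗ₖ gramMatrix f₂) * ((kronGL 1 g : GL (Fin k × Fin k) F) : Matrix _ _ F) =
        c • (gramMatrix f₁ ⊗ₖ gramMatrix f₁) := by
      rw [kronGL_val, Units.val_one, ← Matrix.kroneckerMap_transpose, Matrix.transpose_one,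
        ← Matrix.mul_kronecker_mul, ← Matrix.mul_kronecker_mul, one_mul, mul_one, hg,
        Matrix.kronecker_smul]
    have h7 : (((kronGL 1 g : GL (Fin k × Fin k) F) : Matrix _ _ F) *ᵥ x') ⬝ᵥ
        ((gramMatrix f₁ ⊗ₖ gramMatrix f₂) *ᵥ
          (((kronGL 1 g : GL (Fin k × Fin k) F) : Matrix _ _ F) *ᵥ y')) =
        x' ⬝ᵥ ((c • (gramMatrix f₁ ⊗ₖ gramMatrix f₁)) *ᵥ y') := by
      rw [← h6, ← Matrix.mulVec_mulVec, ← Matrix.mulVec_mulVec, Matrix.dotProduct_mulVec _ _ᵀ,
        ← Matrix.mulVec_transpose, Matrix.transpose_transpose]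
    rw [h7, Matrix.smul_mulVec, dotProduct_smul, smul_eq_mul, ← mul_assoc]
    congr 1
    rw [← formOfGram_id]
    unfold formOfGram
    rw [← Equiv.sum_comp (finTwoArrowEquiv (Fin k))]
    refine Finset.sum_congr rfl fun a _ => ?_
    rw [← Equiv.sum_comp (finTwoArrowEquiv (Fin k))]
    refine Finset.sum_congr rfl fun b _ => ?_
    simp only [x', y', Function.comp_apply, Equiv.symm_apply_apply, Fin.prod_univ_two,
      Matrix.kroneckerMap_apply]
    rfl
  · intro x hx
    obtain ⟨a, b, rfl⟩ := (mem_tensorProductSubgroup_iff e P x).1 hx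
    rw [mem_tensorWreathSubgroup_iff]
    refine ⟨pureGL ![a, g⁻¹ * b * g], pureGL_mem _, ?_⟩
    show (P * glReindex e.symm (kronGL 1 g)) * glReindex (pairEquiv e).symm (pureGL ![a, g⁻¹ * b * g]) *
      (P * glReindex e.symm (kronGL 1 g))⁻¹ = _
    rw [glReindex_pair]
    have h8 : kronGL a b = kronGL 1 g * kronGL a (g⁻¹ * b * g) * (kronGL 1 g)⁻¹ := by
      rw [kronGL_inv, kronGL_mul, kronGL_mul]
      congr 1
      · simp
      · group
    rw [h8, map_mul, map_mul, map_inv]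
    group

/-- There is no non-degenerate skew form in odd dimension, characteristic not two. -/
theorem not_skew_of_odd (h2 : (2 : F) ≠ 0) (hn : Odd (Fintype.card ι))
    {f : (ι → F) → (ι → F) → F} (hf : IsBilinearForm f) (hnd : IsNondegenerateForm f)
    (hskew : ∀ u v, f u v = - f v u) : False := by
  have hG := gramMatrix_det_ne_zero hf hnd
  have h1 : (gramMatrix f)ᵀ = -(gramMatrix f) := by
    ext i j
    rw [Matrix.transpose_apply, Matrix.neg_apply]
    exact hskew _ _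
  have h3 := congrArg Matrix.det h1
  rw [Matrix.det_transpose, Matrix.det_neg, hn.neg_one_pow] at h3
  apply hG
  have : 2 * (gramMatrix f).det = 0 := by linear_combination h3
  exact (mul_eq_zero.1 this).resolve_left h2

/-- A `HermForm` with `σ = id` on an odd-dimensional space is symmetric. -/
theorem isSymmetricForm_of_hermForm (h2 : (2 : F) ≠ 0) (hn : Odd (Fintype.card ι)) {ε : F}
    {f : (ι → F) → (ι → F) → F} (hf : HermForm (RingEquiv.refl F) ε f) : IsSymmetricForm f := by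
  have hbf : IsBilinearForm f := by
    refine ⟨hf.add_left, hf.smul_left, hf.add_right, ?_⟩
    intro c v x
    have := hf.smul_right v c x
    simpa using this
  have hε : ε * ε = 1 := by simpa using hf.eps
  have hherm : ∀ v w, f v w = ε * f w v := by
    intro v w; simpa using hf.herm v w
  have h4 : (ε - 1) * (ε + 1) = 0 := by linear_combination hε
  rcases mul_eq_zero.1 h4 with h | h
  · refine ⟨hbf, fun u v => ?_, hf.nondegenerate⟩
    rw [hherm, sub_eq_zero.1 h, one_mul]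
  · exfalso
    apply not_skew_of_odd h2 hn hbf hf.nondegenerate
    intro u v
    rw [hherm, eq_neg_of_add_eq_zero_left h, neg_one_mul]

end Cfsg.Agent.H922
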