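import Mathlib
import Cfsg.Prelude.Def_GeometricClasses
import Cfsg.Agent.H922.OddBase
import Cfsg.Agent.H922.OddField
import Cfsg.Agent.H922.OddDecomp
import Cfsg.Agent.H922.OddFrame
import Cfsg.Agent.H922.OddThree
import Cfsg.Agent.H922.OddPerp
import Cfsg.Agent.H922.OddForm
import Cfsg.Agent.H922.OddFull
import Cfsg.Agent.H922.OddTensor
import Cfsg.Agent.H922.OddTensorTwo
import Cfsg.Agent.H924.FormFine
import Cfsg.Agent.H925.OrthRed
import Cfsg.Agent.H912.TensForm3
import Cfsg.Agent.H912.Core4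
import Cfsg.Agent.H919.AschWreathForm2

/-!
Odd-dimensional orthogonal groups: the wrapper of the common form of Aschbacher's theorem.
-/

set_option autoImplicit false
set_option linter.unusedSectionVars false
set_option linter.style.haveILetI false

namespace Cfsg.Agent.H922

open Cfsg Cfsg.Geo Module Cfsg.Agent.H919
open scoped MatrixGroups Matrix

variable {ι : Type} [Fintype ι] [DecidableEq ι] {F : Type*} [Field F]

/-- The scalars in the isometry group of a nondegenerate quadratic form are `±1`. -/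
theorem sq_eq_one_of_scalar {Q : (ι → F) → F} (hQ : IsNondegenerateQuadraticForm Q)
    (hne : 0 < Fintype.card ι) {g : GL ι F} (hg : g ∈ isometryGroup F Q) (hs : g ∈ scalars ι F) :
    g * g = 1 := by
  obtain ⟨c, hc⟩ := (mem_scalars_iff g).1 hs
  obtain ⟨i⟩ := Fintype.card_pos_iff.1 hne
  have hv : (Pi.single i 1 : ι → F) ≠ 0 := by
    intro h; have := congrFun h i; simp at this
  obtain ⟨x, hx⟩ := (hQ.nondegenerate _ hv).1
  have h := polar_of_mem hg x (Pi.single i 1 : ι → F)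
  rw [hc, Matrix.smul_mulVec, Matrix.smul_mulVec, Matrix.one_mulVec, Matrix.one_mulVec,
    hQ.polar_bilinear.smul_left, hQ.polar_bilinear.smul_right] at h
  have h' : ((c : F) * c - 1) * QuadraticMap.polar Q x (Pi.single i 1 : ι → F) = 0 := by
    linear_combination h
  have hcc : (c : F) * c = 1 := by
    rcases mul_eq_zero.1 h' with h0 | h0
    · linear_combination h0
    · exact absurd h0 hx
  apply Units.ext
  rw [Units.val_mul, hc, smul_mul_smul_comm, hcc, one_smul, one_mul, Units.val_one]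

/-- The types of the irreducible subgroups, odd orthogonal case. -/
theorem odd_irreducible_fine [Fintype F] {Q : (ι → F) → F} (hQ : IsNondegenerateQuadraticForm Q)
    (h2 : (2 : F) ≠ 0) (hn : Odd (Fintype.card ι)) (hn2 : 2 ≤ Fintype.card ι)
    (hdet : ∀ F₁ : Subfield F, (gramMatrix (QuadraticMap.polar Q)).det ∈ F₁)
    {H : Subgroup (GL ι F)} (hI : H ≤ isometryGroup F Q) (hirr : ActsIrreducibly (matrixSet H)) :
    (∃ (t m : ℕ) (D : Fin t → Submodule F (ι → F)), 1 < m ∧ IsOrthogonalMDecomposition Q m D ∧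
      H ≤ decompositionStabilizer D) ∨
    (∃ (D : Fin (Fintype.card ι) → Submodule F (ι → F)), (Fintype.card F).Prime ∧
      IsOrthogonalMDecomposition Q 1 D ∧ H ≤ decompositionStabilizer D) ∨
    (∃ (r : ℕ) (K : Subalgebra F (Matrix ι ι F)), r.Prime ∧ r ∣ Fintype.card ι ∧
      r ≠ Fintype.card ι ∧ IsFieldSubalgebra r K ∧ IsSelfAdjointFor (QuadraticMap.polar Q) K ∧
      H ≤ subalgebraNormalizer K) ∨
    (∃ (n₁ n₂ : ℕ) (e : ι ≃ Fin n₁ × Fin n₂) (P : GL ι F) (f₁ : (Fin n₁ → F) → (Fin n₁ → F) → F)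
      (f₂ : (Fin n₂ → F) → (Fin n₂ → F) → F), 3 ≤ n₁ ∧ n₁ < n₂ ∧ n₁ * n₂ = Fintype.card ι ∧
      IsSymmetricForm f₁ ∧ IsSymmetricForm f₂ ∧
      IsTensorFormStructure id (QuadraticMap.polar Q) f₁ f₂ e P ∧
      H ≤ tensorProductSubgroup n₁ n₂ e P) ∨
    (∃ (F₁ : Subfield F) (r : ℕ) (P : GL ι F), F₁ ≠ ⊤ ∧ r.Prime ∧
      Fintype.card F = Nat.card F₁ ^ r ∧ IsQuadFormRationalStructure Q F₁ P ∧
      H ≤ subfieldSubgroup F₁ P) ∨
    (∃ (k t : ℕ) (e : ι ≃ (Fin t → Fin k)) (P : GL ι F) (f₁ : (Fin k → F) → (Fin k → F) → F),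
      3 ≤ k ∧ 2 ≤ t ∧ k ^ t = Fintype.card ι ∧ ¬ (Fintype.card F = 3 ∧ k = 3) ∧
      IsSymmetricForm f₁ ∧ IsTensorPowerFormStructure id (QuadraticMap.polar Q) f₁ e P ∧
      H ≤ tensorWreathSubgroup k t e P) ∨
    InOrthogonalResidualClass H := by
  classical
  have hf := hermForm_polar hQ
  have hbf := hQ.polar_bilinear
  have hH : ∀ g ∈ H, ∀ u v, QuadraticMap.polar Q ((g : Matrix ι ι F) *ᵥ u)
      ((g : Matrix ι ι F) *ᵥ v) = QuadraticMap.polar Q u v := fun g hg u v => polar_of_mem (hI hg) u v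
  haveI : Nonempty ι := Fintype.card_pos_iff.1 (by omega)
  have hid : ((RingEquiv.refl F : F ≃+* F) : F → F) = id := rfl
  -- auxiliary: frames
  have hframe : ∀ D : Fin (Fintype.card ι) → Submodule F (ι → F),
      IsOrthogonalMDecomposition Q 1 D → H ≤ decompositionStabilizer D →
      (∃ (D : Fin (Fintype.card ι) → Submodule F (ι → F)), (Fintype.card F).Prime ∧
      IsOrthogonalMDecomposition Q 1 D ∧ H ≤ decompositionStabilizer D) ∨
      (∃ (F₁ : Subfield F) (r : ℕ) (P : GL ι F), F₁ ≠ ⊤ ∧ r.Prime ∧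
      Fintype.card F = Nat.card F₁ ^ r ∧ IsQuadFormRationalStructure Q F₁ P ∧
      H ≤ subfieldSubgroup F₁ P) := by
    intro D hD hHD
    by_cases hp : (Fintype.card F).Prime
    · exact Or.inl ⟨D, hp, hD, hHD⟩
    · right
      obtain ⟨F₁, r, hr, hcard⟩ := exists_subfield_prime_index (F := F) hp
      obtain ⟨P, hP, hle⟩ := frame_le_subfield hQ h2 hn F₁ (hdet F₁) hD
      refine ⟨F₁, r, P, ?_, hr, hcard, hP, fun g hg => hle ⟨hHD hg, hI hg⟩⟩
      rintro rfl
      have h1 : Nat.card (⊤ : Subfield F) = Fintype.card F := by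
        rw [← Nat.card_eq_fintype_card]
        exact Nat.card_congr Subfield.topEquiv.toEquiv
      rw [h1] at hcard
      have h3 : 1 < Fintype.card F := Fintype.one_lt_card
      have h4 : Fintype.card F ^ 1 < Fintype.card F ^ r := Nat.pow_lt_pow_right h3 hr.one_lt
      rw [pow_one] at h4
      exact absurd hcard h4.ne
  -- auxiliary: tensor wreath
  have hwr : ∀ (k t : ℕ) (e : ι ≃ (Fin t → Fin k)) (P : GL ι F)
      (f₁ : (Fin k → F) → (Fin k → F) → F), 2 ≤ t → k ^ t = Fintype.card ι → 2 ≤ k →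
      IsSymmetricForm f₁ → IsTensorPowerFormStructure id (QuadraticMap.polar Q) f₁ e P →
      H ≤ tensorWreathSubgroup k t e P →
      (∃ (D : Fin (Fintype.card ι) → Submodule F (ι → F)), (Fintype.card F).Prime ∧
      IsOrthogonalMDecomposition Q 1 D ∧ H ≤ decompositionStabilizer D) ∨
      (∃ (k t : ℕ) (e : ι ≃ (Fin t → Fin k)) (P : GL ι F) (f₁ : (Fin k → F) → (Fin k → F) → F),
      3 ≤ k ∧ 2 ≤ t ∧ k ^ t = Fintype.card ι ∧ ¬ (Fintype.card F = 3 ∧ k = 3) ∧
      IsSymmetricForm f₁ ∧ IsTensorPowerFormStructure id (QuadraticMap.polar Q) f₁ e P ∧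
      H ≤ tensorWreathSubgroup k t e P) := by
    intro k t e P f₁ ht hkt hk hf₁ hP hle
    have hkodd : Odd k := by
      rw [← hkt] at hn
      exact (Nat.odd_pow_iff (by omega)).1 hn
    have hk3 : 3 ≤ k := by
      obtain ⟨j, hj⟩ := hkodd
      omega
    by_cases h33 : Fintype.card F = 3 ∧ k = 3
    · obtain ⟨h3, rfl⟩ := h33
      left
      obtain ⟨D', hD', hle'⟩ := tensorWreath_three_le_frame h3 hQ (by omega) hf₁ hP
      exact ⟨D', by rw [h3]; exact Nat.prime_three, hD', fun g hg => hle' ⟨hle hg, hI hg⟩⟩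
    · right
      exact ⟨k, t, e, P, f₁, hk3, ht, hkt, h33, hf₁, hP, hle⟩
  rcases Cfsg.Agent.H924.irreducible_fine hn2 hf hirr hH with
    ⟨t, m, D, hD, hHD, -⟩ | ⟨m, D, hD, -, -⟩ | ⟨r, K, hr, hK, hadj, hHK⟩ |
    ⟨n₁, n₂, e, P, ε₁, ε₂, f₁, f₂, hn₁, hn₂, hcard, hf₁, hf₂, -, hP, hHP⟩ |
    ⟨F₁, r, B, ζ, hF₁, hr, hcard, hζ, hrat, hle⟩ |
    ⟨r, m, R, hRH, -, -, -, -, -, hm, hcard, hcen, hord, -⟩ |
    ⟨m, t, e, P, E, hE⟩ | ⟨P, hP⟩
  · -- C2a
    have hDo := isOrthogonalMDecomposition_of_irreducible hirr hI hD hHD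
    have htm := mul_eq_card hD.decomp
    by_cases hm : m = 1
    · subst hm
      rw [mul_one] at htm
      subst htm
      rcases hframe D hDo hHD with h | h
      · exact Or.inr (Or.inl h)
      · exact Or.inr (Or.inr (Or.inr (Or.inr (Or.inl h))))
    · left
      have := hD.decomp.pos
      exact ⟨t, m, D, by omega, hDo, hHD⟩
  · -- C2b
    exfalso
    have htm := mul_eq_card hD
    rw [← htm] at hn
    obtain ⟨j, hj⟩ := hn
    omega
  · -- C3
    have hrd : r ∣ Fintype.card ι := Cfsg.Agent.H912.finrank_dvd_of_fieldSub hK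
    have hro : Odd r := Odd.of_dvd_nat hn hrd
    have hsa := isSelfAdjointFor_of_odd hbf (polar_symm Q) hQ.nondegenerate h2 hro hK hadj
    by_cases hrn : r = Fintype.card ι
    · exfalso
      subst hrn
      exact not_irreducible_of_full_degree hQ h2 hr hn hK hsa hI hHK hirr
    · exact Or.inr (Or.inr (Or.inl ⟨r, K, hr, hrd, hrn, hK, hsa, hHK⟩))
  · -- C4
    have ho₁ : Odd n₁ := Odd.of_dvd_nat hn ⟨n₂, hcard.symm⟩
    have ho₂ : Odd n₂ := Odd.of_dvd_nat hn ⟨n₁, by rw [mul_comm]; exact hcard.symm⟩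
    have hs₁ := isSymmetricForm_of_hermForm h2 (by rw [Fintype.card_fin]; exact ho₁) hf₁
    have hs₂ := isSymmetricForm_of_hermForm h2 (by rw [Fintype.card_fin]; exact ho₂) hf₂
    rw [hid] at hP
    have h3₁ : 3 ≤ n₁ := by obtain ⟨j, hj⟩ := ho₁; omega
    have h3₂ : 3 ≤ n₂ := by obtain ⟨j, hj⟩ := ho₂; omega
    rcases lt_trichotomy n₁ n₂ with hlt | heq | hgt
    · exact Or.inr (Or.inr (Or.inr (Or.inl
        ⟨n₁, n₂, e, P, f₁, f₂, h3₁, hlt, hcard, hs₁, hs₂, hP, hHP⟩)))
    · subst heq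
      obtain ⟨P', hP', hle⟩ := tensorProduct_le_wreath h2 ho₁ hs₁ hs₂ hP
      rcases hwr n₁ 2 (pairEquiv e) P' f₁ le_rfl (by rw [pow_two]; exact hcard) hn₁ hs₁ hP'
        (hHP.trans hle) with h | h
      · exact Or.inr (Or.inl h)
      · exact Or.inr (Or.inr (Or.inr (Or.inr (Or.inr (Or.inl h)))))
    · refine Or.inr (Or.inr (Or.inr (Or.inl
        ⟨n₂, n₁, e.trans (Equiv.prodComm (Fin n₁) (Fin n₂)), P, f₂, f₁, h3₂, hgt, ?_, hs₂, hs₁,
          Cfsg.Agent.H912.isTensorFormStructure_swap hP, ?_⟩)))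
      · rw [mul_comm]; exact hcard
      · rw [Cfsg.Agent.H912.tensorProductSubgroup_swap]; exact hHP
  · -- C5
    obtain ⟨c, hc, hsub⟩ := exists_quadRational hQ h2 hn F₁ (hdet F₁) hζ hrat
    refine Or.inr (Or.inr (Or.inr (Or.inr (Or.inl
      ⟨F₁, r, scal ι c * B, hF₁, hr, ?_, hc, ?_⟩))))
    · rw [← Nat.card_eq_fintype_card]; exact hcard
    · rw [hsub]; exact hle
  · -- C6
    exfalso
    have hz : ∀ z : Subgroup.center R, z * z = 1 := by
      intro z
      have hz1 : (z : R) ∈ (scalars ι F).subgroupOf R := by rw [← hcen]; exact z.2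
      have hz2 : ((z : R) : GL ι F) ∈ scalars ι F := hz1
      have h5 := sq_eq_one_of_scalar hQ (by omega) (hI (hRH (z : R).2)) hz2
      apply Subtype.ext
      apply Subtype.ext
      exact h5
    rcases hord with ⟨hro, hcc, -⟩ | ⟨hr2, hcc, -⟩ | ⟨hr2, hcc, -⟩
    · -- |Z| = r odd with exponent 2
      have hr1 : r ≠ 1 := by
        rintro rfl
        rw [one_pow] at hcard
        omega
      have hfin : Finite (Subgroup.center R) := Nat.finite_of_card_ne_zero (by
        rw [hcc]; obtain ⟨j, hj⟩ := hro; omega)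
      have h6 : ∀ z : Subgroup.center R, z = 1 := by
        intro z
        have h7 : orderOf z ∣ 2 := orderOf_dvd_of_pow_eq_one (by rw [pow_two]; exact hz z)
        have h8 : orderOf z ∣ r := by rw [← hcc]; exact orderOf_dvd_natCard z
        have h9 : orderOf z ∣ 1 := by
          have : Nat.Coprime 2 r := Nat.coprime_two_left.2 hro
          rw [← this.gcd_eq_one]
          exact Nat.dvd_gcd h7 h8
        exact orderOf_eq_one_iff.1 (Nat.dvd_one.1 h9)
      have h10 : Nat.card (Subgroup.center R) = 1 := by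
        rw [Nat.card_eq_one_iff_unique]
        exact ⟨⟨fun a b => by rw [h6 a, h6 b]⟩, ⟨1⟩⟩
      exact hr1 (hcc.symm.trans h10)
    · rw [hr2] at hcard
      rw [hcard] at hn
      have : Even (2 ^ m) := (Nat.even_pow.2 ⟨even_two, by omega⟩)
      exact (Nat.not_odd_iff_even.2 this) hn
    · rw [hr2] at hcard
      rw [hcard] at hn
      have : Even (2 ^ m) := (Nat.even_pow.2 ⟨even_two, by omega⟩)
      exact (Nat.not_odd_iff_even.2 this) hn
  · -- C7
    obtain ⟨P', ε₁, c, G, hW, hf₁, hc, hform, -, -⟩ := Cfsg.Agent.H919.C_wreath_form hf hH hE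
    have hcard : m ^ t = Fintype.card ι := by
      rw [Fintype.card_congr e, Fintype.card_fun, Fintype.card_fin, Fintype.card_fin]
    have ht2 := hE.two_le_t
    have hmo : Odd m := by
      rw [← hcard] at hn
      exact (Nat.odd_pow_iff (by omega)).1 hn
    have hs := isSymmetricForm_of_hermForm h2 (by rw [Fintype.card_fin]; exact hmo) hf₁
    have hP' : IsTensorPowerFormStructure id (QuadraticMap.polar Q)
        (Cfsg.Agent.H919.sesq (RingEquiv.refl F) G) e P' := by
      refine ⟨c, hc, fun x y => ?_⟩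
      rw [hform, Cfsg.Agent.H919.sesq_eq_sum]
      simp only [gramMatrix, Cfsg.Agent.H919.sesq_single, pureMat_apply,
        RingEquiv.refl_apply, id]
    rcases hwr m t e P' _ ht2 hcard hE.two_le_m hs hP' hW.wreath with h | h
    · exact Or.inr (Or.inl h)
    · exact Or.inr (Or.inr (Or.inr (Or.inr (Or.inr (Or.inl h)))))
  · -- S
    refine Or.inr (Or.inr (Or.inr (Or.inr (Or.inr (Or.inr ⟨P, hP, ?_⟩)))))
    have hPf : FixesForm (matrixSet P) (QuadraticMap.polar Q) := by
      rintro _ ⟨g, hg, rfl⟩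
      exact hH g (hP.le hg)
    exact Cfsg.Agent.H914.not_fixes_unitary_of_bilinear hP.absIrred hP.no_subfield
      (Cfsg.Agent.H914.IsSesq.of_herm hf) hQ.nondegenerate hPf

end Cfsg.Agent.H922
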