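import Mathlib
import Cfsg.Prelude.Def_GeometricClasses
import Cfsg.Agent.H922.OddFine
import Cfsg.Agent.H922.OddNot
import Cfsg.Agent.H925.OrthRed
import Cfsg.Agent.H925.OrthNot

/-!
Odd-dimensional orthogonal groups: all subgroups, and the maximal subgroups of `Ω`.
-/

set_option autoImplicit false
set_option linter.unusedSectionVars false
set_option linter.style.haveILetI false

namespace Cfsg.Agent.H922

open Cfsg Cfsg.Geo Module Cfsg.Agent.H919
open scoped MatrixGroups Matrix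

variable {ι : Type} [Fintype ι] [DecidableEq ι] {F : Type*} [Field F]

/-- The types of all subgroups of the isometry group, odd orthogonal case. -/
theorem odd_all_fine [Fintype F] {Q : (ι → F) → F} (hQ : IsNondegenerateQuadraticForm Q)
    (h2 : (2 : F) ≠ 0) (hn : Odd (Fintype.card ι)) (hn2 : 2 ≤ Fintype.card ι)
    (hdet : ∀ F₁ : Subfield F, (gramMatrix (QuadraticMap.polar Q)).det ∈ F₁)
    {H : Subgroup (GL ι F)} (hI : H ≤ isometryGroup F Q) :
    (∃ W : Submodule F (ι → F), W ≠ ⊥ ∧ IsTotallySingularQuad Q W ∧ H ≤ subspaceStabilizer W) ∨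
    (∃ W : Submodule F (ι → F), W ≠ ⊥ ∧ W ≠ ⊤ ∧ IsNondegenerateOn (QuadraticMap.polar Q) W ∧
      H ≤ subspaceStabilizer W) ∨
    (∃ (t m : ℕ) (D : Fin t → Submodule F (ι → F)), 1 < m ∧ IsOrthogonalMDecomposition Q m D ∧
      H ≤ decompositionStabilizer D) ∨
    (∃ (D : Fin (Fintype.card ι) → Submodule F (ι → F)), (Fintype.card F).Prime ∧
      IsOrthogonalMDecomposition Q 1 D ∧ H ≤ decompositionStabilizer D) ∨
    (∃ (r : ℕ) (K : Subalgebra F (Matrix ι ι F)), r.Prime ∧ r ∣ Fintype.card ι ∧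
      r ≠ Fintype.card ι ∧ IsFieldSubalgebra r K ∧ IsSelfAdjointFor (QuadraticMap.polar Q) K ∧
      H ≤ subalgebraNormalizer K) ∨
    (∃ (n₁ n₂ : ℕ) (e : ι ≃ Fin n₁ × Fin n₂) (P : GL ι F) (f₁ : (Fin n₁ → F) → (Fin n₁ → F) → F)
      (f₂ : (Fin n₂ → F) → (Fin n₂ → F) → F), 3 ≤ n₁ ∧ n₁ < n₂ ∧ n₁ * n₂ = Fintype.card ι ∧
      IsSymmetricForm f₁ ∧ IsSymmetricForm f₂ ∧
      IsTensorFormStructure id (QuadraticMap.polar Q) f₁ f₂ e P ∧
      H ≤ tensorProductSubgroup n₁ n₂ e P) ∨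
    (∃ (F₁ : Subfield F) (r : ℕ) (P : GL ι F), F₁ ≠ ⊤ ∧ r.Prime ∧
      Fintype.card F = Nat.card F₁ ^ r ∧ IsQuadFormRationalStructure Q F₁ P ∧
      H ≤ subfieldSubgroup F₁ P) ∨
    (∃ (k t : ℕ) (e : ι ≃ (Fin t → Fin k)) (P : GL ι F) (f₁ : (Fin k → F) → (Fin k → F) → F),
      3 ≤ k ∧ 2 ≤ t ∧ k ^ t = Fintype.card ι ∧ ¬ (Fintype.card F = 3 ∧ k = 3) ∧
      IsSymmetricForm f₁ ∧ IsTensorPowerFormStructure id (QuadraticMap.polar Q) f₁ e P ∧
      H ≤ tensorWreathSubgroup k t e P) ∨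
    InOrthogonalResidualClass H := by
  by_cases hirr : ActsIrreducibly (matrixSet H)
  · exact Or.inr (Or.inr (odd_irreducible_fine hQ h2 hn hn2 hdet hI hirr))
  · rcases Cfsg.Agent.H925.reducible_cases hQ hI hirr with ⟨W, hW0, hW, hHW⟩ |
      ⟨W, hW0, hW, hd, hHW⟩ | ⟨h0, -⟩
    · exact Or.inl ⟨W, hW0, hW, hHW⟩
    · refine Or.inr (Or.inl ⟨W, hW0, ?_, hW, hHW⟩)
      rintro rfl
      rw [finrank_top, finrank_fintype_fun_eq_card] at hd
      omega
    · exact absurd h0 h2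

/-- The types of the maximal subgroups of `Ω`, odd orthogonal case. -/
theorem odd_maximal_cases [Fintype F] {Q : (ι → F) → F} (hQ : IsNondegenerateQuadraticForm Q)
    (h2 : (2 : F) ≠ 0) (hn : Odd (Fintype.card ι)) (hn7 : 7 ≤ Fintype.card ι)
    (hdet : ∀ F₁ : Subfield F, (gramMatrix (QuadraticMap.polar Q)).det ∈ F₁)
    {H : Subgroup (GL ι F)} (hH : IsMaximalIn (omegaGL Q) H) :
    (∃ W : Submodule F (ι → F), W ≠ ⊥ ∧ IsTotallySingularQuad Q W ∧
      H = subspaceStabilizer W ⊓ omegaGL Q) ∨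
    (∃ W : Submodule F (ι → F), W ≠ ⊥ ∧ Even (finrank F W) ∧
      IsNondegenerateOn (QuadraticMap.polar Q) W ∧
      ¬ (Fintype.card F = 3 ∧ finrank F W = 2 ∧ IsPlusTypeOn Q W) ∧
      H = subspaceStabilizer W ⊓ omegaGL Q) ∨
    (∃ (D : Fin (Fintype.card ι) → Submodule F (ι → F)), (Fintype.card F).Prime ∧
      IsOrthogonalMDecomposition Q 1 D ∧ H = decompositionStabilizer D ⊓ omegaGL Q) ∨
    (∃ (t m : ℕ) (D : Fin t → Submodule F (ι → F)), 1 < m ∧ 2 ≤ t ∧ t * m = Fintype.card ι ∧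
      ¬ (Fintype.card F = 3 ∧ m = 3) ∧ IsOrthogonalMDecomposition Q m D ∧
      H = decompositionStabilizer D ⊓ omegaGL Q) ∨
    (∃ (r : ℕ) (K : Subalgebra F (Matrix ι ι F)), r.Prime ∧ r ∣ Fintype.card ι ∧
      r ≠ Fintype.card ι ∧ IsFieldSubalgebra r K ∧ IsSelfAdjointFor (QuadraticMap.polar Q) K ∧
      H = subalgebraNormalizer K ⊓ omegaGL Q) ∨
    (∃ (n₁ n₂ : ℕ) (e : ι ≃ Fin n₁ × Fin n₂) (P : GL ι F) (f₁ : (Fin n₁ → F) → (Fin n₁ → F) → F)
      (f₂ : (Fin n₂ → F) → (Fin n₂ → F) → F), 3 ≤ n₁ ∧ n₁ < n₂ ∧ n₁ * n₂ = Fintype.card ι ∧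
      IsSymmetricForm f₁ ∧ IsSymmetricForm f₂ ∧
      IsTensorFormStructure id (QuadraticMap.polar Q) f₁ f₂ e P ∧
      H = tensorProductSubgroup n₁ n₂ e P ⊓ omegaGL Q) ∨
    (∃ (F₁ : Subfield F) (r : ℕ) (P : GL ι F), F₁ ≠ ⊤ ∧ r.Prime ∧
      Fintype.card F = Nat.card F₁ ^ r ∧ IsQuadFormRationalStructure Q F₁ P ∧
      H = subfieldSubgroup F₁ P ⊓ omegaGL Q) ∨
    (∃ (k t : ℕ) (e : ι ≃ (Fin t → Fin k)) (P : GL ι F) (f₁ : (Fin k → F) → (Fin k → F) → F),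
      3 ≤ k ∧ 2 ≤ t ∧ k ^ t = Fintype.card ι ∧ ¬ (Fintype.card F = 3 ∧ k = 3) ∧
      IsSymmetricForm f₁ ∧ IsTensorPowerFormStructure id (QuadraticMap.polar Q) f₁ e P ∧
      H = tensorWreathSubgroup k t e P ⊓ omegaGL Q) ∨
    InOrthogonalResidualClass H := by
  have hΩ : H ≤ omegaGL Q := hH.1.le
  have hI : H ≤ isometryGroup F Q := hΩ.trans (omegaGL_le Q)
  have hfr : ∀ (D : Fin (Fintype.card ι) → Submodule F (ι → F)), IsOrthogonalMDecomposition Q 1 D →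
      H ≤ decompositionStabilizer D → H = decompositionStabilizer D ⊓ omegaGL Q := by
    intro D hD hle
    refine Cfsg.Agent.H925.eq_inf_of_isMaximalIn hH hle
      (Cfsg.Agent.H925.omegaGL_not_le_decompositionStabilizer hQ (by omega) (by omega) ?_
        hD.decomp.decomp.indep)
    intro i h0
    have := hD.decomp.decomp.finrank_eq i
    rw [h0, finrank_bot] at this
    omega
  rcases odd_all_fine hQ h2 hn (by omega) hdet hI with
    ⟨W, hW0, hW, hHW⟩ | ⟨W, hW0, hW1, hW, hHW⟩ | ⟨t, m, D, hm, hD, hHD⟩ | ⟨D, hp, hD, hHD⟩ |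
    ⟨r, K, hr, hrd, hrn, hK, hsa, hHK⟩ |
    ⟨n₁, n₂, e, P, f₁, f₂, h3, hlt, hcard, hf₁, hf₂, hP, hHP⟩ |
    ⟨F₁, r, P, hF₁, hr, hcard, hP, hHP⟩ |
    ⟨k, t, e, P, f₁, hk, ht, hkt, h33, hf₁, hP, hHP⟩ | hS
  · -- totally singular
    refine Or.inl ⟨W, hW0, hW, ?_⟩
    refine Cfsg.Agent.H925.eq_inf_of_isMaximalIn hH hHW
      (Cfsg.Agent.H925.omegaGL_not_le_subspaceStabilizer hQ (by omega) hW0 ?_)
    rintro rfl
    obtain ⟨x, y, hxy⟩ := Cfsg.Agent.H925.exists_hypPair hQ (by omega)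
    -- the polar form would vanish
    haveI : Nonempty ι := Fintype.card_pos_iff.1 (by omega)
    obtain ⟨v, hv⟩ := exists_ne (0 : ι → F)
    obtain ⟨w, hw⟩ := (hQ.nondegenerate v hv).1
    apply hw
    rw [QuadraticMap.polar, hW _ trivial, hW _ trivial, hW _ trivial]
    ring
  · -- nondegenerate
    right; left
    obtain ⟨W', hW'0, hW'1, hev, hW', heq⟩ := exists_even_subspace hQ hn hW0 hW1 hW
    have hHW' : H ≤ subspaceStabilizer W' := by
      intro g hg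
      have : g ∈ subspaceStabilizer W' ⊓ isometryGroup F Q := by
        rw [heq]; exact ⟨hHW hg, hI hg⟩
      exact this.1
    by_cases hpl : Fintype.card F = 3 ∧ finrank F W' = 2 ∧ IsPlusTypeOn Q W'
    · obtain ⟨h3, hd2, hpl⟩ := hpl
      obtain ⟨W'', hd, hW'', hle⟩ := plus_plane_le h3 hQ hW' hd2 hpl
      refine ⟨W'', ?_, ?_, hW'', ?_, ?_⟩
      · rintro rfl
        rw [finrank_bot] at hd
        omega
      · rw [← hd] at hn
        obtain ⟨j, hj⟩ := hn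
        exact ⟨j, by omega⟩
      · rintro ⟨-, h, -⟩
        omega
      · refine Cfsg.Agent.H925.eq_inf_of_isMaximalIn hH (fun g hg => (hle ⟨hHW' hg, hI hg⟩).1)
          (Cfsg.Agent.H925.omegaGL_not_le_subspaceStabilizer hQ (by omega) ?_ ?_)
        · rintro rfl
          rw [finrank_bot] at hd
          omega
        · rintro rfl
          rw [finrank_top, finrank_fintype_fun_eq_card] at hd
          omega
    · exact ⟨W', hW'0, hev, hW', hpl, Cfsg.Agent.H925.eq_inf_of_isMaximalIn hH hHW'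
        (Cfsg.Agent.H925.omegaGL_not_le_subspaceStabilizer hQ (by omega) hW'0 hW'1)⟩
  · -- decompositions
    have htm := mul_eq_card hD.decomp.decomp
    by_cases h33 : Fintype.card F = 3 ∧ m = 3
    · obtain ⟨h3, rfl⟩ := h33
      obtain ⟨D', hD', hle⟩ := three_spaces_le_frame h3 hQ hD
      rw [← htm] at hfr ⊢
      exact Or.inr (Or.inr (Or.inl ⟨D', by rw [h3]; exact Nat.prime_three, hD',
        hfr D' hD' fun g hg => hle ⟨hHD hg, hI hg⟩⟩))
    · refine Or.inr (Or.inr (Or.inr (Or.inl ⟨t, m, D, hm, hD.decomp.decomp.two_le, htm, h33, hD, ?_⟩)))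
      refine Cfsg.Agent.H925.eq_inf_of_isMaximalIn hH hHD
        (Cfsg.Agent.H925.omegaGL_not_le_decompositionStabilizer hQ (by omega)
          hD.decomp.decomp.two_le ?_ hD.decomp.decomp.indep)
      intro i h0
      have := hD.decomp.decomp.finrank_eq i
      rw [h0, finrank_bot] at this
      omega
  · -- frames
    exact Or.inr (Or.inr (Or.inl ⟨D, hp, hD, hfr D hD hHD⟩))
  · -- subfield algebras
    exact Or.inr (Or.inr (Or.inr (Or.inr (Or.inl ⟨r, K, hr, hrd, hrn, hK, hsa,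
      Cfsg.Agent.H925.eq_inf_of_isMaximalIn hH hHK
        (Cfsg.Agent.H925.omegaGL_not_le_subalgebraNormalizer hQ (by omega) hr.two_le hK)⟩))))
  · -- tensor products
    have ho₁ : Odd n₁ := Odd.of_dvd_nat hn ⟨n₂, hcard.symm⟩
    have ho₂ : Odd n₂ := Odd.of_dvd_nat hn ⟨n₁, by rw [mul_comm]; exact hcard.symm⟩
    exact Or.inr (Or.inr (Or.inr (Or.inr (Or.inr (Or.inl ⟨n₁, n₂, e, P, f₁, f₂, h3, hlt, hcard,
      hf₁, hf₂, hP, Cfsg.Agent.H925.eq_inf_of_isMaximalIn hH hHP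
        (omegaGL_not_le_tensorProduct h2 hQ (by omega) ho₁ ho₂ h3 (by omega) hf₁ hf₂ hP)⟩)))))
  · -- subfields
    exact Or.inr (Or.inr (Or.inr (Or.inr (Or.inr (Or.inr (Or.inl ⟨F₁, r, P, hF₁, hr, hcard, hP,
      Cfsg.Agent.H925.eq_inf_of_isMaximalIn hH hHP
        (Cfsg.Agent.H925.omegaGL_not_le_subfieldSubgroup hQ (by omega) hF₁ P)⟩))))))
  · -- tensor powers
    have hko : Odd k := by
      rw [← hkt] at hn
      exact (Nat.odd_pow_iff (by omega)).1 hn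
    exact Or.inr (Or.inr (Or.inr (Or.inr (Or.inr (Or.inr (Or.inr (Or.inl ⟨k, t, e, P, f₁, hk, ht,
      hkt, h33, hf₁, hP, Cfsg.Agent.H925.eq_inf_of_isMaximalIn hH hHP
        (omegaGL_not_le_tensorWreath h2 hQ (by omega) hko hk ht hf₁ hP)⟩)))))))
  · exact Or.inr (Or.inr (Or.inr (Or.inr (Or.inr (Or.inr (Or.inr (Or.inr hS)))))))

end Cfsg.Agent.H922
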