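import Mathlib
import Cfsg.Prelude.Def_GeometricClasses
import Cfsg.Agent.H922.OddMax
import Cfsg.Agent.H922.OddForm

/-!
Maximal subgroups of `Ω` in odd prime dimension at least `7`.
-/

set_option autoImplicit false
set_option linter.unusedSectionVars false

namespace Cfsg.Agent.H922

open Cfsg Cfsg.Geo Module
open scoped MatrixGroups Matrix

variable {ι : Type} [Fintype ι] [DecidableEq ι] {F : Type*} [Field F]

/-- The types of the maximal subgroups of `Ω`, in prime dimension at least `7`. -/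
theorem odd_maximal_cases_prime [Fintype F] {Q : (ι → F) → F}
    (hQ : IsNondegenerateQuadraticForm Q)
    (h2 : (2 : F) ≠ 0) {n : ℕ} (hcard : Fintype.card ι = n) (hn : n.Prime) (hn7 : 7 ≤ n)
    (hdet : ∀ F₁ : Subfield F, (gramMatrix (QuadraticMap.polar Q)).det ∈ F₁)
    {H : Subgroup (GL ι F)} (hH : IsMaximalIn (omegaGL Q) H) :
    (∃ W : Submodule F (ι → F), W ≠ ⊥ ∧ IsTotallySingularQuad Q W ∧
      H = subspaceStabilizer W ⊓ omegaGL Q) ∨
    (∃ W : Submodule F (ι → F), W ≠ ⊥ ∧ Even (finrank F W) ∧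
      IsNondegenerateOn (QuadraticMap.polar Q) W ∧
      ¬ (Fintype.card F = 3 ∧ finrank F W = 2 ∧ IsPlusTypeOn Q W) ∧
      H = subspaceStabilizer W ⊓ omegaGL Q) ∨
    ((Fintype.card F).Prime ∧ ∃ D : Fin n → Submodule F (ι → F),
      IsOrthogonalMDecomposition Q 1 D ∧ H = decompositionStabilizer D ⊓ omegaGL Q) ∨
    (∃ (F₁ : Subfield F) (r : ℕ) (P : GL ι F), r.Prime ∧
      Fintype.card F = Nat.card F₁ ^ r ∧ IsQuadFormRationalStructure Q F₁ P ∧
      H = subfieldSubgroup F₁ P ⊓ omegaGL Q) ∨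
    InOrthogonalResidualClass H := by
  have hodd : Odd n := hn.odd_of_ne_two (by omega)
  have hmul : ∀ a b : ℕ, a * b = n → 2 ≤ a → 2 ≤ b → False := by
    intro a b hab ha hb
    have h1 : a ∣ n := ⟨b, hab.symm⟩
    rcases (Nat.dvd_prime hn).1 h1 with h | h
    · omega
    · subst h
      have : a * 2 ≤ a * b := Nat.mul_le_mul_left a hb
      omega
  have hmax := odd_maximal_cases hQ h2 (by rw [hcard]; exact hodd) (by rw [hcard]; exact hn7)
    hdet hH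
  rw [hcard] at hmax
  rcases hmax with
    ⟨W, hW0, hW, hHW⟩ | ⟨W, hW0, hev, hW, hpl, hHW⟩ | ⟨D, hp, hD, hHD⟩ |
    ⟨t, k, D, hm, ht, htk, h33, hD, hHD⟩ |
    ⟨r, K, hr, hrd, hrn, hK, hsa, hHK⟩ |
    ⟨n₁, n₂, e, P, f₁, f₂, h3, hlt, hc, hf₁, hf₂, hP, hHP⟩ |
    ⟨F₁, r, P, hF₁, hr, hc, hP, hHP⟩ |
    ⟨k, t, e, P, f₁, hk, ht, hkt, h33, hf₁, hP, hHP⟩ | hS
  · exact Or.inl ⟨W, hW0, hW, hHW⟩
  · exact Or.inr (Or.inl ⟨W, hW0, hev, hW, hpl, hHW⟩)
  · exact Or.inr (Or.inr (Or.inl ⟨hp, D, hD, hHD⟩))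
  · exact absurd (hmul t k htk ht hm) id
  · exact absurd ((Nat.prime_dvd_prime_iff_eq hr hn).1 hrd) hrn
  · exact absurd (hmul n₁ n₂ hc (by omega) (by omega)) id
  · exact Or.inr (Or.inr (Or.inr (Or.inl ⟨F₁, r, P, hr, hc, hP, hHP⟩)))
  · exfalso
    obtain ⟨s, rfl⟩ : ∃ s, t = s + 2 := ⟨t - 2, by omega⟩
    rw [pow_succ] at hkt
    refine hmul _ _ hkt ?_ (by omega)
    calc 2 ≤ k ^ 1 := by rw [pow_one]; omega
      _ ≤ k ^ (s + 1) := Nat.pow_le_pow_right (by omega) (by omega)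
  · exact Or.inr (Or.inr (Or.inr (Or.inr hS)))

end Cfsg.Agent.H922
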