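import Cfsg.Agent.H922.OmGL
import Cfsg.Agent.H922.OddBase
import Cfsg.Agent.LieClassical.OrthForms
import Cfsg.Agent.S0292

/-!
**The rows `PΩ_k(K)`, `K` of odd order, in `Ω_{2m+1}(F)`, `3 ≤ m ≤ 5`.**  A residual core `P` of a proper subgroup
of `Ω_{2m+1}(F)` is never `PΩ_k(K)`, `k ≥ 7`.
-/

set_option autoImplicit false

namespace Cfsg.Agent.H922.OmGL

open QuadraticMap Cfsg.Agent.LieClassical.OrthCore Cfsg.Agent.LieClassical.OrthTrans
  Cfsg.Agent.LieClassical.OrthFinite Cfsg.Agent.LieClassical.OrthSimple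
  Cfsg.Agent.LieClassical.OrthForms Cfsg.Agent.H883.Bridge
  Cfsg.Agent.H883.Root Cfsg.Agent.H883.Sub Module Cfsg.Agent.H922.Om

open Cfsg Cfsg.Geo Cfsg.Agent.H915.LD

section cover

variable {ι : Type} [Fintype ι] [DecidableEq ι] {F : Type*} [Field F] {P : Subgroup (GL ι F)}
  {κ : Type} [Fintype κ] [DecidableEq κ] {K : Type*} [Field K] {Q : QuadraticForm K (κ → K)}

/-- The projection of `E Q` to `POmega`. -/
noncomputable def prO (hG : Good Q) : E Q →* Cfsg.POmega K ⇑Q :=
  (QuotientGroup.mk' _).comp ((omegaEquiv Q).symm.toMonoidHom.comp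
    (MulEquiv.subgroupCongr hG.commutator_eq_E).symm.toMonoidHom)

theorem prO_surjective (hG : Good Q) : Function.Surjective (prO hG) :=
  (QuotientGroup.mk'_surjective _).comp ((omegaEquiv Q).symm.surjective.comp
    (MulEquiv.subgroupCongr hG.commutator_eq_E).symm.surjective)

/-- The homomorphism of `E Q` onto `P`, if `P` contains no scalars. -/
noncomputable def cov (hG : Good Q) (hZ : (scalars ι F).subgroupOf P = ⊥)
    (e : Soc P ≃* Cfsg.POmega K ⇑Q) : E Q →* P :=
  ((QuotientGroup.quotientMulEquivOfEq hZ).trans QuotientGroup.quotientBot).toMonoidHom.comp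
    (e.symm.toMonoidHom.comp (prO hG))

theorem cov_surjective (hG : Good Q) (hZ : (scalars ι F).subgroupOf P = ⊥)
    (e : Soc P ≃* Cfsg.POmega K ⇑Q) : Function.Surjective (cov hG hZ e) :=
  ((QuotientGroup.quotientMulEquivOfEq hZ).trans QuotientGroup.quotientBot).surjective.comp
    (e.symm.surjective.comp (prO_surjective hG))

/-- **Dimension** for `P` without scalars. -/
theorem card_eq_of_core [Finite K] (hC : Core P) (hZ : (scalars ι F).subgroupOf P = ⊥)
    (h2F : (2 : F) ≠ 0) (h2 : (2 : K) ≠ 0) (hQ : Nondeg Q) (hκ : 7 ≤ Fintype.card κ)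
    (hι : Fintype.card ι ≤ 12) (e : Soc P ≃* Cfsg.POmega K ⇑Q) :
    Fintype.card ι = Fintype.card κ := by
  have hG : Good Q := good_of_card hQ (by omega)
  have h := card_eq (cov_surjective hG hZ e) hC.absIrred.1 hC.two_le hι h2F h2 hQ
    (by rwa [Module.finrank_fintype_fun_eq_card])
  rwa [Module.finrank_fintype_fun_eq_card] at h

/-- **The field** for `P` without scalars, odd dimension. -/
theorem card_field_eq [Finite K] [Finite F] (hC : Core P) (hZ : (scalars ι F).subgroupOf P = ⊥)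
    (h2F : (2 : F) ≠ 0) (h2 : (2 : K) ≠ 0) (hQ : Nondeg Q) (hκ : 7 ≤ Fintype.card κ)
    (hodd : Odd (Fintype.card κ)) (hι : Fintype.card ι ≤ 12) (e : Soc P ≃* Cfsg.POmega K ⇑Q) :
    Nat.card K = Nat.card F := by
  have hG : Good Q := good_of_card hQ (by omega)
  have hsurj := cov_surjective hG hZ e
  obtain ⟨k, w, ν, N⟩ := exists_fullNat hsurj hC.absIrred.1 hC.two_le hι h2F h2 hQ
    (by rwa [Module.finrank_fintype_fun_eq_card]) (by rwa [Module.finrank_fintype_fun_eq_card])
  obtain ⟨f, θ, b, hb, hθ⟩ := N.exists_theta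
  have h1 := realisable hsurj N hb hθ
  have h3 : f.fieldRange = ⊤ := by
    by_contra hne
    exact hC.no_subfield _ hne h1
  have hbij : Function.Bijective f := ⟨f.injective, fun x => by
    have : x ∈ f.fieldRange := by rw [h3]; trivial
    exact this⟩
  exact Nat.card_congr (Equiv.ofBijective f hbij)

end cover

theorem finite_two_ne {K : Type*} [Field K] [Fintype K] (h : Odd (Fintype.card K)) : (2 : K) ≠ 0 :=
  Cfsg.Agent.H922.two_ne_zero_of_odd_card h

/-- `|Ω_{2m+1}(F)| = |PΩ_{2m+1}(F)|` -/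
theorem card_omegaGL_odd {F : Type*} [Field F] [Fintype F] (h2 : (2 : F) ≠ 0) {m : ℕ} (hm : 3 ≤ m) :
    Nat.card (omegaGL (quadFormOdd m F)) = Nat.card (Cfsg.POmega F (quadFormOdd m F)) := by
  have hQ := Cfsg.Agent.S0292.oddForm_nondegenerate (F := F) h2 m
  have hcard : Fintype.card (Unit ⊕ (Fin m ⊕ Fin m)) = 2 * m + 1 := by
    simp
    ring
  have hc := Cfsg.Agent.LieClassical.OrthCenter.card_center_omega_of_odd h2 hQ (by omega)
    (by rw [hcard]; exact ⟨m, rfl⟩) (Cfsg.Agent.S0292.exists_singular (by omega))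
  rw [Cfsg.Agent.LieClassical.QuadForms.coe_oddForm] at hc
  have h1 := Subgroup.card_eq_card_quotient_mul_card_subgroup
    (Subgroup.center (Cfsg.Omega F (quadFormOdd m F)))
  rw [hc, mul_one] at h1
  rw [← h1, omegaGL]
  exact (Nat.card_congr ((Cfsg.Omega F (quadFormOdd m F)).equivMapOfInjective
    (isometryGroup F (quadFormOdd m F)).subtype
    (isometryGroup F (quadFormOdd m F)).subtype_injective).toEquiv).symm

/-- **The rows `PΩ_k(K)`, `|K|` odd, `k ≥ 7`, in `Ω_{2m+1}(F)`, `m ≤ 5`.** -/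
theorem not_pomega {F : Type*} [Field F] [Fintype F] (hF : Odd (Fintype.card F)) {m : ℕ} (hm : m ≤ 5)
    {H P : Subgroup (GL (Unit ⊕ (Fin m ⊕ Fin m)) F)} (hlt : H < omegaGL (quadFormOdd m F))
    (hPH : P ≤ H) (hC : Core P)
    (hT : IsPOmegaOdd (Soc P) ∨
      (∃ (K : Type) (_ : Field K) (_ : Fintype K) (k : ℕ), 4 ≤ k ∧ Odd (Fintype.card K) ∧
        Nonempty (Soc P ≃* Cfsg.POmega K (quadFormPlus k K))) ∨
      ∃ (K : Type) (_ : Field K) (_ : Fintype K) (k : ℕ) (a b : K), 4 ≤ k ∧ Odd (Fintype.card K) ∧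
        (∀ z₁ z₂ : K, z₁ ^ 2 + a * z₁ * z₂ + b * z₂ ^ 2 = 0 → z₁ = 0 ∧ z₂ = 0) ∧
        Nonempty (Soc P ≃* Cfsg.POmega K (quadFormMinus (k - 1) K a b))) : False := by
  have h2F := finite_two_ne hF
  have hcard : Fintype.card (Unit ⊕ (Fin m ⊕ Fin m)) = 2 * m + 1 := by
    simp
    ring
  have hQF : IsNondegenerateQuadraticForm (quadFormOdd m F) := by
    rw [← coe_oddForm]
    exact isNondegenerateQuadraticForm (nondeg_oddForm m F h2F)
  have hZ : (scalars (Unit ⊕ (Fin m ⊕ Fin m)) F).subgroupOf P = ⊥ := by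
    rw [eq_bot_iff]
    intro x hx
    rw [Subgroup.mem_bot]
    apply Subtype.ext
    exact Cfsg.Agent.H922.scalars_inf_omegaGL (quadFormOdd m F) hQF (by rw [hcard]; exact ⟨m, rfl⟩)
      (hlt.le (hPH x.2)) hx
  rcases hT with ⟨K, iF, iT, k, hk, hodd, ⟨e⟩⟩ | ⟨K, iF, iT, k, hk, hodd, ⟨e⟩⟩ |
    ⟨K, iF, iT, k, a, b, hk, hodd, hab, ⟨e⟩⟩
  · have h2 := finite_two_ne hodd
    have hcard' : Fintype.card (Unit ⊕ (Fin k ⊕ Fin k)) = 2 * k + 1 := by
      simp
      ring
    have e' : Soc P ≃* Cfsg.POmega K ⇑(oddForm k K) := by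
      rw [coe_oddForm]
      exact e
    have h1 := card_eq_of_core hC hZ h2F h2 (nondeg_oddForm k K h2) (by omega) (by omega) e'
    have hmk : k = m := by omega
    subst hmk
    have h3 := card_field_eq hC hZ h2F h2 (nondeg_oddForm k K h2) (by omega)
      (by rw [hcard']; exact ⟨k, rfl⟩) (by omega) e'
    rw [Nat.card_eq_fintype_card, Nat.card_eq_fintype_card] at h3
    have h4 := Cfsg.Agent.S0292.result (F := K) (q := Fintype.card F) h3 hF k hk
    have h5 := Cfsg.Agent.S0292.result (F := F) (q := Fintype.card F) rfl hF k hk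
    have h6 : Nat.card P = Nat.card (omegaGL (quadFormOdd k F)) := by
      have h7 : Nat.card P = Nat.card (Soc P) :=
        (Nat.card_congr ((QuotientGroup.quotientMulEquivOfEq hZ).trans
          QuotientGroup.quotientBot).toEquiv).symm
      rw [card_omegaGL_odd h2F hk, h7, Nat.card_congr e.toEquiv]
      omega
    have h8 : P < omegaGL (quadFormOdd k F) := lt_of_le_of_lt hPH hlt
    have h9 : Finite (omegaGL (quadFormOdd k F)) := inferInstance
    exact absurd (Subgroup.eq_of_le_of_card_ge h8.le h6.ge) h8.ne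
  · have h2 := finite_two_ne hodd
    have hcard' : Fintype.card (Fin k ⊕ Fin k) = 2 * k := by
      simp
      ring
    have e' : Soc P ≃* Cfsg.POmega K ⇑(plusForm k K) := by
      rw [coe_plusForm]
      exact e
    have h1 := card_eq_of_core hC hZ h2F h2 (nondeg_plusForm k K) (by omega) (by omega) e'
    omega
  · have h2 := finite_two_ne hodd
    have hcard' : Fintype.card ((Fin (k - 1) ⊕ Fin (k - 1)) ⊕ Fin 2) = 2 * k := by
      simp
      omega
    have e' : Soc P ≃* Cfsg.POmega K ⇑(minusForm (k - 1) K a b) := by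
      rw [coe_minusForm]
      exact e
    have h1 := card_eq_of_core hC hZ h2F h2 (nondeg_minusForm (k - 1) K a b hab) (by omega) (by omega) e'
    omega

end Cfsg.Agent.H922.OmGL
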