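import Cfsg.Agent.H922.OmIdTwo
import Cfsg.Agent.H915.LD

/-!
`P ≤ GL(ι, F)`, the image of a homomorphism `φ : E Q →* P`, `Q` a good form over a finite field of odd order.
-/

set_option autoImplicit false

namespace Cfsg.Agent.H922.OmGL

open QuadraticMap Cfsg.Agent.LieClassical.OrthCore Cfsg.Agent.LieClassical.OrthTrans
  Cfsg.Agent.LieClassical.OrthFinite Cfsg.Agent.LieClassical.OrthSimple Cfsg.Agent.H883.Bridge
  Cfsg.Agent.H883.Root Cfsg.Agent.H883.Sub Module Cfsg.Agent.H922.Om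

open Cfsg Cfsg.Geo Cfsg.Agent.H915.LD

section general

variable {ι : Type} [Fintype ι] [DecidableEq ι] {F : Type*} [Field F] {P : Subgroup (GL ι F)}
  {K V : Type*} [Field K] [AddCommGroup V] [Module K V] {Q : QuadraticForm K V}

/-- The representation of `E Q` on `F^ι` given by a homomorphism to `P`. -/
noncomputable def rep (φ : E Q →* P) : E Q →* Module.End F (ι → F) where
  toFun g := Matrix.toLin' (((φ g : P) : GL ι F) : Matrix ι ι F)
  map_one' := by
    rw [map_one]
    exact Matrix.toLin'_one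
  map_mul' a b := by
    rw [map_mul, Subgroup.coe_mul, Units.val_mul, Matrix.toLin'_mul]
    rfl

theorem rep_apply (φ : E Q →* P) (g : E Q) (v : ι → F) :
    rep φ g v = (((φ g : P) : GL ι F) : Matrix ι ι F).mulVec v :=
  Matrix.toLin'_apply _ _

/-- No fixed vectors. -/
theorem rep_fix {φ : E Q →* P} (hφ : Function.Surjective φ) (hirr : ActsIrreducibly (matrixSet P))
    (hι : 2 ≤ Fintype.card ι) {x : ι → F} (hx : ∀ g, rep φ g x = x) : x = 0 := by
  by_contra h0
  have h1 := hirr (F ∙ x) (by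
    rintro _ ⟨g, hg, rfl⟩
    rw [Submodule.map_span_le]
    rintro y rfl
    obtain ⟨g', hg'⟩ := hφ ⟨g, hg⟩
    have h3 := hx g'
    rw [rep, MonoidHom.coe_mk, OneHom.coe_mk, hg'] at h3
    show Matrix.toLin' (g : Matrix ι ι F) y ∈ _
    rw [h3]
    exact Submodule.mem_span_singleton_self y)
  rcases h1 with h1 | h1
  · exact h0 (Submodule.span_singleton_eq_bot.1 h1)
  · have h3 := finrank_span_singleton (K := F) h0
    rw [h1, finrank_top, Module.finrank_fintype_fun_eq_card] at h3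
    omega

theorem rep_nontrivial {φ : E Q →* P} (hφ : Function.Surjective φ)
    (hirr : ActsIrreducibly (matrixSet P)) (hι : 2 ≤ Fintype.card ι) : ∃ g, rep φ g ≠ 1 := by
  by_contra hcon
  push Not at hcon
  have hne : Nonempty ι := Fintype.card_pos_iff.1 (by omega)
  have h1 : ∀ x : ι → F, x = 0 := fun x => rep_fix hφ hirr hι fun g => by
    rw [hcon]
    rfl
  have h3 := h1 fun _ => 1
  obtain ⟨i⟩ := hne
  exact one_ne_zero (congrFun h3 i)

/-- **Dimension.** -/
theorem card_eq [Finite K] {φ : E Q →* P} (hφ : Function.Surjective φ)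
    (hirr : ActsIrreducibly (matrixSet P)) (hι : 2 ≤ Fintype.card ι) (hι' : Fintype.card ι ≤ 12)
    (h2F : (2 : F) ≠ 0) (h2 : (2 : K) ≠ 0) (hQ : Nondeg Q) (hV : 7 ≤ finrank K V) :
    Fintype.card ι = finrank K V := by
  have h1 := finrank_eq_finrank (ρ := rep φ) (good_of_finite hQ (by omega)) h2 h2F hV
    (by rwa [Module.finrank_fintype_fun_eq_card]) (rep_nontrivial hφ hirr hι)
    fun x hx => rep_fix hφ hirr hι hx
  rwa [Module.finrank_fintype_fun_eq_card] at h1

/-- Full frames in odd dimension. -/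
theorem exists_fullNat [Finite K] {φ : E Q →* P} (hφ : Function.Surjective φ)
    (hirr : ActsIrreducibly (matrixSet P)) (hι : 2 ≤ Fintype.card ι) (hι' : Fintype.card ι ≤ 12)
    (h2F : (2 : F) ≠ 0) (h2 : (2 : K) ≠ 0) (hQ : Nondeg Q) (hV : 7 ≤ finrank K V)
    (hodd : Odd (finrank K V)) :
    ∃ (k : ℕ) (w : Fin (k + 1) → V) (ν : K), FullNat (rep φ) w ν := by
  have hG : Good Q := good_of_finite hQ (by omega)
  have hfd : FiniteDimensional K V := Module.finite_of_finrank_pos (by omega)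
  obtain ⟨k, hk⟩ : ∃ k, finrank K V = k + 1 := ⟨finrank K V - 1, by omega⟩
  rw [hk] at hodd
  obtain ⟨-, ν, -, w, -, h, -⟩ := exists_frames (Q := Q) h2 hQ (k := 0) (l := k + 1) hodd (by omega)
  have hdim := card_eq hφ hirr hι hι' h2F h2 hQ hV
  have hM : finrank F (ι → F) = k + 1 := by rw [Module.finrank_fintype_fun_eq_card, hdim, hk]
  have hD : Dec (rep φ) (h.s hG) := h.dec hG h2 h2F (by omega) (by omega) (Or.inr (by omega))
  exact ⟨k, w, ν, hG, h2, h2F, h, by omega, hk, hM, hD, fun a =>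
    h.finrank_L_eq_one hG h2 h2F (by omega) hD (rep_nontrivial hφ hirr hι) (by omega) a⟩

/-- **The field**: if `P` is the natural group over `K` then `F` is `f(K)`. -/
theorem realisable [Finite K] {φ : E Q →* P} (hφ : Function.Surjective φ) {k : ℕ}
    {w : Fin (k + 1) → V} {ν : K} (N : FullNat (rep φ) w ν) {f : K →+* F}
    {θ : V →ₛₗ[f] (ι → F)} {b : Basis (Fin (k + 1)) F (ι → F)} (hb : ∀ i, θ (w i) = b i)
    (hθ : ∀ (g : E Q) v, θ ((g : V ≃ₗ[K] V) v) = rep φ g (θ v)) :
    RealisableOver f.fieldRange (matrixSet P) := by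
  classical
  have hcard : Fintype.card (Fin (k + 1)) = Fintype.card ι := by
    rw [Fintype.card_fin, ← Module.finrank_fintype_fun_eq_card (R := F) (η := ι), N.hM]
  let e : Fin (k + 1) ≃ ι := Fintype.equivOfCardEq hcard
  let b' : Basis ι F (ι → F) := b.reindex e
  have hinv : b'.toMatrix (Pi.basisFun F ι) * (Pi.basisFun F ι).toMatrix b' = 1 :=
    Basis.toMatrix_mul_toMatrix_flip _ _
  have hinv' : (Pi.basisFun F ι).toMatrix b' * b'.toMatrix (Pi.basisFun F ι) = 1 :=
    Basis.toMatrix_mul_toMatrix_flip _ _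
  refine ⟨⟨b'.toMatrix (Pi.basisFun F ι), (Pi.basisFun F ι).toMatrix b', hinv, hinv'⟩, ?_⟩
  rintro _ ⟨g, hg, rfl⟩ i j
  obtain ⟨g', hg'⟩ := hφ ⟨g, hg⟩
  show (b'.toMatrix (Pi.basisFun F ι) * (g : Matrix ι ι F) * (Pi.basisFun F ι).toMatrix b') i j ∈ _
  have h1 : (g : Matrix ι ι F) = LinearMap.toMatrix (Pi.basisFun F ι) (Pi.basisFun F ι)
      (rep φ g') := by
    rw [rep, MonoidHom.coe_mk, OneHom.coe_mk, hg', LinearMap.toMatrix_eq_toMatrix',
      LinearMap.toMatrix'_toLin']
  rw [h1, basis_toMatrix_mul_linearMap_toMatrix_mul_basis_toMatrix, LinearMap.toMatrix_apply]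
  obtain ⟨i, rfl⟩ := e.surjective i
  obtain ⟨j, rfl⟩ := e.surjective j
  rw [Basis.reindex_apply, Equiv.symm_apply_apply, Basis.repr_reindex_apply, Equiv.symm_apply_apply,
    ← hb, ← hθ]
  conv => 
    arg 2
    rw [N.expand ((g' : V ≃ₗ[K] V) (w j)), map_sum]
  simp only [LinearMap.map_smulₛₗ, hb]
  rw [b.repr_sum_self]
  exact ⟨_, rfl⟩

end general

end Cfsg.Agent.H922.OmGL
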