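import Cfsg.Agent.H922.OmBlock
import Cfsg.Agent.H141.SpinLev

/-!
Elements of `E Q` which are the identity on the orthogonal complement of a nondegenerate subspace `U` of
dimension at least five belong to `EY Q U` (odd characteristic).
-/

set_option autoImplicit false

namespace Cfsg.Agent.H922.Om

open QuadraticMap Cfsg.Agent.LieClassical.OrthCore Cfsg.Agent.LieClassical.OrthTrans
  Cfsg.Agent.LieClassical.OrthFinite Cfsg.Agent.LieClassical.OrthSimple Cfsg.Agent.H883.Bridge
  Cfsg.Agent.H883.Root Cfsg.Agent.H883.Sub Module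

open Cfsg.Agent.H160.QSpin (pr pr_apply pr_mem_O spin spin_pr_left spin_cj IsIso det_cj det_pr)

variable {F V : Type*} [Field F] [AddCommGroup V] [Module F V] {Q : QuadraticForm F V}

/-- The restriction of an element of `stab U`. -/
def resEquiv {U : Submodule F V} {g : V ≃ₗ[F] V} (hg : g ∈ stab U) : U ≃ₗ[F] U where
  toFun u := ⟨g u, (hg u).1 u.2⟩
  invFun u := ⟨g.symm u, (hg _).2 (by rw [LinearEquiv.apply_symm_apply]; exact u.2)⟩
  left_inv u := Subtype.ext (g.symm_apply_apply _)
  right_inv u := Subtype.ext (g.apply_symm_apply _)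
  map_add' a b := Subtype.ext (map_add g _ _)
  map_smul' c a := Subtype.ext (map_smul g _ _)

theorem resEquiv_apply {U : Submodule F V} {g : V ≃ₗ[F] V} (hg : g ∈ stab U) (u : U) :
    (resEquiv hg u : V) = g u := rfl

theorem mem_EY_of_fix [Finite F] [FiniteDimensional F V] (h2 : (2 : F) ≠ 0) (hG : Good Q)
    {U : Submodule F V} (hU : NondegOn Q U) (hR : Good (res Q U)) {g : V ≃ₗ[F] V} (hg : g ∈ E Q)
    (hfix : ∀ v ∈ perp Q U, g v = v) : g ∈ EY Q U := by
  have hfV : Finite V := Module.finite_of_finite F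
  have hgO := E_le_O hg
  have hgU : g ∈ stab U := by
    refine mem_stab_of_le fun u hu => ?_
    have h1 : g u ∈ perp Q (perp Q U) := by
      rw [mem_perp]
      intro z hz
      rw [← hfix z hz, polar_map hgO, polar_comm]
      exact mem_perp.1 hz u hu
    rwa [perp_perp hG.nondeg] at h1
  let e : (U × perp Q U) ≃ₗ[F] V := Submodule.prodEquivOfIsCompl U (perp Q U) hU.isCompl
  have he : ∀ (u : U) (z : perp Q U), e (u, z) = (u : V) + (z : V) := fun u z => rfl
  have hiso : IsIso ((res Q U).prod (res Q (perp Q U))) Q e := by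
    rintro ⟨u, z⟩
    rw [he, Q_add, mem_perp.1 z.2 u u.2, add_zero]
    rfl
  have hgU' : resEquiv hgU ∈ O (res Q U) := by
    intro u
    show Q (g (u : V)) = Q (u : V)
    exact hgO _
  have hcj : Cfsg.Agent.H160.QSpin.cj e (pr (resEquiv hgU) 1) = g := by
    ext v
    obtain ⟨⟨u, z⟩, rfl⟩ := e.surjective v
    rw [Cfsg.Agent.H160.QSpin.cj_apply', pr_apply, he, he, map_add, hfix z z.2]
    rfl
  have hgc : g ∈ ⁅O Q, O Q⁆ := by
    rw [hG.commutator_eq_E]
    exact hg
  have hdet : LinearEquiv.det (resEquiv hgU) = 1 := by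
    have h1 := Cfsg.Agent.H141.SpinFacts.det_eq_one hgc
    rw [← hcj, det_cj, det_pr, map_one, mul_one] at h1
    exact h1
  have hfU : Finite (U × perp Q U) := inferInstance
  have hspin : spin (res Q U) ⟨resEquiv hgU, hgU'⟩ = 1 := by
    have h1 := Cfsg.Agent.H141.SpinFacts.hom_eq_one (spin Q) hgc hgO
    have h3 := spin_cj hiso (pr_mem_O hgU' (O (res Q (perp Q U))).one_mem)
    have h4 : (⟨Cfsg.Agent.H160.QSpin.cj e (pr (resEquiv hgU) 1),
        Cfsg.Agent.H160.QSpin.cj_mem_O hiso (pr_mem_O hgU' (O (res Q (perp Q U))).one_mem)⟩ : O Q) =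
        ⟨g, hgO⟩ := Subtype.ext hcj
    rw [h4, h1] at h3
    rw [← spin_pr_left (Q₂ := res Q (perp Q U)) h2 hU.res hgU', ← h3]
  have hmem := Cfsg.Agent.H141.SpinFacts.mem_Om_of_odd h2 hR hgU' hdet hspin
  have hmem' : resEquiv hgU ∈ E (res Q U) := by
    rw [← hR.commutator_eq_E]
    exact hmem
  obtain ⟨g', hg', e'⟩ := exists_lift hmem'
  have : g = g' := by
    refine eq_of_agree hU (fun y hy => ?_) fun v hv => ?_
    · rw [e' ⟨y, hy⟩]
      rfl
    · rw [hfix v hv, EY_fix hg' (mem_perp.1 hv)]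
  rw [this]
  exact hg'

end Cfsg.Agent.H922.Om
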