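import Cfsg.Agent.H922.OmSix
import Cfsg.Agent.ClassicalGeometry.Discriminant

/-!
Existence of orthogonal frames over finite fields of odd characteristic.
-/

set_option autoImplicit false

namespace Cfsg.Agent.H922.Om

open QuadraticMap Cfsg.Agent.LieClassical.OrthCore Cfsg.Agent.LieClassical.OrthTrans
  Cfsg.Agent.LieClassical.OrthFinite Cfsg.Agent.LieClassical.OrthSimple Cfsg.Agent.H883.Bridge
  Cfsg.Agent.H883.Root Cfsg.Agent.H883.Sub Module

variable {F V : Type*} [Field F] [AddCommGroup V] [Module F V] {Q : QuadraticForm F V}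

theorem polarBilin_isSymm : LinearMap.BilinForm.IsSymm (polarBilin Q) :=
  ⟨fun x y => polar_comm Q x y⟩

/-- An orthogonal basis with prescribed norms. -/
theorem exists_basis_norm [Finite F] [FiniteDimensional F V] (h2 : (2 : F) ≠ 0) (hQ : Nondeg Q)
    {ι κ : Type*} [Fintype ι] [DecidableEq ι] [Fintype κ] [DecidableEq κ] (b : Basis κ F V)
    (c : ι → F) (hcard : Fintype.card ι = finrank F V) (hc : ∀ i, c i ≠ 0) (s : F)
    (hdet : (LinearMap.BilinForm.toMatrix b (polarBilin Q)).det = s ^ 2 * ∏ i, (2 * c i)) :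
    ∃ v : Basis ι F V, (∀ i, Q (v i) = c i) ∧ ∀ i j, i ≠ j → polar Q (v i) (v j) = 0 := by
  obtain ⟨v, hv⟩ := Cfsg.Agent.ClassicalGeometry.Discriminant.exists_basis_diag h2
    (polarBilin Q : LinearMap.BilinForm F V) polarBilin_isSymm (nondegenerate_of_nondeg hQ) b
    (fun i => 2 * c i) hcard (fun i => mul_ne_zero h2 (hc i)) s hdet
  refine ⟨v, fun i => ?_, fun i j hij => ?_⟩
  · have h := hv i i
    rw [if_pos rfl, polarBilin_apply_apply, polar_self'] at h
    exact mul_left_cancel₀ h2 h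
  · have h := hv i j
    rwa [if_neg hij, polarBilin_apply_apply] at h

/-- Two orthogonal frames, of sizes `k` and `l`, `l` odd, `k + l = dim V`. -/
theorem exists_frames [Finite F] [FiniteDimensional F V] (h2 : (2 : F) ≠ 0) (hQ : Nondeg Q)
    {k l : ℕ} (hl : Odd l) (hV : finrank F V = k + l) :
    ∃ (ν μ : F) (w : Fin k → V) (w' : Fin l → V), Frame Q w ν ∧ Frame Q w' μ ∧
      ∀ i j, polar Q (w i) (w' j) = 0 := by
  obtain ⟨t, ht⟩ := hl
  let b := finBasis F V
  set d := (LinearMap.BilinForm.toMatrix b (polarBilin Q)).det with hd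
  have hd0 : d ≠ 0 :=
    (LinearMap.BilinForm.nondegenerate_iff_det_ne_zero b).1 (nondegenerate_of_nondeg hQ)
  obtain ⟨v, hv1, hv2⟩ := exists_basis_norm h2 hQ b
    (Sum.elim (fun _ : Fin k => (2 : F)⁻¹) (fun _ : Fin l => (2 : F)⁻¹ * d)) (by simp [hV])
    (by
      rintro (i | i)
      · exact inv_ne_zero h2
      · exact mul_ne_zero (inv_ne_zero h2) hd0) ((d ^ t)⁻¹) (by
      rw [← hd, Fintype.prod_sum_type]
      simp only [Sum.elim_inl, Sum.elim_inr, mul_inv_cancel_left₀ h2, mul_inv_cancel₀ h2,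
        Finset.prod_const_one, one_mul, Finset.prod_const, Finset.card_univ, Fintype.card_fin]
      rw [ht]
      field_simp
      ring)
  refine ⟨2⁻¹, 2⁻¹ * d, fun i => v (Sum.inl i), fun i => v (Sum.inr i),
    ⟨inv_ne_zero h2, fun i => hv1 _, fun i j hij => hv2 _ _ fun e => hij (Sum.inl.inj e)⟩,
    ⟨mul_ne_zero (inv_ne_zero h2) hd0, fun i => hv1 _, fun i j hij => hv2 _ _ fun e => hij (Sum.inr.inj e)⟩,
    fun i j => hv2 _ _ (by simp)⟩

theorem toMatrix_frame {k : ℕ} {w : Fin k → V} {ν : F} (h : Frame Q w ν) (b : Basis (Fin k) F V)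
    (hb : ∀ i, b i = w i) : (LinearMap.BilinForm.toMatrix b (polarBilin Q)).det = (2 * ν) ^ k := by
  have e : LinearMap.BilinForm.toMatrix b (polarBilin Q) = Matrix.diagonal fun _ => 2 * ν := by
    ext i j
    rw [LinearMap.BilinForm.toMatrix_apply, polarBilin_apply_apply, hb, hb]
    by_cases hij : i = j
    · subst hij
      rw [h.polar_self, Matrix.diagonal_apply_eq]
    · rw [h.orth i j hij, Matrix.diagonal_apply_ne _ hij]
  rw [e, Matrix.det_diagonal, Finset.prod_const, Finset.card_univ, Fintype.card_fin]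

/-- A frame of an even number of vectors can be replaced by a frame of any other norm with the same span. -/
theorem exists_frame_same_span [Finite F] [FiniteDimensional F V] (h2 : (2 : F) ≠ 0) {k : ℕ}
    (hk : Even k) {w : Fin k → V} {ν : F} (h : Frame Q w ν) {μ : F} (hμ : μ ≠ 0) :
    ∃ w' : Fin k → V, Frame Q w' μ ∧ Frame.sp (F := F) w' = Frame.sp (F := F) w := by
  obtain ⟨t, ht⟩ := hk
  let Y := Frame.sp (F := F) w
  have hli := h.toRes.linearIndependent h2
  have hfr : finrank F Y = k := h.finrank_span h2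
  have hspan : ⊤ ≤ Submodule.span F (Set.range fun i => (⟨w i, Frame.mem_span w i⟩ : Y)) := by
    rw [top_le_iff]
    apply Submodule.eq_top_of_finrank_eq
    rw [hfr]
    exact h.toRes.finrank_span h2
  let b : Basis (Fin k) F Y := Basis.mk hli hspan
  have hb : ∀ i, b i = ⟨w i, Frame.mem_span w i⟩ := fun i => by
    rw [Basis.mk_apply]
  have hν := h.ne
  obtain ⟨v, hv1, hv2⟩ := exists_basis_norm (Q := res Q Y) h2 (h.nondegOn h2).res b (fun _ : Fin k => μ)
    (by rw [Fintype.card_fin, hfr]) (fun _ => hμ) ((ν * μ⁻¹) ^ t) (by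
      rw [toMatrix_frame h.toRes b hb, Finset.prod_const, Finset.card_univ, Fintype.card_fin, ht,
        ← pow_mul, mul_comm t 2, ← two_mul t, ← mul_pow]
      congr 1
      field_simp)
  refine ⟨fun i => (v i : V), ⟨hμ, fun i => hv1 i, fun i j hij => hv2 i j hij⟩, ?_⟩
  have hF : Frame Q (fun i => (v i : V)) μ := ⟨hμ, fun i => hv1 i, fun i j hij => hv2 i j hij⟩
  refine Submodule.eq_of_le_of_finrank_eq ?_ ?_
  · rw [Submodule.span_le]
    rintro _ ⟨i, rfl⟩
    exact (v i).2
  · rw [hF.finrank_span h2, h.finrank_span h2]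

/-- Adding an orthogonal vector of the same norm. -/
theorem Frame.snoc {k : ℕ} {w : Fin k → V} {ν : F} (h : Frame Q w ν) {z : V} (hz : Q z = ν)
    (ho : ∀ i, polar Q (w i) z = 0) : Frame Q (Fin.snoc w z : Fin (k + 1) → V) ν where
  ne := h.ne
  norm i := by
    refine Fin.lastCases ?_ (fun i => ?_) i
    · rw [Fin.snoc_last, hz]
    · rw [Fin.snoc_castSucc, h.norm]
  orth i j := by
    refine Fin.lastCases ?_ (fun i => ?_) i
    · refine Fin.lastCases ?_ (fun j => ?_) j
      · intro hij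
        exact absurd rfl hij
      · intro _
        rw [Fin.snoc_last, Fin.snoc_castSucc, polar_comm, ho]
    · refine Fin.lastCases ?_ (fun j => ?_) j
      · intro _
        rw [Fin.snoc_last, Fin.snoc_castSucc, ho]
      · intro hij
        rw [Fin.snoc_castSucc, Fin.snoc_castSucc]
        exact h.orth i j fun e => hij (by rw [e])

end Cfsg.Agent.H922.Om
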