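import Cfsg.Agent.H922.OmRow
import Cfsg.Agent.H922.OmStab

/-!
**Identification of the natural module of `Ω_m(q)`**, `q` odd, `m ≥ 7`: a representation of dimension `m`
(over any field `K` with `2 ≠ 0`) in which a full frame acts with `m` one-dimensional weight spaces `L a` is
`V ⊗_f K` for a ring homomorphism `f : F →+* K`.

First part: the vectors `mv v`, `Q v = ν`, and the coordinate function `f`.
-/

set_option autoImplicit false

namespace Cfsg.Agent.H922.Om

open QuadraticMap Cfsg.Agent.LieClassical.OrthCore Cfsg.Agent.LieClassical.OrthTrans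
  Cfsg.Agent.LieClassical.OrthFinite Cfsg.Agent.LieClassical.OrthSimple Cfsg.Agent.H883.Bridge
  Cfsg.Agent.H883.Root Cfsg.Agent.H883.Sub Module

open Equiv (swap swap_apply_left swap_apply_right swap_apply_of_ne_of_ne)

variable {F V : Type*} [Field F] [AddCommGroup V] [Module F V] {Q : QuadraticForm F V}
  {K M : Type*} [Field K] [AddCommGroup M] [Module K M]

/-- The hypotheses: a full frame `w`, the representation has the same dimension, and the lines `L a`. -/
structure FullNat (ρ : E Q →* Module.End K M) {k : ℕ} (w : Fin (k + 1) → V) (ν : F) : Prop where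
  hG : Good Q
  h2 : (2 : F) ≠ 0
  hK : (2 : K) ≠ 0
  fr : Frame Q w ν
  hk : 6 ≤ k
  hV : finrank F V = k + 1
  hM : finrank K M = k + 1
  dec : Dec ρ (fr.s hG)
  line : ∀ a, finrank K (L ρ (fr.s hG) a) = 1

namespace FullNat

variable {ρ : E Q →* Module.End K M} {k : ℕ} {w : Fin (k + 1) → V} {ν : F}

theorem finV (N : FullNat ρ w ν) : FiniteDimensional F V :=
  Module.finite_of_finrank_pos (by rw [N.hV]; omega)

theorem finM (N : FullNat ρ w ν) : FiniteDimensional K M :=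
  Module.finite_of_finrank_pos (by rw [N.hM]; omega)

/-- `(2ν)⁻¹ polar`: for frame vectors, the coordinates. -/
def ip (Q : QuadraticForm F V) (ν : F) (u v : V) : F := (2 * ν)⁻¹ * polar Q u v

theorem two_nu_ne (N : FullNat ρ w ν) : 2 * ν ≠ 0 := mul_ne_zero N.h2 N.fr.ne

theorem ip_self (N : FullNat ρ w ν) (i : Fin (k + 1)) : ip Q ν (w i) (w i) = 1 := by
  rw [ip, N.fr.polar_self, inv_mul_cancel₀ N.two_nu_ne]

theorem ip_ne (N : FullNat ρ w ν) {i j : Fin (k + 1)} (hij : i ≠ j) : ip Q ν (w i) (w j) = 0 := by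
  rw [ip, N.fr.orth i j hij, mul_zero]

theorem ip_add (u v v' : V) : ip Q ν u (v + v') = ip Q ν u v + ip Q ν u v' := by
  rw [ip, polar_add_right, mul_add]; rfl

theorem ip_smul (u : V) (c : F) (v : V) : ip Q ν u (c • v) = c * ip Q ν u v := by
  rw [ip, ip, polar_smul_right, smul_eq_mul]; ring

theorem ip_neg (u v : V) : ip Q ν u (-v) = - ip Q ν u v := by
  rw [ip, ip, polar_neg_right]; ring

theorem ip_comm (u v : V) : ip Q ν u v = ip Q ν v u := by
  rw [ip, ip, polar_comm]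

theorem ip_map {g : V ≃ₗ[F] V} (hg : g ∈ O Q) (u v : V) : ip Q ν (g u) (g v) = ip Q ν u v := by
  rw [ip, ip, polar_map hg]

theorem ip_sum {ι : Type*} (s : Finset ι) (u : V) (g : ι → V) :
    ip Q ν u (∑ i ∈ s, g i) = ∑ i ∈ s, ip Q ν u (g i) := by
  have := map_sum (polarBilin Q u) g s
  simp only [polarBilin_apply_apply] at this
  rw [ip, this, Finset.mul_sum]
  rfl

theorem sp_eq_top (N : FullNat ρ w ν) : Frame.sp (F := F) w = ⊤ := by
  have := N.finV
  apply Submodule.eq_top_of_finrank_eq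
  rw [N.fr.finrank_span N.h2, N.hV]

/-- Expansion of a vector in the frame. -/
theorem expand (N : FullNat ρ w ν) (v : V) : v = ∑ i, ip Q ν (w i) v • w i := by
  have hv : v ∈ Frame.sp (F := F) w := by
    rw [N.sp_eq_top]
    trivial
  obtain ⟨c, hc⟩ := (Submodule.mem_span_range_iff_exists_fun F).1 hv
  have h1 : ∀ i, ip Q ν (w i) v = c i := by
    intro i
    rw [← hc, ip_sum, Finset.sum_eq_single i]
    · rw [ip_smul, N.ip_self, mul_one]
    · intro j _ hj
      rw [ip_smul, N.ip_ne (Ne.symm hj), mul_zero]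
    · intro hi
      exact absurd (Finset.mem_univ i) hi
  conv_lhs => rw [← hc]
  exact Finset.sum_congr rfl fun i _ => by rw [h1]

/-- The orthogonal complement of `w a`. -/
abbrev U (w : Fin (k + 1) → V) (a : Fin (k + 1)) : Submodule F V :=
  Frame.sp (F := F) fun j => w (a.succAboveEmb j)

theorem frU (N : FullNat ρ w ν) (a : Fin (k + 1)) : Frame Q (fun j => w (a.succAboveEmb j)) ν :=
  N.fr.comp a.succAboveEmb

theorem mem_U (N : FullNat ρ w ν) {a : Fin (k + 1)} {v : V} (hv : polar Q (w a) v = 0) :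
    v ∈ U (F := F) w a := by
  rw [N.expand v]
  refine Submodule.sum_mem _ fun i _ => ?_
  by_cases hi : i = a
  · subst hi
    rw [ip, hv, mul_zero, zero_smul]
    exact Submodule.zero_mem _
  · obtain ⟨j, rfl⟩ := Fin.exists_succAbove_eq hi
    exact Submodule.smul_mem _ _ (Frame.mem_span (fun j => w (a.succAboveEmb j)) j)

theorem orth_U (N : FullNat ρ w ν) {a : Fin (k + 1)} {v : V} (hv : v ∈ U (F := F) w a) :
    polar Q (w a) v = 0 := by
  rw [polar_comm]
  refine Frame.perp_span (w := fun j => w (a.succAboveEmb j)) (fun i => ?_) v hv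
  exact N.fr.orth _ _ (Fin.succAbove_ne a i)

theorem perp_U (N : FullNat ρ w ν) {a : Fin (k + 1)} {v : V} (hv : v ∈ perp Q (U (F := F) w a)) :
    v = ip Q ν (w a) v • w a := by
  have h1 := N.expand v
  rw [Finset.sum_eq_single a] at h1
  · exact h1
  · intro i _ hi
    obtain ⟨j, rfl⟩ := Fin.exists_succAbove_eq hi
    have := mem_perp.1 hv _ (Frame.mem_span (fun j => w (a.succAboveEmb j)) j)
    rw [ip]
    show ((2 * ν)⁻¹ * polar Q (w (a.succAboveEmb j)) v) • _ = _
    rw [this, mul_zero, zero_smul]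
  · intro h
    exact absurd (Finset.mem_univ a) h

theorem nondegU (N : FullNat ρ w ν) (a : Fin (k + 1)) : NondegOn Q (U (F := F) w a) :=
  (N.frU a).nondegOn N.h2

theorem goodU [Finite F] (N : FullNat ρ w ν) (a : Fin (k + 1)) : Good (res Q (U (F := F) w a)) := by
  refine good_res (N.nondegU a) ?_
  rw [(N.frU a).finrank_span N.h2]
  have := N.hk
  omega

/-- The stabiliser of a frame vector. -/
theorem mem_EY [Finite F] (N : FullNat ρ w ν) {a : Fin (k + 1)} {g : V ≃ₗ[F] V} (hg : g ∈ E Q)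
    (ha : g (w a) = w a) : g ∈ EY Q (U (F := F) w a) := by
  have := N.finV
  refine mem_EY_of_fix N.h2 N.hG (N.nondegU a) (N.goodU a) hg fun v hv => ?_
  rw [N.perp_U hv, map_smul, ha]

theorem L_le_FixS [Finite F] (N : FullNat ρ w ν) (a : Fin (k + 1)) :
    L ρ (N.fr.s N.hG) a ≤ FixS ρ (U (F := F) w a) := by
  have := N.finV
  have h1 : L ρ (N.fr.s N.hG) a ≤ M0 ρ ((N.frU a).s N.hG) :=
    L_le_M0_comp a.succAboveEmb fun i => Fin.succAbove_ne a i
  exact h1.trans ((N.frU a).M0_le_FixS N.hG N.h2 N.hK N.hk fun f =>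
    (N.dec.comp a.succAboveEmb).comp f)

theorem fix_line [Finite F] (N : FullNat ρ w ν) {a : Fin (k + 1)} {g : E Q}
    (ha : (g : V ≃ₗ[F] V) (w a) = w a) {x : M} (hx : x ∈ L ρ (N.fr.s N.hG) a) : ρ g x = x :=
  N.L_le_FixS a hx _ (N.mem_EY g.2 ha)

/-! ### The vectors `mv v` -/

theorem exists_map (N : FullNat ρ w ν) {v : V} (hv : Q v = ν) :
    ∃ g : E Q, (g : V ≃ₗ[F] V) (w 0) = v := by
  have hne : ∀ {v : V}, Q v = ν → v ≠ 0 := by
    rintro v hv rfl
    rw [QuadraticMap.map_zero] at hv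
    exact N.fr.ne hv.symm
  obtain ⟨g, hg, e⟩ := N.hG.trans_norm (hne (N.fr.norm 0)) (hne hv) (by rw [N.fr.norm, hv])
  exact ⟨⟨g, hg⟩, e⟩

open Classical in
/-- The vector of `M` corresponding to `v`, `Q v = ν`. -/
noncomputable def mv (N : FullNat ρ w ν) (m0 : M) (v : V) : M :=
  if hv : Q v = ν then ρ (N.exists_map hv).choose m0 else 0

theorem Q_map (_N : FullNat ρ w ν) (g : E Q) {v : V} (hv : Q v = ν) :
    Q ((g : V ≃ₗ[F] V) v) = ν := by
  rw [E_le_O g.2, hv]

variable {m0 : M}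

theorem mv_eq [Finite F] (N : FullNat ρ w ν) (hm0 : m0 ∈ L ρ (N.fr.s N.hG) 0) {g : E Q} {v : V}
    (hv : (g : V ≃ₗ[F] V) (w 0) = v) : N.mv m0 v = ρ g m0 := by
  have hQ : Q v = ν := by
    rw [← hv]
    exact N.Q_map g (N.fr.norm 0)
  rw [mv, dif_pos hQ]
  have h1 := (N.exists_map hQ).choose_spec
  set g' := (N.exists_map hQ).choose with hg'
  have h3 : ((g⁻¹ * g' : E Q) : V ≃ₗ[F] V) (w 0) = w 0 := by
    show (g : V ≃ₗ[F] V).symm ((g' : V ≃ₗ[F] V) (w 0)) = w 0
    rw [h1, ← hv, LinearEquiv.symm_apply_apply]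
  have h4 := N.fix_line h3 hm0
  rw [rho_mul] at h4
  rw [← rho_inv' (ρ := ρ) g (ρ g' m0), h4]

theorem mv_map [Finite F] (N : FullNat ρ w ν) (hm0 : m0 ∈ L ρ (N.fr.s N.hG) 0) (g : E Q) {v : V}
    (hv : Q v = ν) : ρ g (N.mv m0 v) = N.mv m0 ((g : V ≃ₗ[F] V) v) := by
  obtain ⟨g', hg'⟩ := N.exists_map hv
  rw [N.mv_eq hm0 hg', N.mv_eq hm0 (g := g * g') (v := (g : V ≃ₗ[F] V) v) (by
    show (g : V ≃ₗ[F] V) ((g' : V ≃ₗ[F] V) (w 0)) = _
    rw [hg']), rho_mul]

/-- An element of `E Q` permuting the frame and mapping `w 0` to `w i`. -/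
theorem exists_pi (N : FullNat ρ w ν) (i : Fin (k + 1)) :
    ∃ (g : E Q) (σ : Equiv.Perm (Fin (k + 1))), σ 0 = i ∧
      (∀ j, (g : V ≃ₗ[F] V) (w j) = w (σ j)) ∧
      ∀ a b, g * N.fr.s N.hG a b * g⁻¹ = N.fr.s N.hG (σ a) (σ b) := by
  by_cases hi : i = 0
  · refine ⟨1, 1, by rw [hi]; rfl, fun j => rfl, fun a b => ?_⟩
    rw [one_mul, inv_one, mul_one]
    rfl
  · obtain ⟨c, d, hcd, hc, hd⟩ := exists_two (n := k + 1) (by have := N.hk; omega) (0 : Fin (k + 1))
    obtain ⟨g, -, hg1, hg2⟩ := N.fr.exists_perm N.hG N.h2 (a := 0) (b := i) (Ne.symm hi) hcd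
    refine ⟨g, (swap c d).trans (swap 0 i), ?_, hg2, hg1⟩
    show swap 0 i (swap c d 0) = i
    rw [swap_apply_of_ne_of_ne hc.symm hd.symm, swap_apply_left]

theorem mv_mem_L [Finite F] (N : FullNat ρ w ν) (hm0 : m0 ∈ L ρ (N.fr.s N.hG) 0) (i : Fin (k + 1)) :
    N.mv m0 (w i) ∈ L ρ (N.fr.s N.hG) i := by
  obtain ⟨g, σ, h0, h1, h3⟩ := N.exists_pi i
  have h4 : (g : V ≃ₗ[F] V) (w 0) = w i := by rw [h1, h0]
  rw [N.mv_eq hm0 h4, ← h0]
  exact L_map_of_conj h3 hm0

theorem mv_ne [Finite F] (N : FullNat ρ w ν) (hm0 : m0 ∈ L ρ (N.fr.s N.hG) 0) (h0 : m0 ≠ 0) {v : V}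
    (hv : Q v = ν) : N.mv m0 v ≠ 0 := by
  obtain ⟨g, hg⟩ := N.exists_map hv
  rw [N.mv_eq hm0 hg]
  intro e
  apply h0
  rw [← rho_inv (ρ := ρ) g m0, e, map_zero]

theorem exists_basis [Finite F] (N : FullNat ρ w ν) (hm0 : m0 ∈ L ρ (N.fr.s N.hG) 0) (h0 : m0 ≠ 0) :
    ∃ b : Basis (Fin (k + 1)) K M, ∀ i, b i = N.mv m0 (w i) := by
  have hli : LinearIndependent K fun i => N.mv m0 (w i) :=
    (iSupIndep_L (N.fr.sgn N.hG N.h2) N.hK (by have := N.hk; omega)).linearIndependent _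
      (fun i => N.mv_mem_L hm0 i) fun i => N.mv_ne hm0 h0 (N.fr.norm i)
  exact ⟨basisOfLinearIndependentOfCardEqFinrank hli (by rw [N.hM, Fintype.card_fin]), fun i => by
    rw [coe_basisOfLinearIndependentOfCardEqFinrank]⟩

end FullNat

/-- The data with the chosen vector and basis. -/
structure NatB (ρ : E Q →* Module.End K M) {k : ℕ} (w : Fin (k + 1) → V) (ν : F) (m0 : M)
    (b : Basis (Fin (k + 1)) K M) : Prop extends FullNat ρ w ν where
  hm0 : m0 ∈ L ρ (fr.s hG) 0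
  hm0' : m0 ≠ 0
  hb : ∀ i, b i = toFullNat.mv m0 (w i)

namespace NatB

open FullNat

variable {ρ : E Q →* Module.End K M} {k : ℕ} {w : Fin (k + 1) → V} {ν : F} {m0 : M}
  {b : Basis (Fin (k + 1)) K M}

theorem b_mem [Finite F] (N : NatB ρ w ν m0 b) (i : Fin (k + 1)) :
    b i ∈ L ρ (N.fr.s N.hG) i := by
  rw [N.hb]
  exact N.mv_mem_L N.hm0 i

/-- **Invariance of the coordinates** under the stabiliser of the frame vector. -/
theorem coord_map [Finite F] (N : NatB ρ w ν m0 b) {i : Fin (k + 1)} {g : E Q}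
    (hg : (g : V ≃ₗ[F] V) (w i) = w i) (y : M) : b.coord i (ρ g y) = b.coord i y := by
  have := N.finV
  -- the subgroup of elements with the property
  let H : Subgroup (V ≃ₗ[F] V) :=
    { carrier := {g | ∃ hg : g ∈ E Q, ∀ y, b.coord i (ρ ⟨g, hg⟩ y) = b.coord i y}
      mul_mem' := by
        rintro x z ⟨hx, h1⟩ ⟨hz, h3⟩
        refine ⟨(E Q).mul_mem hx hz, fun y => ?_⟩
        have e : (⟨x * z, (E Q).mul_mem hx hz⟩ : E Q) = ⟨x, hx⟩ * ⟨z, hz⟩ := rfl
        rw [e, rho_mul, h1, h3]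
      one_mem' := ⟨(E Q).one_mem, fun y => congrArg _ (rho_one y)⟩
      inv_mem' := by
        rintro x ⟨hx, h1⟩
        refine ⟨(E Q).inv_mem hx, fun y => ?_⟩
        have e : (⟨x⁻¹, (E Q).inv_mem hx⟩ : E Q) = ⟨x, hx⟩⁻¹ := rfl
        rw [e, ← h1 (ρ ⟨x, hx⟩⁻¹ y), rho_inv'] }
  have hH : EY Q (U (F := F) w i) ≤ H := by
    refine (N.frU i).EY_sp_le_of_six N.h2 N.hk fun f => ?_
    intro g hg
    refine ⟨EY_le_E hg, fun y => ?_⟩
    have hC := (N.frU i).comp f
    set g' : E Q := ⟨g, EY_le_E hg⟩ with hg'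
    have hDC : Dec ρ (hC.s N.hG) := (N.dec.comp i.succAboveEmb).comp f
    have hRC : Good (res Q (Frame.sp (F := F) fun j => w (i.succAboveEmb (f j)))) := by
      refine good_res (hC.nondegOn N.h2) ?_
      rw [hC.finrank_span N.h2]
      norm_num
    -- the involution `zz`
    have hzz : ∀ j, ρ (hC.zz N.hG) (b j) = if ∃ t, i.succAboveEmb (f t) = j then - b j else b j := by
      intro j
      split
      · rename_i hj
        obtain ⟨t, rfl⟩ := hj
        refine hC.zz_L N.hG (a := t) ?_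
        exact L_le_comp (f.trans i.succAboveEmb) t (N.b_mem _)
      · rename_i hj
        push Not at hj
        refine hC.zz_M0 N.hG ?_
        exact L_le_M0_comp (f.trans i.succAboveEmb) (fun t => hj t) (N.b_mem _)
    have hczz : ∀ y, b.coord i (ρ (hC.zz N.hG) y) = b.coord i y := by
      have h1 : (b.coord i).comp (ρ (hC.zz N.hG)) = b.coord i := by
        refine b.ext fun j => ?_
        rw [LinearMap.comp_apply, hzz]
        split
        · rename_i hj
          obtain ⟨t, rfl⟩ := hj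
          have hne : i.succAboveEmb (f t) ≠ i := Fin.succAbove_ne i (f t)
          rw [map_neg, Basis.coord_apply, Basis.repr_self, Finsupp.single_apply, if_neg hne, neg_zero]
        · rfl
      intro y
      exact congrArg (fun φ : M →ₗ[K] K => φ y) h1
    have h1 : (b.coord i).comp (ρ g') = b.coord i := by
      refine b.ext fun j => ?_
      rw [LinearMap.comp_apply]
      by_cases hj : ∃ t, i.succAboveEmb (f t) = j
      · have h3 : ρ (hC.zz N.hG) (ρ g' (b j)) = - ρ g' (b j) := by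
          have e : hC.zz N.hG * g' = g' * hC.zz N.hG := Subtype.ext (hC.zz_comm N.hG N.h2 hg)
          rw [← rho_mul, e, rho_mul, hzz, if_pos hj, map_neg]
        have h4 := hczz (ρ g' (b j))
        rw [h3, map_neg] at h4
        have h5 : (2 : K) * b.coord i (ρ g' (b j)) = 0 := by linear_combination -h4
        have h6 := (mul_eq_zero.1 h5).resolve_left N.hK
        rw [h6]
        obtain ⟨t, rfl⟩ := hj
        have hne : i.succAboveEmb (f t) ≠ i := Fin.succAbove_ne i (f t)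
        rw [Basis.coord_apply, Basis.repr_self, Finsupp.single_apply, if_neg hne]
      · push Not at hj
        have h3 : b j ∈ M0 ρ (hC.s N.hG) :=
          L_le_M0_comp (f.trans i.succAboveEmb) (fun t => hj t) (N.b_mem _)
        have h4 := hC.M0_le_FixS_six N.hG N.h2 N.hK hRC hDC h3
        rw [h4 g hg]
    exact congrArg (fun φ : M →ₗ[K] K => φ y) h1
  obtain ⟨hg', h1⟩ := hH (N.mem_EY g.2 hg)
  exact h1 y

theorem coord_pi [Finite F] (N : NatB ρ w ν m0 b) {g : E Q} {σ : Equiv.Perm (Fin (k + 1))}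
    (hg : ∀ j, (g : V ≃ₗ[F] V) (w j) = w (σ j)) (i : Fin (k + 1)) (y : M) :
    b.coord (σ i) (ρ g y) = b.coord i y := by
  have h1 : (b.coord (σ i)).comp (ρ g) = b.coord i := by
    refine b.ext fun j => ?_
    rw [LinearMap.comp_apply, N.hb j, N.mv_map N.hm0 g (N.fr.norm j), hg, ← N.hb, ← N.hb,
      Basis.coord_apply, Basis.coord_apply, Basis.repr_self, Basis.repr_self, Finsupp.single_apply,
      Finsupp.single_apply]
    simp only [EmbeddingLike.apply_eq_iff_eq]
  exact congrArg (fun φ : M →ₗ[K] K => φ y) h1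

/-! ### The coordinate function -/

theorem exists_y [Finite F] (N : NatB ρ w ν m0 b) (x : F) :
    ∃ y ∈ U (F := F) w 0, y ≠ 0 ∧ Q y = ν * (1 - x * x) := by
  obtain ⟨a, c, hyp⟩ := (N.goodU 0).exists_hyp
  have hyp' : Hyp Q (a : V) (c : V) := ⟨hyp.left, hyp.right, hyp.pair⟩
  obtain ⟨h1, h3⟩ := exists_value hyp' (ν * (1 - x * x))
  exact ⟨_, Submodule.add_mem _ a.2 (Submodule.smul_mem _ _ c.2), h3, h1⟩

/-- The function `f : F → K`. -/
noncomputable def f [Finite F] (N : NatB ρ w ν m0 b) (x : F) : K :=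
  b.coord 0 (N.mv m0 (x • w 0 + (N.exists_y x).choose))

theorem coord_zero [Finite F] (N : NatB ρ w ν m0 b) {v : V} (hv : Q v = ν) (h1 : v ≠ w 0)
    (h3 : v ≠ - w 0) : b.coord 0 (N.mv m0 v) = N.f (ip Q ν (w 0) v) := by
  have := N.finV
  set x := ip Q ν (w 0) v with hx
  obtain ⟨hyU, hy0, hyQ⟩ := (N.exists_y x).choose_spec
  set y := (N.exists_y x).choose with hy
  set y' := v - x • w 0 with hy'
  have hpx : polar Q (w 0) v = 2 * ν * x := by
    rw [hx, ip, ← mul_assoc, mul_inv_cancel₀ N.two_nu_ne, one_mul]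
  have hy'p : polar Q (w 0) y' = 0 := by
    rw [hy', polar_sub_right, polar_smul_right, N.fr.polar_self, hpx, smul_eq_mul]
    ring
  have hy'U : y' ∈ U (F := F) w 0 := N.mem_U hy'p
  have hve : v = x • w 0 + y' := by rw [hy', add_sub_cancel]
  have hy'Q : Q y' = ν * (1 - x * x) := by
    have h4 : Q v = x * x * ν + Q y' := by
      conv_lhs => rw [hve]
      rw [Q_add, QuadraticMap.map_smul, polar_smul_left, hy'p, N.fr.norm, smul_eq_mul]
      simp
    rw [hv] at h4
    linear_combination -h4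
  have hy'0 : y' ≠ 0 := by
    intro h0
    rw [h0, QuadraticMap.map_zero] at hy'Q
    have h5 : (1 - x) * (1 + x) = 0 := by
      have := (mul_eq_zero.1 hy'Q.symm).resolve_left N.fr.ne
      linear_combination this
    rw [h0, add_zero] at hve
    rcases mul_eq_zero.1 h5 with h6 | h6
    · apply h1
      rw [hve, show x = 1 by linear_combination -h6, one_smul]
    · apply h3
      rw [hve, show x = -1 by linear_combination h6, neg_one_smul]
  obtain ⟨g, hg, hgy⟩ := EY_trans_norm (N.goodU 0) hyU hy'U (by rw [hyQ, hy'Q]) hy0 hy'0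
  have hgw : g (w 0) = w 0 := EY_fix hg fun u hu => by
    rw [polar_comm]
    exact N.orth_U hu
  have hgv : ((⟨g, EY_le_E hg⟩ : E Q) : V ≃ₗ[F] V) (x • w 0 + y) = v := by
    show g (x • w 0 + y) = v
    rw [map_add, map_smul, hgw, hgy, ← hve]
  have hQx : Q (x • w 0 + y) = ν := by
    rw [Q_add, QuadraticMap.map_smul, polar_smul_left, N.orth_U hyU, N.fr.norm, hyQ, smul_eq_mul,
      smul_eq_mul]
    ring
  have h7 := N.coord_map (g := ⟨g, EY_le_E hg⟩) hgw (N.mv m0 (x • w 0 + y))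
  rw [N.mv_map N.hm0 _ hQx, hgv] at h7
  exact h7

theorem coord_eq [Finite F] (N : NatB ρ w ν m0 b) {v : V} (hv : Q v = ν) {i : Fin (k + 1)}
    (h1 : v ≠ w i) (h3 : v ≠ - w i) : b.coord i (N.mv m0 v) = N.f (ip Q ν (w i) v) := by
  obtain ⟨g, σ, h0, hg, -⟩ := N.exists_pi i
  set v' := ((g⁻¹ : E Q) : V ≃ₗ[F] V) v with hv'
  have hgv : (g : V ≃ₗ[F] V) v' = v := LinearEquiv.apply_symm_apply (g : V ≃ₗ[F] V) v
  have hQ' : Q v' = ν := N.Q_map g⁻¹ hv
  have h4 : (g : V ≃ₗ[F] V) (w 0) = w i := by rw [hg, h0]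
  have h5 : v' ≠ w 0 := by
    intro e
    apply h1
    rw [← hgv, e, h4]
  have h6 : v' ≠ - w 0 := by
    intro e
    apply h3
    rw [← hgv, e, map_neg, h4]
  have h7 := N.coord_zero hQ' h5 h6
  have h8 := N.coord_pi hg 0 (N.mv m0 v')
  rw [h0, N.mv_map N.hm0 g hQ', hgv] at h8
  rw [h8, h7]
  congr 1
  rw [← h4, ← ip_map (E_le_O g.2) (w 0) v', hgv]

end NatB

end Cfsg.Agent.H922.Om
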