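import Cfsg.Agent.H922.OmId

/-!
**Identification of the natural module of `Ω_m(q)`**, second part: `f` is a ring homomorphism, the semilinear
map `θ`.
-/

set_option autoImplicit false

namespace Cfsg.Agent.H922.Om

open QuadraticMap Cfsg.Agent.LieClassical.OrthCore Cfsg.Agent.LieClassical.OrthTrans
  Cfsg.Agent.LieClassical.OrthFinite Cfsg.Agent.LieClassical.OrthSimple Cfsg.Agent.H883.Bridge
  Cfsg.Agent.H883.Root Cfsg.Agent.H883.Sub Module

variable {F V : Type*} [Field F] [AddCommGroup V] [Module F V] {Q : QuadraticForm F V}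
  {K M : Type*} [Field K] [AddCommGroup M] [Module K M]

namespace NatB

open FullNat

variable {ρ : E Q →* Module.End K M} {k : ℕ} {w : Fin (k + 1) → V} {ν : F} {m0 : M}
  {b : Basis (Fin (k + 1)) K M}

theorem sum_coord [Finite F] (_N : NatB ρ w ν m0 b) (x : M) : x = ∑ i, b.coord i x • b i := by
  conv_lhs => rw [← b.sum_repr x]
  rfl

/-- The basic identity. -/
theorem star [Finite F] (N : NatB ρ w ν m0 b) {u v : V} (hu : Q u = ν) (hv : Q v = ν)
    (hcv : ∀ i, b.coord i (N.mv m0 v) = N.f (ip Q ν (w i) v)) (hu1 : ∀ i, u ≠ w i)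
    (hu3 : ∀ i, u ≠ - w i) (h1 : v ≠ u) (h3 : v ≠ - u) :
    N.f (ip Q ν u v) = ∑ i, N.f (ip Q ν (w i) u) * N.f (ip Q ν (w i) v) := by
  obtain ⟨g, hg⟩ := N.exists_map hu
  have hgi : ∀ {x y : V}, ((g⁻¹ : E Q) : V ≃ₗ[F] V) x = y ↔ x = (g : V ≃ₗ[F] V) y := by
    intro x y
    exact LinearEquiv.symm_apply_eq (g : V ≃ₗ[F] V)
  have hip : ∀ x, ip Q ν (w 0) (((g⁻¹ : E Q) : V ≃ₗ[F] V) x) = ip Q ν u x := by
    intro x
    rw [← ip_map (E_le_O g.2) (w 0), hg]
    congr 1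
    exact LinearEquiv.apply_symm_apply (g : V ≃ₗ[F] V) x
  have key : b.coord 0 (ρ g⁻¹ (N.mv m0 v)) = N.f (ip Q ν u v) := by
    rw [N.mv_map N.hm0 _ hv, N.coord_zero (N.Q_map _ hv), hip]
    · intro e
      rw [hgi, hg] at e
      exact h1 e
    · intro e
      rw [hgi, map_neg, hg] at e
      exact h3 e
  rw [← key]
  conv_lhs => rw [N.sum_coord (N.mv m0 v)]
  rw [map_sum, map_sum]
  refine Finset.sum_congr rfl fun i _ => ?_
  rw [map_smul, map_smul, smul_eq_mul, hcv, mul_comm]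
  congr 1
  rw [N.hb i, N.mv_map N.hm0 _ (N.fr.norm i), N.coord_zero (N.Q_map _ (N.fr.norm i)), hip, ip_comm]
  · intro e
    rw [hgi, hg] at e
    exact hu1 i e.symm
  · intro e
    rw [hgi, map_neg, hg] at e
    exact hu3 i (by rw [e, neg_neg])

theorem coord_w [Finite F] (N : NatB ρ w ν m0 b) (i j : Fin (k + 1)) :
    b.coord i (N.mv m0 (w j)) = if j = i then 1 else 0 := by
  rw [← N.hb, Basis.coord_apply, Basis.repr_self, Finsupp.single_apply]

theorem w_ne [Finite F] (N : NatB ρ w ν m0 b) {i j : Fin (k + 1)} (hij : i ≠ j) : w i ≠ w j := by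
  intro e
  have h1 := N.ip_ne hij
  rw [e, N.ip_self] at h1
  exact one_ne_zero h1

theorem w_ne_neg [Finite F] (N : NatB ρ w ν m0 b) {i j : Fin (k + 1)} (hij : i ≠ j) :
    w i ≠ - w j := by
  intro e
  have h1 := N.ip_ne hij
  rw [e] at h1
  have h3 : ip Q ν (-w j) (w j) = -1 := by
    rw [ip_comm, ip_neg, N.ip_self]
  rw [h3] at h1
  exact neg_ne_zero.2 one_ne_zero h1

theorem f_zero [Finite F] (N : NatB ρ w ν m0 b) : N.f 0 = 0 := by
  have hk := N.hk
  have h01 : (1 : Fin (k + 1)) ≠ 0 := by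
    intro e
    have := congrArg Fin.val e
    simp [Nat.mod_eq_of_lt (show 1 < k + 1 by omega)] at this
  have h1 := N.coord_zero (N.fr.norm 1) (N.w_ne h01) (N.w_ne_neg h01)
  rw [N.coord_w, if_neg h01, N.ip_ne h01.symm] at h1
  exact h1.symm

theorem f_neg_of [Finite F] (N : NatB ρ w ν m0 b) {v : V} (hv : Q v = ν) (h1 : v ≠ w 0)
    (h3 : v ≠ - w 0) : N.f (- ip Q ν (w 0) v) = - N.f (ip Q ν (w 0) v) := by
  have hk := N.hk
  have h01 : (0 : Fin (k + 1)) ≠ 1 := by
    intro e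
    have := congrArg Fin.val e
    simp [Nat.mod_eq_of_lt (show 1 < k + 1 by omega)] at this
  set g := N.fr.s N.hG 0 1 with hg
  have hgw : (g : V ≃ₗ[F] V) (w 0) = - w 0 := by
    rw [N.fr.s_apply N.hG h01, if_pos (Or.inl rfl)]
  have hgg : ∀ x, (g : V ≃ₗ[F] V) ((g : V ≃ₗ[F] V) x) = x := by
    intro x
    have := (N.fr.sgn N.hG N.h2).sq 0 1
    have h4 : ((g * g : E Q) : V ≃ₗ[F] V) x = x := by rw [this]; rfl
    exact h4
  have h5 : (g : V ≃ₗ[F] V) v ≠ w 0 := by
    intro e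
    apply h3
    rw [← hgg v, e, hgw]
  have h6 : (g : V ≃ₗ[F] V) v ≠ - w 0 := by
    intro e
    apply h1
    rw [← hgg v, e, map_neg, hgw, neg_neg]
  have h7 := N.coord_zero (N.Q_map g hv) h5 h6
  have h8 : ip Q ν (w 0) ((g : V ≃ₗ[F] V) v) = - ip Q ν (w 0) v := by
    rw [← ip_map (E_le_O g.2), hgg, hgw, ip_comm, ip_neg, ip_comm]
  have h9 : ∀ y, b.coord 0 (ρ g y) = - b.coord 0 y := by
    intro y
    have h10 : (b.coord 0).comp (ρ g) = - b.coord 0 := by
      refine b.ext fun j => ?_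
      rw [LinearMap.comp_apply, LinearMap.neg_apply]
      have h11 := mem_L.1 (N.b_mem j) 0 1
      rw [← hg] at h11
      rw [h11]
      by_cases hj : j = 0
      · rw [if_neg (by
          intro h
          have := h.1 hj
          rw [hj] at this
          exact h01 this), map_neg]
      · have hc : b.coord 0 (b j) = 0 := by
          rw [Basis.coord_apply, Basis.repr_self, Finsupp.single_apply, if_neg hj]
        split
        · rw [hc, neg_zero]
        · rw [map_neg, hc]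
    exact congrArg (fun φ : M →ₗ[K] K => φ y) h10
  rw [← N.mv_map N.hm0 g hv, h9, h8] at h7
  rw [← h7, N.coord_zero hv h1 h3]

/-- The basic identity for `v = u`. -/
theorem star_self [Finite F] (N : NatB ρ w ν m0 b) {u : V} (hu : Q u = ν) (hu1 : ∀ i, u ≠ w i)
    (hu3 : ∀ i, u ≠ - w i) :
    1 = ∑ i, N.f (ip Q ν (w i) u) * N.f (ip Q ν (w i) u) := by
  obtain ⟨g, hg⟩ := N.exists_map hu
  have hgi : ∀ {x y : V}, ((g⁻¹ : E Q) : V ≃ₗ[F] V) x = y ↔ x = (g : V ≃ₗ[F] V) y := by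
    intro x y
    exact LinearEquiv.symm_apply_eq (g : V ≃ₗ[F] V)
  have hip : ∀ x, ip Q ν (w 0) (((g⁻¹ : E Q) : V ≃ₗ[F] V) x) = ip Q ν u x := by
    intro x
    rw [← ip_map (E_le_O g.2) (w 0), hg]
    congr 1
    exact LinearEquiv.apply_symm_apply (g : V ≃ₗ[F] V) x
  have key : b.coord 0 (ρ g⁻¹ (N.mv m0 u)) = 1 := by
    have : ((g⁻¹ : E Q) : V ≃ₗ[F] V) u = w 0 := hgi.2 hg.symm
    rw [N.mv_map N.hm0 _ hu, this, N.coord_w, if_pos rfl]
  rw [← key]
  conv_lhs => rw [N.sum_coord (N.mv m0 u)]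
  rw [map_sum, map_sum]
  refine Finset.sum_congr rfl fun i _ => ?_
  rw [map_smul, map_smul, smul_eq_mul, N.coord_eq hu (hu1 i) (hu3 i)]
  congr 1
  rw [N.hb i, N.mv_map N.hm0 _ (N.fr.norm i), N.coord_zero (N.Q_map _ (N.fr.norm i)), hip, ip_comm]
  · intro e
    rw [hgi, hg] at e
    exact hu1 i e.symm
  · intro e
    rw [hgi, map_neg, hg] at e
    exact hu3 i (by rw [e, neg_neg])

/-! ### Seven coordinates -/

/-- The vector with the given first seven coordinates. -/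
def v7 (w : Fin (k + 1) → V) (e : Fin 7 ↪ Fin (k + 1)) (c : Fin 7 → F) : V := ∑ t, c t • w (e t)

theorem ip_v7 [Finite F] (N : NatB ρ w ν m0 b) (e : Fin 7 ↪ Fin (k + 1)) (c : Fin 7 → F) (t : Fin 7) :
    ip Q ν (w (e t)) (v7 w e c) = c t := by
  rw [v7, ip_sum, Finset.sum_eq_single t]
  · rw [ip_smul, N.ip_self, mul_one]
  · intro j _ hj
    rw [ip_smul, N.ip_ne (fun h => hj (e.injective h).symm), mul_zero]
  · intro hi
    exact absurd (Finset.mem_univ t) hi

theorem ip_v7_of_ne [Finite F] (N : NatB ρ w ν m0 b) (e : Fin 7 ↪ Fin (k + 1)) (c : Fin 7 → F)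
    {i : Fin (k + 1)} (hi : ∀ t, e t ≠ i) : ip Q ν (w i) (v7 w e c) = 0 := by
  rw [v7, ip_sum, Finset.sum_eq_zero]
  intro j _
  rw [ip_smul, N.ip_ne (fun h => hi j h.symm), mul_zero]

theorem ip_v7_v7 [Finite F] (N : NatB ρ w ν m0 b) (e : Fin 7 ↪ Fin (k + 1)) (c d : Fin 7 → F) :
    ip Q ν (v7 w e c) (v7 w e d) = ∑ t, c t * d t := by
  conv_lhs => rw [v7.eq_1 w e d, ip_sum]
  refine Finset.sum_congr rfl fun t _ => ?_
  rw [ip_smul, ip_comm, N.ip_v7, mul_comm]

theorem Q_v7 [Finite F] (N : NatB ρ w ν m0 b) (e : Fin 7 ↪ Fin (k + 1)) {c : Fin 7 → F}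
    (hc : ∑ t, c t * c t = 1) : Q (v7 w e c) = ν := by
  have h1 := N.ip_v7_v7 e c c
  rw [hc, ip, polar_self'] at h1
  have h2 := N.h2
  have hν := N.fr.ne
  field_simp at h1
  exact h1

theorem sum_v7 [Finite F] (N : NatB ρ w ν m0 b) (e : Fin 7 ↪ Fin (k + 1)) (c d : Fin 7 → F) :
    ∑ i, N.f (ip Q ν (w i) (v7 w e c)) * N.f (ip Q ν (w i) (v7 w e d)) =
      ∑ t, N.f (c t) * N.f (d t) := by
  classical
  rw [← Finset.sum_subset (Finset.subset_univ (Finset.univ.map e))]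
  · rw [Finset.sum_map]
    refine Finset.sum_congr rfl fun t _ => ?_
    rw [N.ip_v7, N.ip_v7]
  · intro i _ hi
    have hi' : ∀ t, e t ≠ i := fun t ht => hi (Finset.mem_map.2 ⟨t, Finset.mem_univ t, ht⟩)
    rw [N.ip_v7_of_ne e c hi', N.f_zero, zero_mul]

theorem v7_ne [Finite F] (N : NatB ρ w ν m0 b) (e : Fin 7 ↪ Fin (k + 1)) {c : Fin 7 → F} {s t : Fin 7}
    (hst : s ≠ t) (hs : c s ≠ 0) (ht : c t ≠ 0) (i : Fin (k + 1)) :
    v7 w e c ≠ w i ∧ v7 w e c ≠ - w i := by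
  have key : ∀ x : V, (∀ j, j ≠ i → ip Q ν (w j) x = 0) → v7 w e c ≠ x := by
    intro x hx h
    by_cases hi : e s = i
    · have h1 := hx (e t) (fun h => hst (e.injective (hi.trans h.symm)))
      rw [← h, N.ip_v7] at h1
      exact ht h1
    · have h1 := hx (e s) hi
      rw [← h, N.ip_v7] at h1
      exact hs h1
  exact ⟨key _ fun j hj => N.ip_ne hj, key _ fun j hj => by rw [ip_neg, N.ip_ne hj, neg_zero]⟩

theorem exists_emb7 (N : NatB ρ w ν m0 b) : ∃ _ : Fin 7 ↪ Fin (k + 1), True :=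
  ⟨Fin.castLEEmb (by have := N.hk; omega), trivial⟩

/-- `(1/2, 1/2, 1/2, 1/2, 0, 0, 0)` -/
def hv (F : Type*) [Field F] : Fin 7 → F := ![2⁻¹, 2⁻¹, 2⁻¹, 2⁻¹, 0, 0, 0]

theorem hv_norm (h2 : (2 : F) ≠ 0) : ∑ t, hv F t * hv F t = 1 := by
  rw [Fin.sum_univ_seven]
  simp only [hv, Matrix.cons_val_zero, Matrix.cons_val_one, Matrix.cons_val]
  field_simp
  norm_num

theorem f_half [Finite F] (N : NatB ρ w ν m0 b) : N.f (2⁻¹ : F) ≠ 0 := by
  obtain ⟨e, -⟩ := N.exists_emb7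
  have h2 := N.h2
  have hne := fun i => N.v7_ne e (c := hv F) (s := 0) (t := 1) (by decide)
    (by simp [hv, h2]) (by simp [hv, h2]) i
  have h1 := N.star_self (N.Q_v7 e (hv_norm h2)) (fun i => (hne i).1) (fun i => (hne i).2)
  rw [N.sum_v7, Fin.sum_univ_seven] at h1
  simp only [hv, Matrix.cons_val_zero, Matrix.cons_val_one, Matrix.cons_val, N.f_zero] at h1
  intro h0
  rw [h0] at h1
  simp at h1

theorem f_neg [Finite F] (N : NatB ρ w ν m0 b) (x : F) : N.f (-x) = - N.f x := by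
  obtain ⟨hyU, hy0, hyQ⟩ := (N.exists_y x).choose_spec
  set y := (N.exists_y x).choose with hy
  have hQx : Q (x • w 0 + y) = ν := by
    rw [Q_add, QuadraticMap.map_smul, polar_smul_left, N.orth_U hyU, N.fr.norm, hyQ, smul_eq_mul,
      smul_eq_mul]
    ring
  have hip : ip Q ν (w 0) (x • w 0 + y) = x := by
    rw [ip_add, ip_smul, N.ip_self, mul_one, ip, N.orth_U hyU, mul_zero, add_zero]
  have hne : ∀ c : F, x • w 0 + y ≠ c • w 0 := by
    intro c h
    have h1 : y = (c - x) • w 0 := by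
      rw [sub_smul, ← h, add_sub_cancel_left]
    have h3 := N.orth_U hyU
    rw [h1, polar_smul_right, N.fr.polar_self, smul_eq_mul] at h3
    have h4 := (mul_eq_zero.1 h3).resolve_right N.two_nu_ne
    rw [h4, zero_smul] at h1
    exact hy0 h1
  have h1 := N.f_neg_of hQx (by rw [← one_smul F (w 0)]; exact fun h => hne 1 (by
      rw [smul_smul, mul_one] at h; exact h)) (by
      rw [← neg_one_smul F (w 0)]; exact hne (-1))
  rwa [hip] at h1

theorem f_one [Finite F] (N : NatB ρ w ν m0 b) : N.f 1 = 1 := by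
  obtain ⟨e, -⟩ := N.exists_emb7
  have h2 := N.h2
  obtain ⟨x, y, hxy⟩ := Cfsg.Agent.ClassicalGeometry.Discriminant.exists_repr h2 1 1 (-1) one_ne_zero
    one_ne_zero
  set d : Fin 7 → F := ![1, 0, 0, 0, x, y, 1] with hd
  have hdn : ∑ t, d t * d t = 1 := by
    rw [Fin.sum_univ_seven]
    simp only [hd, Matrix.cons_val_zero, Matrix.cons_val_one, Matrix.cons_val]
    linear_combination hxy
  have hne := fun i => N.v7_ne e (c := hv F) (s := 0) (t := 1) (by decide)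
    (by simp [hv, h2]) (by simp [hv, h2]) i
  have hned := fun i => N.v7_ne e (c := d) (s := 0) (t := 6) (by decide)
    (by simp [hd]) (by simp [hd]) i
  have h1 := N.star (u := v7 w e (hv F)) (v := v7 w e d) (N.Q_v7 e (hv_norm h2)) (N.Q_v7 e hdn)
    (fun i => N.coord_eq (N.Q_v7 e hdn) (hned i).1 (hned i).2) (fun i => (hne i).1)
    (fun i => (hne i).2) (by
      intro h
      have h3 := congrArg (ip Q ν (w (e 1))) h
      rw [N.ip_v7, N.ip_v7] at h3
      simp only [hd, hv, Matrix.cons_val_one, Matrix.cons_val_zero] at h3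
      exact inv_ne_zero h2 h3.symm) (by
      intro h
      have h3 := congrArg (ip Q ν (w (e 1))) h
      rw [ip_neg, N.ip_v7, N.ip_v7] at h3
      simp only [hd, hv, Matrix.cons_val_one, Matrix.cons_val_zero] at h3
      exact inv_ne_zero h2 (neg_eq_zero.1 h3.symm))
  rw [N.sum_v7, N.ip_v7_v7, Fin.sum_univ_seven, Fin.sum_univ_seven] at h1
  simp only [hd, hv, Matrix.cons_val_zero, Matrix.cons_val_one, Matrix.cons_val, N.f_zero, mul_one,
    mul_zero, zero_mul, add_zero] at h1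
  have h3 : N.f (2⁻¹ : F) * (N.f 1 - 1) = 0 := by linear_combination -h1
  exact sub_eq_zero.1 ((mul_eq_zero.1 h3).resolve_left N.f_half)

/-- All the coordinates of `mv v`. -/
theorem coord_mv [Finite F] (N : NatB ρ w ν m0 b) {v : V} (hv : Q v = ν) (i : Fin (k + 1)) :
    b.coord i (N.mv m0 v) = N.f (ip Q ν (w i) v) := by
  by_cases h1 : v = w i
  · rw [h1, N.coord_w, if_pos rfl, N.ip_self, N.f_one]
  by_cases h3 : v = - w i
  · obtain ⟨c, -, -, hc, -⟩ := exists_two (n := k + 1) (by have := N.hk; omega) i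
    have hgw : (N.fr.s N.hG i c : V ≃ₗ[F] V) (w i) = - w i := by
      rw [N.fr.s_apply N.hG hc.symm, if_pos (Or.inl rfl)]
    have h4 := N.mv_map N.hm0 (N.fr.s N.hG i c) (N.fr.norm i)
    have h5 := mem_L.1 (N.b_mem i) i c
    rw [if_neg (by
      intro h
      exact hc (h.1 rfl).symm), N.hb] at h5
    rw [hgw, h5] at h4
    rw [h3, ← h4, map_neg, N.coord_w, if_pos rfl, ip_neg, N.ip_self, N.f_neg, N.f_one]
  · exact N.coord_eq hv h1 h3

/-- The basic identity, without exceptions. -/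
theorem star' [Finite F] (N : NatB ρ w ν m0 b) {u v : V} (hu : Q u = ν) (hv : Q v = ν) :
    N.f (ip Q ν u v) = ∑ i, N.f (ip Q ν (w i) u) * N.f (ip Q ν (w i) v) := by
  obtain ⟨g, hg⟩ := N.exists_map hu
  have hip : ∀ x, ip Q ν (w 0) (((g⁻¹ : E Q) : V ≃ₗ[F] V) x) = ip Q ν u x := by
    intro x
    rw [← ip_map (E_le_O g.2) (w 0), hg]
    congr 1
    exact LinearEquiv.apply_symm_apply (g : V ≃ₗ[F] V) x
  have key : b.coord 0 (ρ g⁻¹ (N.mv m0 v)) = N.f (ip Q ν u v) := by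
    rw [N.mv_map N.hm0 _ hv, N.coord_mv (N.Q_map _ hv), hip]
  rw [← key]
  conv_lhs => rw [N.sum_coord (N.mv m0 v)]
  rw [map_sum, map_sum]
  refine Finset.sum_congr rfl fun i _ => ?_
  rw [map_smul, map_smul, smul_eq_mul, N.coord_mv hv, mul_comm]
  congr 1
  rw [N.hb i, N.mv_map N.hm0 _ (N.fr.norm i), N.coord_mv (N.Q_map _ (N.fr.norm i)), hip, ip_comm]

theorem star7 [Finite F] (N : NatB ρ w ν m0 b) {c d : Fin 7 → F} (hc : ∑ t, c t * c t = 1)
    (hd : ∑ t, d t * d t = 1) : N.f (∑ t, c t * d t) = ∑ t, N.f (c t) * N.f (d t) := by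
  obtain ⟨e, -⟩ := N.exists_emb7
  have h1 := N.star' (N.Q_v7 e hc) (N.Q_v7 e hd)
  rwa [N.sum_v7, N.ip_v7_v7] at h1

theorem f_add [Finite F] (N : NatB ρ w ν m0 b) (x y : F) : N.f (x + y) = N.f x + N.f y := by
  have h2 := N.h2
  obtain ⟨p, q, hpq⟩ := Cfsg.Agent.ClassicalGeometry.Discriminant.exists_repr h2 1 1
    (1 - x * x - y * y) one_ne_zero one_ne_zero
  obtain ⟨p', q', hpq'⟩ := Cfsg.Agent.ClassicalGeometry.Discriminant.exists_repr h2 1 1
    (1 - (x + y) * (x + y)) one_ne_zero one_ne_zero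
  have h1 := N.star7 (c := hv F) (d := ![x, y, 0, 0, p, q, 0]) (hv_norm h2) (by
    rw [Fin.sum_univ_seven]
    simp only [Matrix.cons_val_zero, Matrix.cons_val_one, Matrix.cons_val]
    linear_combination hpq)
  have h3 := N.star7 (c := hv F) (d := ![x + y, 0, 0, 0, p', q', 0]) (hv_norm h2) (by
    rw [Fin.sum_univ_seven]
    simp only [Matrix.cons_val_zero, Matrix.cons_val_one, Matrix.cons_val]
    linear_combination hpq')
  rw [Fin.sum_univ_seven, Fin.sum_univ_seven] at h1 h3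
  simp only [hv, Matrix.cons_val_zero, Matrix.cons_val_one, Matrix.cons_val, N.f_zero,
    mul_zero, zero_mul, add_zero] at h1 h3
  have e : (2⁻¹ : F) * x + 2⁻¹ * y = 2⁻¹ * (x + y) := by ring
  rw [e, h3] at h1
  have h4 : N.f (2⁻¹ : F) * (N.f (x + y) - (N.f x + N.f y)) = 0 := by linear_combination h1
  exact sub_eq_zero.1 ((mul_eq_zero.1 h4).resolve_left N.f_half)

theorem f_mul [Finite F] (N : NatB ρ w ν m0 b) (x y : F) : N.f (x * y) = N.f x * N.f y := by
  have h2 := N.h2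
  obtain ⟨p, q, hpq⟩ := Cfsg.Agent.ClassicalGeometry.Discriminant.exists_repr h2 1 1
    (1 - x * x) one_ne_zero one_ne_zero
  obtain ⟨p', q', hpq'⟩ := Cfsg.Agent.ClassicalGeometry.Discriminant.exists_repr h2 1 1
    (1 - y * y) one_ne_zero one_ne_zero
  have h1 := N.star7 (c := ![x, p, q, 0, 0, 0, 0]) (d := ![y, 0, 0, p', q', 0, 0]) (by
    rw [Fin.sum_univ_seven]
    simp only [Matrix.cons_val_zero, Matrix.cons_val_one, Matrix.cons_val]
    linear_combination hpq) (by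
    rw [Fin.sum_univ_seven]
    simp only [Matrix.cons_val_zero, Matrix.cons_val_one, Matrix.cons_val]
    linear_combination hpq')
  rw [Fin.sum_univ_seven, Fin.sum_univ_seven] at h1
  simp only [Matrix.cons_val_zero, Matrix.cons_val_one, Matrix.cons_val, N.f_zero,
    mul_zero, zero_mul, add_zero] at h1
  exact h1

/-- `f` as a ring homomorphism. -/
noncomputable def fHom [Finite F] (N : NatB ρ w ν m0 b) : F →+* K where
  toFun := N.f
  map_one' := N.f_one
  map_mul' := N.f_mul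
  map_zero' := N.f_zero
  map_add' := N.f_add

/-- The semilinear map `θ`. -/
noncomputable def theta [Finite F] (N : NatB ρ w ν m0 b) : V →ₛₗ[N.fHom] M where
  toFun v := ∑ i, N.f (ip Q ν (w i) v) • b i
  map_add' x y := by
    rw [← Finset.sum_add_distrib]
    refine Finset.sum_congr rfl fun i _ => ?_
    rw [ip_add, N.f_add, add_smul]
  map_smul' c x := by
    rw [Finset.smul_sum]
    refine Finset.sum_congr rfl fun i _ => ?_
    rw [ip_smul, N.f_mul, smul_smul]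
    rfl

theorem theta_apply [Finite F] (N : NatB ρ w ν m0 b) (v : V) :
    N.theta v = ∑ i, N.f (ip Q ν (w i) v) • b i := rfl

theorem theta_mv [Finite F] (N : NatB ρ w ν m0 b) {v : V} (hv : Q v = ν) : N.theta v = N.mv m0 v := by
  rw [theta_apply, N.sum_coord (N.mv m0 v)]
  exact Finset.sum_congr rfl fun i _ => by rw [N.coord_mv hv]

theorem theta_w [Finite F] (N : NatB ρ w ν m0 b) (i : Fin (k + 1)) : N.theta (w i) = b i := by
  rw [N.theta_mv (N.fr.norm i), N.hb]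

theorem theta_map [Finite F] (N : NatB ρ w ν m0 b) (g : E Q) (v : V) :
    N.theta ((g : V ≃ₗ[F] V) v) = ρ g (N.theta v) := by
  conv_lhs => rw [N.expand v]
  rw [map_sum, map_sum, N.theta_apply v, map_sum]
  refine Finset.sum_congr rfl fun i _ => ?_
  rw [map_smul, LinearMap.map_smulₛₗ, map_smul, N.theta_mv (N.Q_map g (N.fr.norm i)),
    ← N.mv_map N.hm0 g (N.fr.norm i), ← N.hb]
  rfl

end NatB

/-- **Identification of the natural module**, full frames. -/
theorem FullNat.exists_theta [Finite F] {ρ : E Q →* Module.End K M} {k : ℕ} {w : Fin (k + 1) → V}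
    {ν : F} (N : FullNat ρ w ν) :
    ∃ (f : F →+* K) (θ : V →ₛₗ[f] M) (b : Basis (Fin (k + 1)) K M), (∀ i, θ (w i) = b i) ∧
      ∀ (g : E Q) v, θ ((g : V ≃ₗ[F] V) v) = ρ g (θ v) := by
  have h1 := N.line 0
  have := N.finM
  obtain ⟨m, hm, hm0⟩ := Submodule.exists_mem_ne_zero_of_ne_bot
    (Submodule.one_le_finrank_iff.1 h1.ge)
  obtain ⟨b, hb⟩ := N.exists_basis hm hm0
  have NB : NatB ρ w ν m b := { N with hm0 := hm, hm0' := hm0, hb := hb }
  exact ⟨NB.fHom, NB.theta, b, NB.theta_w, NB.theta_map⟩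

end Cfsg.Agent.H922.Om
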