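import Cfsg.Agent.H922.OmExist

/-!
**Representations of `Ω_m(q)`, `q` odd, `m ≥ 7`, of dimension `N ≤ 12` over a field in which `2 ≠ 0`**:
if the representation is not trivial and there is no nonzero fixed vector then `N = m`.
-/

set_option autoImplicit false

namespace Cfsg.Agent.H922.Om

open QuadraticMap Cfsg.Agent.LieClassical.OrthCore Cfsg.Agent.LieClassical.OrthTrans
  Cfsg.Agent.LieClassical.OrthFinite Cfsg.Agent.LieClassical.OrthSimple Cfsg.Agent.H883.Bridge
  Cfsg.Agent.H883.Root Cfsg.Agent.H883.Sub Module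

open Equiv (swap swap_apply_left swap_apply_right swap_apply_of_ne_of_ne)

variable {F V : Type*} [Field F] [AddCommGroup V] [Module F V] {Q : QuadraticForm F V}
  {K M : Type*} [Field K] [AddCommGroup M] [Module K M] {ρ : E Q →* Module.End K M}

/-- If a non-scalar element is in the kernel then the representation is trivial. -/
theorem rho_eq_one (hG : Good Q) {t : E Q} (ht : ¬ ∃ c : F, ∀ v : V, (t : V ≃ₗ[F] V) v = c • v)
    (h1 : ρ t = 1) (g : E Q) : ρ g = 1 := by
  let N : Subgroup (V ≃ₗ[F] V) := ρ.ker.map (E Q).subtype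
  have hN1 : N ≤ E Q := Subgroup.map_subtype_le _
  have hN2 : ∀ g ∈ E Q, ∀ n ∈ N, g * n * g⁻¹ ∈ N := by
    rintro g hg _ ⟨n, hn, rfl⟩
    refine ⟨⟨g, hg⟩ * n * ⟨g, hg⟩⁻¹, ?_, rfl⟩
    exact (inferInstance : ρ.ker.Normal).conj_mem n hn ⟨g, hg⟩
  rcases good_normal_dichotomy hG hN1 hN2 with h | h
  · exact absurd (h t ⟨t, h1, rfl⟩) ht
  · have hg : (g : V ≃ₗ[F] V) ∈ N := by
      rw [h]
      exact g.2
    obtain ⟨g', hg', e⟩ := hg
    have : g' = g := Subtype.ext e
    rw [← this]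
    exact hg'

namespace Frame

variable {n : ℕ} {w : Fin n → V} {ν : F}

theorem s_not_scalar (hG : Good Q) (h2 : (2 : F) ≠ 0) (h : Frame Q w ν) {i j k : Fin n}
    (hij : i ≠ j) (hki : k ≠ i) (hkj : k ≠ j) :
    ¬ ∃ c : F, ∀ v : V, (h.s hG i j : V ≃ₗ[F] V) v = c • v := by
  rintro ⟨c, hc⟩
  have h1 := hc (w i)
  have h3 := hc (w k)
  rw [h.s_apply hG hij i, if_pos (Or.inl rfl)] at h1
  rw [h.s_apply hG hij k, if_neg (by tauto)] at h3
  have h0 : ∀ l, w l ≠ 0 := by
    intro l hl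
    have h4 := h.Q_ne l
    rw [hl, QuadraticMap.map_zero] at h4
    exact h4 rfl
  have hc1 : (c + 1) • w i = 0 := by
    rw [add_smul, ← h1, one_smul, neg_add_cancel]
  have hc2 : (c - 1) • w k = 0 := by
    rw [sub_smul, ← h3, one_smul, sub_self]
  have hc1' := (smul_eq_zero.1 hc1).resolve_right (h0 i)
  have hc2' := (smul_eq_zero.1 hc2).resolve_right (h0 k)
  apply h2
  linear_combination hc1' - hc2'

theorem L_ne_bot (hG : Good Q) (h2 : (2 : F) ≠ 0) (h : Frame Q w ν) (hn : 3 ≤ n)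
    (hD : Dec ρ (h.s hG)) (hnt : ∃ g, ρ g ≠ 1) : ∃ a, L ρ (h.s hG) a ≠ ⊥ := by
  by_contra hcon
  push Not at hcon
  obtain ⟨g, hg⟩ := hnt
  apply hg
  refine rho_eq_one hG (h.s_not_scalar hG h2 (i := ⟨0, by omega⟩) (j := ⟨1, by omega⟩)
    (k := ⟨2, by omega⟩) (by simp) (by simp) (by simp)) ?_ g
  have htop : M0 ρ (h.s hG) = ⊤ := by
    unfold Dec at hD
    rw [iSup_congr hcon, iSup_bot, sup_bot_eq] at hD
    exact hD
  ext v
  rw [Module.End.one_apply]
  have hv : v ∈ M0 ρ (h.s hG) := by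
    rw [htop]
    trivial
  exact mem_M0.1 hv _ _

variable [FiniteDimensional K M]

theorem one_le_finrank_L (hG : Good Q) (h2 : (2 : F) ≠ 0) (h : Frame Q w ν) (hn : 3 ≤ n)
    (hD : Dec ρ (h.s hG)) (hnt : ∃ g, ρ g ≠ 1) (a : Fin n) :
    1 ≤ finrank K (L ρ (h.s hG) a) := by
  obtain ⟨b, hb⟩ := h.L_ne_bot hG h2 hn hD hnt
  rw [finrank_L_eq (h.sgn hG h2) hn a b]
  exact Submodule.one_le_finrank_iff.2 hb

theorem finrank_L_eq_one (hG : Good Q) (h2 : (2 : F) ≠ 0) (hK : (2 : K) ≠ 0) (h : Frame Q w ν)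
    (hn : 3 ≤ n) (hD : Dec ρ (h.s hG)) (hnt : ∃ g, ρ g ≠ 1) (hN : finrank K M < 2 * n) (a : Fin n) :
    finrank K (L ρ (h.s hG) a) = 1 := by
  have h1 := h.one_le_finrank_L hG h2 hn hD hnt a
  have h3 := finrank_eq (h.sgn hG h2) hK hn hD a
  have h4 : n * finrank K (L ρ (h.s hG) a) < n * 2 := by omega
  have := lt_of_mul_lt_mul_left h4 (Nat.zero_le n)
  omega

omit [FiniteDimensional K M] in
/-- Elements fixing the frame vectors preserve the weight spaces. -/
theorem map_L_of_fix (hG : Good Q) (h : Frame Q w ν) {g : E Q}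
    (hg : ∀ i, (g : V ≃ₗ[F] V) (w i) = w i) (a : Fin n) {x : M} (hx : x ∈ L ρ (h.s hG) a) :
    ρ g x ∈ L ρ (h.s hG) a := by
  rw [mem_L] at hx ⊢
  intro i j
  have hc : ∀ i, (g : V ≃ₗ[F] V) * refl Q (w i) (h.Q_ne i) = refl Q (w i) (h.Q_ne i) * g := by
    intro i
    have hne : Q ((g : V ≃ₗ[F] V) (w i)) ≠ 0 := by
      rw [hg i]
      exact h.Q_ne i
    have h1 := refl_conj (E_le_O g.2) (h.Q_ne i) hne
    have h3 : refl Q ((g : V ≃ₗ[F] V) (w i)) hne = refl Q (w i) (h.Q_ne i) := by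
      congr 1
      exact hg i
    rw [h3] at h1
    exact mul_inv_eq_iff_eq_mul.1 h1
  have e : h.s hG i j * g = g * h.s hG i j := by
    apply Subtype.ext
    show (refl Q (w i) (h.Q_ne i) * refl Q (w j) (h.Q_ne j)) * (g : V ≃ₗ[F] V) =
      (g : V ≃ₗ[F] V) * (refl Q (w i) (h.Q_ne i) * refl Q (w j) (h.Q_ne j))
    rw [mul_assoc, ← hc j, ← mul_assoc, ← hc i, mul_assoc]
  rw [← rho_mul, e, rho_mul, hx]
  split
  · rfl
  · rw [map_neg]

/-- The element inducing the product of two transpositions fixes everything orthogonal to the frame. -/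
theorem exists_perm (hG : Good Q) (h2 : (2 : F) ≠ 0) (h : Frame Q w ν) {a b c d : Fin n}
    (hab : a ≠ b) (hcd : c ≠ d) :
    ∃ g : E Q, (∀ v, (∀ i, polar Q (w i) v = 0) → (g : V ≃ₗ[F] V) v = v) ∧ (∀ i j,
      g * h.s hG i j * g⁻¹ = h.s hG (swap a b (swap c d i)) (swap a b (swap c d j))) ∧
      ∀ k, (g : V ≃ₗ[F] V) (w k) = w (swap a b (swap c d k)) := by
  have e : Q (w c - w d) = Q (w a - w b) := by rw [h.Q_sub hab, h.Q_sub hcd]
  have hfix : ∀ {a b : Fin n} (hab : a ≠ b) (v : V), (∀ i, polar Q (w i) v = 0) →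
      refl Q (w a - w b) (h.Q_sub_ne h2 hab) v = v := by
    intro a b hab v hv
    rw [refl_apply, polar_sub_left, hv, hv]
    simp
  refine ⟨⟨refl Q (w a - w b) (h.Q_sub_ne h2 hab) * refl Q (w c - w d) (h.Q_sub_ne h2 hcd),
    hG.refl_mul_refl_mem _ _ e⟩, fun v hv => ?_, fun i j => ?_, fun k => ?_⟩
  · show refl Q (w a - w b) (h.Q_sub_ne h2 hab) (refl Q (w c - w d) (h.Q_sub_ne h2 hcd) v) = v
    rw [hfix hcd v hv, hfix hab v hv]
  · apply Subtype.ext
    set g : V ≃ₗ[F] V := refl Q (w a - w b) (h.Q_sub_ne h2 hab) *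
      refl Q (w c - w d) (h.Q_sub_ne h2 hcd) with hg
    have hgO : g ∈ O Q := (O Q).mul_mem (refl_mem_O _) (refl_mem_O _)
    have hgw : ∀ k, g (w k) = w (swap a b (swap c d k)) := by
      intro k
      show refl Q (w a - w b) (h.Q_sub_ne h2 hab) (refl Q (w c - w d) (h.Q_sub_ne h2 hcd) (w k)) = _
      rw [h.swap_refl h2 hcd, h.swap_refl h2 hab]
    have hconj : ∀ k, g * refl Q (w k) (h.Q_ne k) * g⁻¹ =
        refl Q (w (swap a b (swap c d k))) (h.Q_ne _) := by
      intro k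
      have hne : Q (g (w k)) ≠ 0 := by rw [hgw]; exact h.Q_ne _
      rw [refl_conj hgO (h.Q_ne k) hne]
      congr 1
      exact hgw k
    show g * (refl Q (w i) (h.Q_ne i) * refl Q (w j) (h.Q_ne j)) * g⁻¹ =
      refl Q (w (swap a b (swap c d i))) (h.Q_ne _) * refl Q (w (swap a b (swap c d j))) (h.Q_ne _)
    rw [← hconj i, ← hconj j]
    group
  · show refl Q (w a - w b) (h.Q_sub_ne h2 hab) (refl Q (w c - w d) (h.Q_sub_ne h2 hcd) (w k)) = _
    rw [h.swap_refl h2 hcd, h.swap_refl h2 hab]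

/-- Three orthogonal vectors orthogonal to the frame act trivially on the lines of the frame. -/
theorem L_le_M0_three (hG : Good Q) (h2 : (2 : F) ≠ 0) (h : Frame Q w ν) {w' : Fin 3 → V} {μ : F}
    (h' : Frame Q w' μ) (ho : ∀ i j, polar Q (w i) (w' j) = 0) {a : Fin n}
    (ha : finrank K (L ρ (h.s hG) a) = 1) : L ρ (h.s hG) a ≤ M0 ρ (h'.s hG) := by
  obtain ⟨x0, hx0, hspan⟩ := finrank_eq_one_iff'.1 ha
  -- elements preserving the line act by scalars
  have hsc : ∀ g : E Q, (∀ i, (g : V ≃ₗ[F] V) (w i) = w i) → ∃ c : K, ρ g (x0 : M) = c • (x0 : M) := by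
    intro g hg
    obtain ⟨c, hc⟩ := hspan ⟨ρ g (x0 : M), h.map_L_of_fix hG hg a x0.2⟩
    exact ⟨c, (congrArg Subtype.val hc).symm⟩
  have hx0' : (x0 : M) ≠ 0 := fun e => hx0 (Subtype.ext e)
  have hsw : ∀ i j k, (h'.s hG i j : V ≃ₗ[F] V) (w k) = w k := fun i j k =>
    h'.s_apply_of_orth hG (by rw [polar_comm]; exact ho k i) (by rw [polar_comm]; exact ho k j)
  -- the three-cycle
  obtain ⟨g, hg1, hg2, -⟩ := h'.exists_perm hG h2 (a := 0) (b := 1) (c := 1) (d := 2) (by decide)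
    (by decide)
  have hgw : ∀ k, (g : V ≃ₗ[F] V) (w k) = w k := fun k => hg1 _ fun i => by
    rw [polar_comm]
    exact ho k i
  obtain ⟨e, he⟩ := hsc g hgw
  have he0 : e ≠ 0 := by
    rintro rfl
    rw [zero_smul] at he
    apply hx0'
    rw [← rho_inv (ρ := ρ) g (x0 : M), he, map_zero]
  have hei : ρ g⁻¹ (x0 : M) = e⁻¹ • (x0 : M) := by
    have h3 : ρ g⁻¹ (ρ g (x0 : M)) = e • ρ g⁻¹ (x0 : M) := by rw [he, map_smul]
    rw [rho_inv] at h3
    conv_rhs => rw [h3]
    rw [smul_smul, inv_mul_cancel₀ he0, one_smul]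
  have hconj : ∀ i j, ∀ c : K, ρ (h'.s hG i j) (x0 : M) = c • (x0 : M) →
      ρ (h'.s hG (swap 0 1 (swap 1 2 i)) (swap 0 1 (swap 1 2 j))) (x0 : M) = c • (x0 : M) := by
    intro i j c hc
    rw [← hg2, rho_mul, rho_mul, hei, map_smul, hc, map_smul, map_smul, he, smul_smul, smul_smul]
    congr 1
    field_simp
  obtain ⟨c, hc⟩ := hsc (h'.s hG 0 1) (hsw 0 1)
  have hc12 : ρ (h'.s hG 1 2) (x0 : M) = c • (x0 : M) := hconj 0 1 c hc
  have hc20 : ρ (h'.s hG 2 0) (x0 : M) = c • (x0 : M) := hconj 1 2 c hc12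
  have hs' := h'.sgn hG h2
  have hc02 : ρ (h'.s hG 0 2) (x0 : M) = c • (x0 : M) := by
    rw [hs'.symm]
    exact hc20
  have hcc : c = 1 := by
    have h3 : ρ (h'.s hG 0 2) (x0 : M) = (c * c) • (x0 : M) := by
      rw [← hs'.mul 0 1 2, rho_mul, hc12, map_smul, hc, smul_smul]
    rw [hc02] at h3
    have h4 : (c * c - c) • (x0 : M) = 0 := by
      rw [sub_smul, ← h3, sub_self]
    have h5 := (smul_eq_zero.1 h4).resolve_right hx0'
    have h6 : c ≠ 0 := by
      rintro rfl
      rw [zero_smul] at hc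
      apply hx0'
      rw [← rho_inv (ρ := ρ) (h'.s hG 0 1) (x0 : M), hc, map_zero]
    have h7 : c * (c - 1) = 0 := by
      linear_combination h5
    exact sub_eq_zero.1 ((mul_eq_zero.1 h7).resolve_left h6)
  subst hcc
  rw [one_smul] at hc hc12 hc20 hc02
  have hx0M : (x0 : M) ∈ M0 ρ (h'.s hG) := by
    rw [mem_M0]
    intro i j
    have key : ∀ i j : Fin 3, i = j ∨ (i = 0 ∧ j = 1) ∨ (i = 1 ∧ j = 0) ∨ (i = 1 ∧ j = 2) ∨
        (i = 2 ∧ j = 1) ∨ (i = 2 ∧ j = 0) ∨ (i = 0 ∧ j = 2) := by decide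
    rcases key i j with rfl | ⟨rfl, rfl⟩ | ⟨rfl, rfl⟩ | ⟨rfl, rfl⟩ | ⟨rfl, rfl⟩ | ⟨rfl, rfl⟩ | ⟨rfl, rfl⟩
    · rw [hs'.self, rho_one]
    · exact hc
    · rw [hs'.symm]; exact hc
    · exact hc12
    · rw [hs'.symm]; exact hc12
    · exact hc20
    · exact hc02
  intro x hx
  obtain ⟨k, hk⟩ := hspan ⟨x, hx⟩
  have : x = k • (x0 : M) := (congrArg Subtype.val hk).symm
  rw [this]
  exact (M0 ρ (h'.s hG)).smul_mem k hx0M

end Frame

/-! ### The two inequalities -/

variable [FiniteDimensional K M]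

/-- `Dec` holds for frames with at least seven vectors, or at least five if `N ≤ 9`. -/
theorem Frame.dec (hG : Good Q) (h2 : (2 : F) ≠ 0) (hK : (2 : K) ≠ 0) {n : ℕ} {w : Fin n → V} {ν : F}
    (h : Frame Q w ν) (hn : 5 ≤ n) (hN : finrank K M ≤ 12) (hNn : finrank K M ≤ 9 ∨ 7 ≤ n) :
    Dec ρ (h.s hG) := by
  rcases hNn with h9 | h7
  · exact dec_nine (h.sgn hG h2) hK hn h9
  · exact dec_twelve (h.sgn hG h2) hK h7 hN

/-- **Lower bound** `m ≤ N`. -/
theorem le_finrank [Finite F] (hG : Good Q) (h2 : (2 : F) ≠ 0) (hK : (2 : K) ≠ 0)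
    (hm : 7 ≤ finrank F V) (hN : finrank K M ≤ 12) (hnt : ∃ g, ρ g ≠ 1) :
    finrank F V ≤ finrank K M := by
  have : FiniteDimensional F V := Module.finite_of_finrank_pos (by omega)
  by_contra hlt
  push Not at hlt
  rcases Nat.lt_or_ge (finrank F V) 8 with hm8 | hm8
  · -- a frame of seven vectors
    have hm7 : finrank F V = 0 + 7 := by omega
    obtain ⟨-, μ, -, w', -, h', -⟩ := exists_frames (Q := Q) h2 hG.nondeg (k := 0) (l := 7)
      (by decide) hm7
    have hD := h'.dec (ρ := ρ) hG h2 hK (by norm_num) hN (Or.inr (by norm_num))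
    have h3 := finrank_eq (h'.sgn hG h2) hK (by norm_num) hD 0
    have h4 := h'.one_le_finrank_L hG h2 (by norm_num) hD hnt 0
    omega
  · obtain ⟨k, hk⟩ : ∃ k, finrank F V = k + 3 := ⟨finrank F V - 3, by omega⟩
    obtain ⟨ν, μ, w, w', h, h', ho⟩ := exists_frames (Q := Q) h2 hG.nondeg (k := k) (l := 3)
      (by decide) hk
    have hD := h.dec (ρ := ρ) hG h2 hK (by omega) hN (by omega)
    have hD' : Dec ρ (h'.s hG) := dec_three (h'.sgn hG h2) hK rfl
    have hL := h.finrank_L_eq_one hG h2 hK (by omega) hD hnt (by omega)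
    have h3 := finrank_eq (h.sgn hG h2) hK (by omega) hD ⟨0, by omega⟩
    have h3' := finrank_eq (h'.sgn hG h2) hK (by omega) hD' 0
    have h4' := h'.one_le_finrank_L hG h2 (by norm_num) hD' hnt 0
    rw [hL, mul_one] at h3
    have htop : M0 ρ (h.s hG) ⊔ M0 ρ (h'.s hG) = ⊤ :=
      hD.induction le_sup_left fun a => le_sup_of_le_right (h.L_le_M0_three hG h2 h' ho (hL a))
    have h5 := Submodule.finrank_add_le_finrank_add_finrank (M0 ρ (h.s hG)) (M0 ρ (h'.s hG))
    rw [htop, finrank_top] at h5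
    omega

omit [FiniteDimensional K M] in
/-- A frame of `m = dim V` vectors: no fixed vectors implies `M0 = 0`. -/
theorem Frame.M0_eq_bot [Finite F] [FiniteDimensional F V] (hG : Good Q) (h2 : (2 : F) ≠ 0)
    (hK : (2 : K) ≠ 0) {n : ℕ} {w : Fin n → V} {ν : F} (h : Frame Q w ν) (hV : finrank F V = n)
    (hn : 6 ≤ n) (hD : Dec ρ (h.s hG)) (hfix : ∀ x : M, (∀ g, ρ g x = x) → x = 0) :
    M0 ρ (h.s hG) = ⊥ := by
  rw [eq_bot_iff]
  intro x hx
  have h1 := h.M0_le_FixS hG h2 hK hn (fun f => hD.comp f) hx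
  have hsp : Frame.sp (F := F) w = ⊤ := by
    apply Submodule.eq_top_of_finrank_eq
    rw [h.finrank_span h2, hV]
  rw [hsp] at h1
  rw [Submodule.mem_bot]
  exact hfix x fun g => mem_FixS_top h1 g

/-- **Upper bound** `N ≤ m`. -/
theorem finrank_le [Finite F] (hG : Good Q) (h2 : (2 : F) ≠ 0) (hK : (2 : K) ≠ 0)
    (hm : 7 ≤ finrank F V) (hN : finrank K M ≤ 12) (hnt : ∃ g, ρ g ≠ 1)
    (hfix : ∀ x : M, (∀ g, ρ g x = x) → x = 0) :
    finrank K M ≤ finrank F V := by
  have : FiniteDimensional F V := Module.finite_of_finrank_pos (by omega)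
  rcases Nat.even_or_odd (finrank F V) with hev | hodd
  · obtain ⟨k, hk⟩ : ∃ k, finrank F V = k + 2 := ⟨finrank F V - 2, by omega⟩
    have hkev : Even k := by
      rw [hk] at hev
      rcases hev with ⟨r, hr⟩
      exact ⟨r - 1, by omega⟩
    have hk6 : 6 ≤ k := by
      rcases hkev with ⟨r, hr⟩
      omega
    obtain ⟨ν, μ, A, z', hA, hz', ho⟩ := exists_frames (Q := Q) h2 hG.nondeg (k := k + 1) (l := 1)
      (by decide) (by omega)
    -- the common frame `C`
    have hC : Frame Q (fun i : Fin k => A (Fin.castSuccEmb i)) ν := hA.comp Fin.castSuccEmb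
    obtain ⟨C', hC', hsp⟩ := exists_frame_same_span h2 hkev hC (μ := μ) hz'.ne
    have hzo : ∀ i, polar Q (C' i) (z' 0) = 0 := by
      intro i
      have h1 : C' i ∈ Frame.sp (F := F) (fun i : Fin k => A (Fin.castSuccEmb i)) := by
        rw [← hsp]
        exact Frame.mem_span C' i
      exact Frame.perp_span (w := fun i : Fin k => A (Fin.castSuccEmb i)) (fun i => ho _ 0) _ h1
    have hB : Frame Q (Fin.snoc C' (z' 0) : Fin (k + 1) → V) μ := hC'.snoc (hz'.norm 0) hzo
    set B : Fin (k + 1) → V := Fin.snoc C' (z' 0) with hBdef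
    have hBC : ∀ i, B (Fin.castSuccEmb i) = C' i := fun i => Fin.snoc_castSucc (α := fun _ => V) (z' 0) C' i
    have hBl : B (Fin.last k) = z' 0 := Fin.snoc_last (α := fun _ => V) (z' 0) C'
    have hDA := hA.dec (ρ := ρ) hG h2 hK (by omega) hN (Or.inr (by omega))
    have hDB := hB.dec (ρ := ρ) hG h2 hK (by omega) hN (Or.inr (by omega))
    have hDC : Dec ρ (hC.s hG) := hDA.comp Fin.castSuccEmb
    have hRZ : Good (res Q (Frame.sp (F := F) C')) := by
      refine good_res (hC'.nondegOn h2) ?_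
      rw [hC'.finrank_span h2]
      omega
    have hRC : Good (res Q (Frame.sp (F := F) fun i : Fin k => A (Fin.castSuccEmb i))) := by
      rw [← hsp]
      exact hRZ
    -- `M0 A` and `M0 B` are contained in `M0 C`
    have hAC : M0 ρ (hA.s hG) ≤ M0 ρ (hC.s hG) := M0_le_comp (Fin.castSuccEmb : Fin k ↪ Fin (k + 1))
    have hFB : M0 ρ (hB.s hG) ≤ FixS ρ (Frame.sp (F := F) B) :=
      hB.M0_le_FixS hG h2 hK (by omega) fun f => hDB.comp f
    have hFA : M0 ρ (hA.s hG) ≤ FixS ρ (Frame.sp (F := F) A) :=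
      hA.M0_le_FixS hG h2 hK (by omega) fun f => hDA.comp f
    have hle1 : Frame.sp (F := F) C' ≤ Frame.sp (F := F) B := by
      rw [Submodule.span_le]
      rintro _ ⟨i, rfl⟩
      rw [← hBC]
      exact Frame.mem_span B _
    have hle2 : Frame.sp (F := F) C' ≤ Frame.sp (F := F) A := by
      rw [hsp, Submodule.span_le]
      rintro _ ⟨i, rfl⟩
      exact Frame.mem_span A _
    have hBC0 : M0 ρ (hB.s hG) ≤ M0 ρ (hC.s hG) := by
      intro x hx
      have h1 : x ∈ FixS ρ (Frame.sp (F := F) C') := by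
        rw [mem_FixS_iff]
        exact (EY_mono hle1).trans (mem_FixS_iff.1 (hFB hx))
      rw [hsp] at h1
      exact hC.FixS_le_M0 hG h2 hRC h1
    -- dimensions
    have hLA := hA.finrank_L_eq_one hG h2 hK (by omega) hDA hnt (by omega) 0
    have hLB := hB.finrank_L_eq_one hG h2 hK (by omega) hDB hnt (by omega) 0
    have hLC := hC.one_le_finrank_L hG h2 (by omega) hDC hnt ⟨0, by omega⟩
    have hdA := finrank_eq (hA.sgn hG h2) hK (by omega) hDA 0
    have hdB := finrank_eq (hB.sgn hG h2) hK (by omega) hDB 0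
    have hdC := finrank_eq (hC.sgn hG h2) hK (by omega) hDC ⟨0, by omega⟩
    rw [hLA, mul_one] at hdA
    rw [hLB, mul_one] at hdB
    have hkL : k ≤ k * finrank K (L ρ (hC.s hG) ⟨0, by omega⟩) := Nat.le_mul_of_pos_right k hLC
    by_contra hlt
    push Not at hlt
    have hsum := Submodule.finrank_sup_add_finrank_inf_eq (M0 ρ (hA.s hG)) (M0 ρ (hB.s hG))
    have hsup : finrank K (M0 ρ (hA.s hG) ⊔ M0 ρ (hB.s hG) : Submodule K M) ≤
        finrank K (M0 ρ (hC.s hG)) := Submodule.finrank_mono (sup_le hAC hBC0)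
    have hpos : (M0 ρ (hA.s hG) ⊓ M0 ρ (hB.s hG) : Submodule K M) ≠ ⊥ := by
      intro h0
      rw [h0, finrank_bot] at hsum
      omega
    obtain ⟨x, hx, hx0⟩ := Submodule.exists_mem_ne_zero_of_ne_bot hpos
    apply hx0
    obtain ⟨x1, x2, hyp⟩ := hRZ.exists_hyp
    have hyp' : Hyp Q (x1 : V) (x2 : V) := ⟨hyp.left, hyp.right, hyp.pair⟩
    have hfx : x ∈ FixS ρ (⊤ : Submodule F V) := by
      refine mem_FixS_of_blocks (nondegOn_top hG.nondeg) ?_ hyp' Submodule.mem_top Submodule.mem_top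
        (fun b : Bool => if b then Frame.sp (F := F) A else Frame.sp (F := F) B) ?_ ?_ ?_ ?_
      · refine good_res (nondegOn_top hG.nondeg) ?_
        rw [finrank_top]
        omega
      · intro b
        cases b
        · exact hle1 x1.2
        · exact hle2 x1.2
      · intro b
        cases b
        · exact hle1 x2.2
        · exact hle2 x2.2
      · -- the two subspaces span `V`
        have h1 : Frame.sp (F := F) A ≤
            ⨆ b : Bool, if b then Frame.sp (F := F) A else Frame.sp (F := F) B :=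
          le_iSup (fun b : Bool => if b then Frame.sp (F := F) A else Frame.sp (F := F) B) true
        have h3 : Frame.sp (F := F) B ≤
            ⨆ b : Bool, if b then Frame.sp (F := F) A else Frame.sp (F := F) B :=
          le_iSup (fun b : Bool => if b then Frame.sp (F := F) A else Frame.sp (F := F) B) false
        have hz : z' 0 ∉ Frame.sp (F := F) A := by
          intro hz
          have h4 := Frame.perp_span (w := A) (Q := Q) (v := z' 0) (fun i => ho i 0) _ hz
          rw [hz'.polar_self] at h4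
          exact mul_ne_zero h2 hz'.ne h4
        have hlt' : Frame.sp (F := F) A < ⨆ b : Bool, if b then Frame.sp (F := F) A else Frame.sp (F := F) B := by
          refine lt_of_le_of_ne h1 fun e => hz ?_
          rw [e]
          apply h3
          rw [← hBl]
          exact Frame.mem_span B _
        have h5 := Submodule.finrank_lt_finrank_of_lt hlt'
        rw [hA.finrank_span h2] at h5
        have h6 : (⨆ b : Bool, if b then Frame.sp (F := F) A else Frame.sp (F := F) B) = ⊤ := by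
          apply Submodule.eq_top_of_finrank_eq
          have := Submodule.finrank_le (⨆ b : Bool, if b then Frame.sp (F := F) A else Frame.sp (F := F) B)
          omega
        rw [h6]
      · intro b
        cases b
        · exact hFB hx.2
        · exact hFA hx.1
    exact hfix x fun g => mem_FixS_top hfx g
  · obtain ⟨-, μ, -, w', -, h', -⟩ := exists_frames (Q := Q) h2 hG.nondeg (k := 0)
      (l := finrank F V) hodd (by omega)
    have hD := h'.dec (ρ := ρ) hG h2 hK (by omega) hN (Or.inr (by omega))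
    have h0 := h'.M0_eq_bot hG h2 hK rfl (by omega) hD hfix
    have h3 := finrank_eq (h'.sgn hG h2) hK (by omega) hD ⟨0, by omega⟩
    have h4 := h'.finrank_L_eq_one hG h2 hK (by omega) hD hnt (by omega) ⟨0, by omega⟩
    rw [h0, finrank_bot, h4, mul_one, zero_add] at h3
    omega

/-- **The dimension theorem.**  Let `G = E Q = Ω_m(q)`, `q` odd, `m ≥ 7`, act on a space of dimension
`N ≤ 12` over a field in which `2 ≠ 0`, nontrivially and without nonzero fixed vectors.  Then `N = m`. -/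
theorem finrank_eq_finrank [Finite F] (hG : Good Q) (h2 : (2 : F) ≠ 0) (hK : (2 : K) ≠ 0)
    (hm : 7 ≤ finrank F V) (hN : finrank K M ≤ 12) (hnt : ∃ g, ρ g ≠ 1)
    (hfix : ∀ x : M, (∀ g, ρ g x = x) → x = 0) :
    finrank K M = finrank F V :=
  le_antisymm (finrank_le hG h2 hK hm hN hnt hfix) (le_finrank hG h2 hK hm hN hnt)

end Cfsg.Agent.H922.Om
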