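import Cfsg.Agent.H922.OmBlock

/-!
The fixed space of the sign involutions of a frame with `n ≥ 6` vectors is fixed by `EY Q (span)`.
-/

set_option autoImplicit false

namespace Cfsg.Agent.H922.Om

open QuadraticMap Cfsg.Agent.LieClassical.OrthCore Cfsg.Agent.LieClassical.OrthTrans
  Cfsg.Agent.LieClassical.OrthFinite Cfsg.Agent.LieClassical.OrthSimple Cfsg.Agent.H883.Bridge
  Cfsg.Agent.H883.Root Cfsg.Agent.H883.Sub Module

open Equiv (swap swap_apply_left swap_apply_right swap_apply_of_ne_of_ne)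

variable {F V : Type*} [Field F] [AddCommGroup V] [Module F V] {Q : QuadraticForm F V}

namespace Frame

variable {n : ℕ} {w : Fin n → V} {ν : F}

/-- The span of the frame. -/
abbrev sp (w : Fin n → V) : Submodule F V := Submodule.span F (Set.range w)

theorem sp_comp_le {k : ℕ} (f : Fin k → Fin n) : sp (F := F) (fun i => w (f i)) ≤ sp (F := F) w := by
  rw [Submodule.span_le]
  rintro _ ⟨i, rfl⟩
  exact mem_span w (f i)

/-- The frame in its span. -/
theorem toRes (h : Frame Q w ν) :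
    Frame (res Q (sp (F := F) w)) (fun i => (⟨w i, mem_span w i⟩ : sp (F := F) w)) ν where
  ne := h.ne
  norm i := h.norm i
  orth i j hij := h.orth i j hij

theorem s_toRes (hG : Good Q) (h : Frame Q w ν) (hR : Good (res Q (sp (F := F) w))) (i j : Fin n)
    (y : sp (F := F) w) :
    (h.s hG i j : V ≃ₗ[F] V) (y : V) = ((h.toRes.s hR i j : sp (F := F) w ≃ₗ[F] sp (F := F) w) y : V) := by
  show refl Q (w i) (h.Q_ne i) (refl Q (w j) (h.Q_ne j) (y : V)) =
    ((refl (res Q (sp (F := F) w)) ⟨w i, mem_span w i⟩ (h.toRes.Q_ne i)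
      (refl (res Q (sp (F := F) w)) ⟨w j, mem_span w j⟩ (h.toRes.Q_ne j) y) : sp (F := F) w) : V)
  rw [refl_apply (h.Q_ne i), refl_apply (h.Q_ne j), refl_apply (h.toRes.Q_ne i),
    refl_apply (h.toRes.Q_ne j)]
  rfl

theorem s_perp (hG : Good Q) (h : Frame Q w ν) (i j : Fin n) {v : V}
    (hv : v ∈ perp Q (sp (F := F) w)) : (h.s hG i j : V ≃ₗ[F] V) v = v :=
  h.s_apply_of_orth hG (mem_perp.1 hv _ (mem_span w i)) (mem_perp.1 hv _ (mem_span w j))

theorem s_mem_EY [FiniteDimensional F V] (hG : Good Q) (h2 : (2 : F) ≠ 0) (h : Frame Q w ν)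
    (hR : Good (res Q (sp (F := F) w))) (i j : Fin n) :
    (h.s hG i j : V ≃ₗ[F] V) ∈ EY Q (sp (F := F) w) := by
  obtain ⟨g, hg, e⟩ := exists_lift (h.toRes.s hR i j).2
  have : (h.s hG i j : V ≃ₗ[F] V) = g := by
    refine eq_of_agree (h.nondegOn h2) (fun y hy => ?_) fun v hv => ?_
    · rw [e ⟨y, hy⟩, ← h.s_toRes hG hR i j ⟨y, hy⟩]
    · rw [h.s_perp hG i j hv, EY_fix hg (mem_perp.1 hv)]
  rw [this]
  exact hg

theorem s_toRes_not_scalar (h2 : (2 : F) ≠ 0) (h : Frame Q w ν) (hR : Good (res Q (sp (F := F) w)))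
    {i j k : Fin n} (hij : i ≠ j) (hki : k ≠ i) (hkj : k ≠ j) :
    ¬ ∃ c : F, ∀ y : sp (F := F) w, (h.toRes.s hR i j : sp (F := F) w ≃ₗ[F] sp (F := F) w) y = c • y := by
  rintro ⟨c, hc⟩
  have h1 := hc ⟨w i, mem_span w i⟩
  have h3 := hc ⟨w k, mem_span w k⟩
  rw [h.toRes.s_apply hR hij i, if_pos (Or.inl rfl)] at h1
  rw [h.toRes.s_apply hR hij k, if_neg (by tauto)] at h3
  have h0 : ∀ l, (⟨w l, mem_span w l⟩ : sp (F := F) w) ≠ 0 := by
    intro l hl
    have h4 := h.toRes.Q_ne l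
    rw [hl, QuadraticMap.map_zero] at h4
    exact h4 rfl
  have hc1 : (c + 1) • (⟨w i, mem_span w i⟩ : sp (F := F) w) = 0 := by
    rw [add_smul, ← h1, one_smul, neg_add_cancel]
  have hc2 : (c - 1) • (⟨w k, mem_span w k⟩ : sp (F := F) w) = 0 := by
    rw [sub_smul, ← h3, one_smul, sub_self]
  have hc1' := (smul_eq_zero.1 hc1).resolve_right (h0 i)
  have hc2' := (smul_eq_zero.1 hc2).resolve_right (h0 k)
  apply h2
  linear_combination hc1' - hc2'

/-- The product of the six reflections of a frame of six vectors. -/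
noncomputable def zz (hG : Good Q) {w : Fin 6 → V} (h : Frame Q w ν) : E Q :=
  h.s hG 0 1 * (h.s hG 2 3 * h.s hG 4 5)

theorem zz_apply (hG : Good Q) {w : Fin 6 → V} (h : Frame Q w ν) {y : V}
    (hy : y ∈ sp (F := F) w) : (h.zz hG : V ≃ₗ[F] V) y = - y := by
  have e : ∀ v, (h.zz hG : V ≃ₗ[F] V) v = (h.s hG 0 1 : V ≃ₗ[F] V) ((h.s hG 2 3 : V ≃ₗ[F] V)
      ((h.s hG 4 5 : V ≃ₗ[F] V) v)) := fun v => rfl
  induction hy using Submodule.span_induction with
  | mem x hx =>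
    obtain ⟨i, rfl⟩ := hx
    rw [e, h.s_apply hG (by decide) i]
    fin_cases i <;>
      simp [h.s_apply hG (show (2 : Fin 6) ≠ 3 by decide), h.s_apply hG (show (0 : Fin 6) ≠ 1 by decide)]
  | zero => rw [map_zero, neg_zero]
  | add x y _ _ hx hy => rw [map_add, hx, hy, neg_add]
  | smul a x _ hx => rw [map_smul, hx, smul_neg]

theorem zz_perp (hG : Good Q) {w : Fin 6 → V} (h : Frame Q w ν) {v : V}
    (hv : v ∈ perp Q (sp (F := F) w)) : (h.zz hG : V ≃ₗ[F] V) v = v := by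
  show (h.s hG 0 1 : V ≃ₗ[F] V) ((h.s hG 2 3 : V ≃ₗ[F] V) ((h.s hG 4 5 : V ≃ₗ[F] V) v)) = v
  rw [h.s_perp hG _ _ hv, h.s_perp hG _ _ hv, h.s_perp hG _ _ hv]

theorem zz_comm [FiniteDimensional F V] (hG : Good Q) (h2 : (2 : F) ≠ 0) {w : Fin 6 → V}
    (h : Frame Q w ν) {g : V ≃ₗ[F] V} (hg : g ∈ EY Q (sp (F := F) w)) :
    (h.zz hG : V ≃ₗ[F] V) * g = g * (h.zz hG : V ≃ₗ[F] V) := by
  refine eq_of_agree (h.nondegOn h2) (fun y hy => ?_) fun v hv => ?_
  · show (h.zz hG : V ≃ₗ[F] V) (g y) = g ((h.zz hG : V ≃ₗ[F] V) y)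
    have hgy : g y ∈ sp (F := F) w := (EY_stab hg y).1 hy
    rw [h.zz_apply hG hy, h.zz_apply hG hgy, map_neg]
  · show (h.zz hG : V ≃ₗ[F] V) (g v) = g ((h.zz hG : V ≃ₗ[F] V) v)
    rw [EY_fix hg (mem_perp.1 hv), h.zz_perp hG hv, EY_fix hg (mem_perp.1 hv)]

section Rep

variable {K M : Type*} [Field K] [AddCommGroup M] [Module K M] {ρ : E Q →* Module.End K M}

theorem zz_M0 (hG : Good Q) {w : Fin 6 → V} (h : Frame Q w ν) {v : M}
    (hv : v ∈ M0 ρ (h.s hG)) : ρ (h.zz hG) v = v := by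
  rw [mem_M0] at hv
  rw [zz, rho_mul, rho_mul, hv, hv, hv]

theorem zz_L (hG : Good Q) {w : Fin 6 → V} (h : Frame Q w ν) {a : Fin 6} {v : M}
    (hv : v ∈ L ρ (h.s hG) a) : ρ (h.zz hG) v = - v := by
  rw [mem_L] at hv
  rw [zz, rho_mul, rho_mul]
  fin_cases a <;> simp [hv]

theorem zz_fixed_iff (hG : Good Q) (hK : (2 : K) ≠ 0) {w : Fin 6 → V} (h : Frame Q w ν)
    (hD : Dec ρ (h.s hG)) {v : M} : ρ (h.zz hG) v = v ↔ v ∈ M0 ρ (h.s hG) := by
  constructor
  · intro hv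
    rw [mem_M0]
    intro i j
    have h1 : (LinearMap.ker ((ρ (h.s hG i j) - 1) * (1 + ρ (h.zz hG)))) = ⊤ := by
      refine hD.induction ?_ fun a => ?_
      · intro x hx
        rw [LinearMap.mem_ker, Module.End.mul_apply, LinearMap.add_apply, Module.End.one_apply,
          h.zz_M0 hG hx, LinearMap.sub_apply, Module.End.one_apply, map_add, mem_M0.1 hx i j, sub_self]
      · intro x hx
        rw [LinearMap.mem_ker, Module.End.mul_apply, LinearMap.add_apply, Module.End.one_apply,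
          h.zz_L hG hx, add_neg_cancel, map_zero]
    have h3 : v ∈ LinearMap.ker ((ρ (h.s hG i j) - 1) * (1 + ρ (h.zz hG))) := by
      rw [h1]
      trivial
    rw [LinearMap.mem_ker, Module.End.mul_apply, LinearMap.add_apply, Module.End.one_apply, hv,
      LinearMap.sub_apply, Module.End.one_apply, map_add] at h3
    have h4 : (2 : K) • (ρ (h.s hG i j) v - v) = 0 := by
      rw [← h3]
      module
    exact sub_eq_zero.1 ((smul_eq_zero.1 h4).resolve_left hK)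
  · exact h.zz_M0 hG

/-- **Six vectors**: the fixed space of the sign involutions is fixed by `EY Q (span)`. -/
theorem M0_le_FixS_six [FiniteDimensional F V] (hG : Good Q) (h2 : (2 : F) ≠ 0) (hK : (2 : K) ≠ 0)
    {w : Fin 6 → V} (h : Frame Q w ν) (hR : Good (res Q (sp (F := F) w)))
    (hD : Dec ρ (h.s hG)) : M0 ρ (h.s hG) ≤ FixS ρ (sp (F := F) w) := by
  refine le_FixS_of_trivial (h.nondegOn h2) hR ?_ (t := h.s hG 0 1)
    (h.toRes.s hR 0 1).2 (fun y => h.s_toRes hG hR 0 1 y) (fun v hv => h.s_perp hG 0 1 hv)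
    (h.s_toRes_not_scalar h2 hR (k := 2) (by decide) (by decide) (by decide)) ?_
  · intro g hg x hx
    rw [← h.zz_fixed_iff hG hK hD] at hx ⊢
    have e : h.zz hG * (⟨g, EY_le_E hg⟩ : E Q) = ⟨g, EY_le_E hg⟩ * h.zz hG :=
      Subtype.ext (h.zz_comm hG h2 hg)
    rw [← rho_mul, e, rho_mul, hx]
  · intro x hx
    exact mem_M0.1 hx 0 1

/-- The converse inclusion. -/
theorem FixS_le_M0 [FiniteDimensional F V] (hG : Good Q) (h2 : (2 : F) ≠ 0) (h : Frame Q w ν)
    (hR : Good (res Q (sp (F := F) w))) : FixS ρ (sp (F := F) w) ≤ M0 ρ (h.s hG) := by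
  intro x hx
  rw [mem_M0]
  intro i j
  exact hx _ (h.s_mem_EY hG h2 hR i j)

/-- The map `Fin 6 → Fin n`, `i ↦ i` for `i < 5`, `5 ↦ k`. -/
def emb6 (k : Fin n) (hk : 5 ≤ (k : ℕ)) : Fin 6 ↪ Fin n where
  toFun i := if hi : (i : ℕ) < 5 then ⟨i, by omega⟩ else k
  inj' := by
    intro i j hij
    apply Fin.ext
    by_cases hi : (i : ℕ) < 5 <;> by_cases hj : (j : ℕ) < 5
    · simp only [dif_pos hi, dif_pos hj] at hij
      exact (Fin.mk.injEq _ _ _ _).mp hij
    · simp only [dif_pos hi, dif_neg hj] at hij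
      rw [← hij] at hk
      simp only at hk
      omega
    · simp only [dif_neg hi, dif_pos hj] at hij
      rw [hij] at hk
      simp only at hk
      omega
    · omega

theorem emb6_lt (k : Fin n) (hk : 5 ≤ (k : ℕ)) {i : Fin 6} (hi : (i : ℕ) < 5) :
    emb6 k hk i = ⟨i, by omega⟩ := dif_pos hi

theorem emb6_last (k : Fin n) (hk : 5 ≤ (k : ℕ)) : emb6 k hk 5 = k := by
  show (if hi : ((5 : Fin 6) : ℕ) < 5 then (⟨((5 : Fin 6) : ℕ), by omega⟩ : Fin n) else k) = k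
  rw [dif_neg (by decide)]

/-- **Generation**: `EY Q (span)` of a frame with at least six vectors is generated by the subgroups of the
subframes of six vectors. -/
theorem EY_sp_le_of_six [Finite F] [FiniteDimensional F V] (h2 : (2 : F) ≠ 0)
    (h : Frame Q w ν) (hn : 6 ≤ n) {H : Subgroup (V ≃ₗ[F] V)}
    (hH : ∀ f : Fin 6 ↪ Fin n, EY Q (sp (F := F) fun i => w (f i)) ≤ H) :
    EY Q (sp (F := F) w) ≤ H := by
  have hgood : ∀ {k : ℕ} (f : Fin k ↪ Fin n), 5 ≤ k → Good (res Q (sp (F := F) fun i => w (f i))) := by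
    intro k f hk
    refine good_res ((h.comp f).nondegOn h2) ?_
    rw [(h.comp f).finrank_span h2]
    exact hk
  have hR : Good (res Q (sp (F := F) w)) := by
    refine good_res (h.nondegOn h2) ?_
    rw [h.finrank_span h2]
    omega
  -- the common hyperbolic pair
  let f5 : Fin 5 ↪ Fin n := Fin.castLEEmb (by omega)
  obtain ⟨x, x', hyp⟩ := (hgood f5 le_rfl).exists_hyp
  have hyp' : Hyp Q (x : V) (x' : V) := ⟨hyp.left, hyp.right, hyp.pair⟩
  have hsub : ∀ k : {k : Fin n // 5 ≤ (k : ℕ)},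
      sp (F := F) (fun i => w (f5 i)) ≤ sp (F := F) (fun i => w (emb6 k.1 k.2 i)) := by
    intro k
    rw [Submodule.span_le]
    rintro _ ⟨i, rfl⟩
    refine Submodule.subset_span ⟨⟨i, by omega⟩, ?_⟩
    show w (emb6 k.1 k.2 ⟨i, _⟩) = w (f5 i)
    rw [emb6_lt k.1 k.2 (i := ⟨i, by omega⟩) (by simp)]
    rfl
  refine EY_le_of_blocks (h.nondegOn h2) hR hyp' (sp_comp_le f5 x.2) (sp_comp_le f5 x'.2)
    (fun k : {k : Fin n // 5 ≤ (k : ℕ)} => sp (F := F) (fun i => w (emb6 k.1 k.2 i)))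
    (fun k => hsub k x.2) (fun k => hsub k x'.2) ?_ fun k => hH _
  rw [Submodule.span_le]
  rintro _ ⟨i, rfl⟩
  by_cases hi : (i : ℕ) < 5
  · refine Submodule.mem_iSup_of_mem ⟨⟨5, by omega⟩, by simp⟩ ?_
    refine Submodule.subset_span ⟨⟨i, by omega⟩, ?_⟩
    show w (emb6 _ _ ⟨i, _⟩) = w i
    rw [emb6_lt _ _ (i := ⟨i, by omega⟩) hi]
  · refine Submodule.mem_iSup_of_mem ⟨i, by omega⟩ ?_
    refine Submodule.subset_span ⟨5, ?_⟩
    show w (emb6 i _ 5) = w i
    rw [emb6_last]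

/-- **At least six vectors**: the fixed space of the sign involutions is fixed by `EY Q (span)`. -/
theorem M0_le_FixS [Finite F] [FiniteDimensional F V] (hG : Good Q) (h2 : (2 : F) ≠ 0)
    (hK : (2 : K) ≠ 0) (h : Frame Q w ν) (hn : 6 ≤ n)
    (hD : ∀ f : Fin 6 ↪ Fin n, Dec ρ ((h.comp f).s hG)) :
    M0 ρ (h.s hG) ≤ FixS ρ (sp (F := F) w) := by
  intro m hm
  rw [mem_FixS_iff]
  refine h.EY_sp_le_of_six h2 hn fun f => ?_
  rw [← mem_FixS_iff]
  refine (h.comp f).M0_le_FixS_six hG h2 hK ?_ (hD f) (M0_le_comp f hm)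
  refine good_res ((h.comp f).nondegOn h2) ?_
  rw [(h.comp f).finrank_span h2]
  norm_num

end Rep

end Frame

end Cfsg.Agent.H922.Om
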