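import Mathlib

/-!
Sign systems `s i j` (think `r_i r_j`, `r_i` the reflections in an orthogonal frame) and their weight spaces in a
representation over a field in which `2 ≠ 0`.
-/

set_option autoImplicit false

namespace Cfsg.Agent.H922.Om

open Module Equiv

variable {Γ : Type*} [Group Γ] {n : ℕ}

/-- `s i j` behaves like the product of the `i`-th and `j`-th reflection of an orthogonal frame. -/
structure Sgn (s : Fin n → Fin n → Γ) : Prop where
  mul : ∀ i j k, s i j * s j k = s i k
  sq : ∀ i j, s i j * s i j = 1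
  perm : ∀ a b c d, a ≠ b → c ≠ d → ∃ g : Γ, ∀ i j,
    g * s i j * g⁻¹ = s (swap a b (swap c d i)) (swap a b (swap c d j))

namespace Sgn

variable {s : Fin n → Fin n → Γ}

theorem self (hs : Sgn s) (i : Fin n) : s i i = 1 := by
  have h := hs.mul i i i
  exact mul_eq_left.1 h

theorem symm (hs : Sgn s) (i j : Fin n) : s i j = s j i := by
  have h := hs.mul i j i
  rw [hs.self] at h
  have h' := hs.sq i j
  exact mul_left_cancel (h'.trans h.symm)

theorem comm_aux (hs : Sgn s) (i j k : Fin n) : s i j * s i k = s i k * s i j := by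
  calc s i j * s i k = s j i * s i k := by rw [hs.symm i j]
    _ = s j k := hs.mul j i k
    _ = s k j := hs.symm j k
    _ = s k i * s i j := (hs.mul k i j).symm
    _ = s i k * s i j := by rw [hs.symm k i]

theorem comm (hs : Sgn s) (i j k l : Fin n) : s i j * s k l = s k l * s i j := by
  calc s i j * s k l = s i j * (s i k * s i l) := by
        rw [hs.symm i k, hs.mul k i l]
    _ = (s i k * s i j) * s i l := by rw [← mul_assoc, hs.comm_aux i j k]
    _ = s i k * (s i l * s i j) := by rw [mul_assoc, hs.comm_aux i j l]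
    _ = s k l * s i j := by rw [← mul_assoc, hs.symm i k, hs.mul k i l]

/-- Restriction to a sub-frame. -/
theorem comp (hs : Sgn s) {k : ℕ} (f : Fin k ↪ Fin n) : Sgn fun i j => s (f i) (f j) where
  mul i j l := hs.mul _ _ _
  sq i j := hs.sq _ _
  perm a b c d hab hcd := by
    obtain ⟨g, hg⟩ := hs.perm (f a) (f b) (f c) (f d) (fun h => hab (f.injective h))
      (fun h => hcd (f.injective h))
    refine ⟨g, fun i j => ?_⟩
    rw [hg]
    have key : ∀ x y z : Fin k, swap (f x) (f y) (f z) = f (swap x y z) := fun x y z =>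
      (f.injective.map_swap x y z).symm
    rw [key, key, key, key]

end Sgn

section Weights

variable {K M : Type*} [Field K] [AddCommGroup M] [Module K M] (ρ : Γ →* Module.End K M)
  (s : Fin n → Fin n → Γ)

/-- The weight space of the character `i j ↦ χ i χ j`. -/
def WS (χ : Fin n → K) : Submodule K M where
  carrier := {v | ∀ i j, ρ (s i j) v = (χ i * χ j) • v}
  zero_mem' i j := by simp
  add_mem' {a b} ha hb i j := by
    rw [map_add, ha i j, hb i j, smul_add]
  smul_mem' c {a} ha i j := by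
    rw [map_smul, ha i j, smul_comm]

variable {ρ s}

theorem mem_WS {χ : Fin n → K} {v : M} : v ∈ WS ρ s χ ↔ ∀ i j, ρ (s i j) v = (χ i * χ j) • v :=
  Iff.rfl

theorem rho_mul (g h : Γ) (v : M) : ρ (g * h) v = ρ g (ρ h v) := by
  rw [map_mul, Module.End.mul_apply]

theorem rho_one (v : M) : ρ 1 v = v := by
  rw [map_one, Module.End.one_apply]

theorem rho_inv (g : Γ) (v : M) : ρ g⁻¹ (ρ g v) = v := by
  rw [← rho_mul, inv_mul_cancel, rho_one]

theorem rho_inv' (g : Γ) (v : M) : ρ g (ρ g⁻¹ v) = v := by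
  rw [← rho_mul, mul_inv_cancel, rho_one]

theorem WS_neg (χ : Fin n → K) : WS ρ s (fun i => - χ i) = WS ρ s χ := by
  ext v
  simp only [mem_WS, neg_mul_neg]

theorem WS_congr {χ χ' : Fin n → K} (h : ∀ i j, χ i * χ j = χ' i * χ' j) :
    WS ρ s χ = WS ρ s χ' := by
  ext v
  simp only [mem_WS, h]

theorem WS_le_comp (χ : Fin n → K) {k : ℕ} (f : Fin k → Fin n) :
    WS ρ s χ ≤ WS ρ (fun i j => s (f i) (f j)) (fun i => χ (f i)) :=
  fun _ hv i j => hv (f i) (f j)

/-- A double transposition maps weight spaces to weight spaces. -/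
theorem exists_map_WS (hs : Sgn s) {a b c d : Fin n} (hab : a ≠ b) (hcd : c ≠ d) :
    ∃ g : Γ, ∀ (χ : Fin n → K) (v : M), v ∈ WS ρ s χ →
      ρ g v ∈ WS ρ s (fun i => χ (swap c d (swap a b i))) := by
  obtain ⟨g, hg⟩ := hs.perm a b c d hab hcd
  refine ⟨g, fun χ v hv i j => ?_⟩
  have h1 : s i j * g = g * s (swap c d (swap a b i)) (swap c d (swap a b j)) := by
    have := hg (swap c d (swap a b i)) (swap c d (swap a b j))
    simp only [swap_apply_self] at this
    rw [← this]
    group
  have h2 : ρ (s i j * g) v = ρ (g * s (swap c d (swap a b i)) (swap c d (swap a b j))) v := by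
    rw [h1]
  rw [rho_mul, rho_mul, hv, map_smul] at h2
  exact h2

/-- Simultaneous eigenspaces for different characters are independent. -/
theorem iSupIndep_WS (hs : Sgn s) {κ : Type*} (χ : κ → Fin n → K)
    (hinj : ∀ a b, (∀ i j, χ a i * χ a j = χ b i * χ b j) → a = b) :
    iSupIndep fun a => WS ρ s (χ a) := by
  have h := Module.End.independent_iInf_maxGenEigenspace_of_forall_mapsTo
    (fun p : Fin n × Fin n => ρ (s p.1 p.2)) (by
      intro p p' φ
      apply Module.End.mapsTo_maxGenEigenspace_of_comm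
      show ρ (s p'.1 p'.2) * ρ (s p.1 p.2) = ρ (s p.1 p.2) * ρ (s p'.1 p'.2)
      rw [← map_mul, ← map_mul, hs.comm])
  have h2 := h.comp (f := fun a (p : Fin n × Fin n) => χ a p.1 * χ a p.2) (by
    intro a b hab
    exact hinj a b fun i j => congrFun hab (i, j))
  refine h2.mono fun a => ?_
  refine le_iInf fun p => ?_
  intro v hv
  rw [Module.End.mem_maxGenEigenspace]
  refine ⟨1, ?_⟩
  rw [pow_one, LinearMap.sub_apply, LinearMap.smul_apply, Module.End.one_apply, sub_eq_zero]
  exact hv p.1 p.2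

/-- If `S` contains all the weight spaces of sign characters, then `S` is everything. -/
theorem eq_top_of_WS_le (hs : Sgn s) (h2 : (2 : K) ≠ 0) (i0 : Fin n) {S : Submodule K M}
    (h : ∀ χ : Fin n → K, (∀ i, χ i = 1 ∨ χ i = -1) → WS ρ s χ ≤ S) : S = ⊤ := by
  classical
  have key : ∀ T : Finset (Fin n), ∀ χ : Fin n → K, (∀ i, χ i = 1 ∨ χ i = -1) → ∀ v : M,
      (∀ i, i ∉ T → ρ (s i0 i) v = χ i • v) → v ∈ S := by
    intro T
    induction T using Finset.induction_on with
    | empty =>
      intro χ hχ v hv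
      have hv' : ∀ i, ρ (s i0 i) v = χ i • v := fun i => hv i (Finset.notMem_empty i)
      refine h χ hχ ?_
      intro i j
      rw [← hs.mul i i0 j, rho_mul, hv', map_smul, hs.symm i i0, hv', smul_smul, mul_comm]
    | insert a T ha ih =>
      intro χ hχ v hv
      -- the two components
      have hcomp : ∀ ε : K, (ε = 1 ∨ ε = -1) → v + ε • ρ (s i0 a) v ∈ S := by
        intro ε hε
        have hε2 : ε * ε = 1 := by rcases hε with h | h <;> rw [h] <;> ring
        refine ih (Function.update χ a ε) ?_ _ ?_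
        · intro i
          by_cases hi : i = a
          · subst hi
            rw [Function.update_self]
            exact hε
          · rw [Function.update_of_ne hi]
            exact hχ i
        · intro i hi
          by_cases hia : i = a
          · subst hia
            rw [Function.update_self, map_add, map_smul, ← rho_mul, hs.sq, rho_one, smul_add,
              smul_smul, hε2, one_smul, add_comm]
          · rw [Function.update_of_ne hia, map_add, map_smul, ← rho_mul, hs.comm, rho_mul,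
              hv i (by rw [Finset.mem_insert, not_or]; exact ⟨hia, hi⟩), map_smul, smul_add,
              smul_comm]
      have h1 := hcomp 1 (Or.inl rfl)
      have h3 := hcomp (-1) (Or.inr rfl)
      have h4 := S.add_mem h1 h3
      have h5 : v + (1 : K) • ρ (s i0 a) v + (v + (-1 : K) • ρ (s i0 a) v) = (2 : K) • v := by
        module
      rw [h5] at h4
      have h6 := S.smul_mem (2 : K)⁻¹ h4
      rwa [smul_smul, inv_mul_cancel₀ h2, one_smul] at h6
  rw [eq_top_iff]
  intro v _
  exact key Finset.univ (fun _ => 1) (fun _ => Or.inl rfl) v fun i hi =>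
    absurd (Finset.mem_univ i) hi

end Weights

section Bool

variable {K M : Type*} [Field K] [AddCommGroup M] [Module K M] {ρ : Γ →* Module.End K M}
  {s : Fin n → Fin n → Γ}

/-- The sign function of a Boolean function. -/
def ch (K : Type*) [Field K] {n : ℕ} (b : Fin n → Bool) (i : Fin n) : K := if b i then -1 else 1

theorem ch_eq (b : Fin n → Bool) (i : Fin n) : ch K b i = 1 ∨ ch K b i = -1 := by
  unfold ch
  split
  · exact Or.inr rfl
  · exact Or.inl rfl

theorem ch_mul (b : Fin n → Bool) (i j : Fin n) :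
    ch K b i * ch K b j = if b i = b j then 1 else -1 := by
  unfold ch
  cases b i <;> cases b j <;> simp

theorem exists_ch (χ : Fin n → K) (h : ∀ i, χ i = 1 ∨ χ i = -1) : ∃ b : Fin n → Bool, χ = ch K b := by
  classical
  refine ⟨fun i => decide (χ i = -1), ?_⟩
  ext i
  unfold ch
  by_cases hi : χ i = -1
  · simp [hi]
  · simp only [decide_eq_true_eq, if_neg hi]
    exact (h i).resolve_right hi

theorem one_ne_neg_one (h2 : (2 : K) ≠ 0) : (1 : K) ≠ -1 := by
  intro h
  apply h2
  linear_combination h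

theorem ch_mul_eq_iff (h2 : (2 : K) ≠ 0) {b b' : Fin n → Bool} {i j : Fin n}
    (h : ch K b i * ch K b j = ch K b' i * ch K b' j) : b i = b j ↔ b' i = b' j := by
  rw [ch_mul, ch_mul] at h
  have h1 := one_ne_neg_one h2
  constructor
  · intro hb
    by_contra hb'
    rw [if_pos hb, if_neg hb'] at h
    exact h1 h
  · intro hb
    by_contra hb'
    rw [if_pos hb, if_neg hb'] at h
    exact h1 h.symm

/-- The weight space of a Boolean function, i.e. of the subset where it is `true`. -/
def WB (ρ : Γ →* Module.End K M) (s : Fin n → Fin n → Γ) (b : Fin n → Bool) : Submodule K M :=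
  WS ρ s (ch K b)

theorem mem_WB {b : Fin n → Bool} {v : M} :
    v ∈ WB ρ s b ↔ ∀ i j, ρ (s i j) v = if b i = b j then v else - v := by
  unfold WB
  rw [mem_WS]
  refine forall_congr' fun i => forall_congr' fun j => ?_
  rw [ch_mul]
  split
  · rw [one_smul]
  · rw [neg_one_smul]

theorem WB_not (b : Fin n → Bool) : WB ρ s (fun i => !(b i)) = WB ρ s b := by
  ext v
  simp only [mem_WB]
  refine forall_congr' fun i => forall_congr' fun j => ?_
  have : ((!(b i)) = !(b j)) ↔ (b i = b j) := by cases b i <;> cases b j <;> simp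
  simp only [this]

theorem iSupIndep_WB (hs : Sgn s) (h2 : (2 : K) ≠ 0) {κ : Type*} (b : κ → Fin n → Bool)
    (hinj : ∀ x y, (∀ i j, (b x i = b x j ↔ b y i = b y j)) → x = y) :
    iSupIndep fun a => WB ρ s (b a) :=
  iSupIndep_WS hs (fun a => ch K (b a)) fun x y h => hinj x y fun i j => ch_mul_eq_iff h2 (h i j)

theorem eq_top_of_WB_le (hs : Sgn s) (h2 : (2 : K) ≠ 0) (i0 : Fin n) {S : Submodule K M}
    (h : ∀ b : Fin n → Bool, WB ρ s b ≤ S) : S = ⊤ := by
  refine eq_top_of_WS_le (ρ := ρ) hs h2 i0 fun χ hχ => ?_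
  obtain ⟨b, rfl⟩ := exists_ch χ hχ
  exact h b

theorem exists_map_WB (hs : Sgn s) {a b c d : Fin n} (hab : a ≠ b) (hcd : c ≠ d) :
    ∃ g : Γ, ∀ (f : Fin n → Bool) (v : M), v ∈ WB ρ s f →
      ρ g v ∈ WB ρ s (fun i => f (swap c d (swap a b i))) := by
  obtain ⟨g, hg⟩ := exists_map_WS (ρ := ρ) hs hab hcd
  exact ⟨g, fun f v hv => hg (ch K f) v hv⟩

theorem WB_ne_bot_map (hs : Sgn s) {a b c d : Fin n} (hab : a ≠ b) (hcd : c ≠ d) {f : Fin n → Bool}
    (h : WB ρ s f ≠ ⊥) : WB ρ s (fun i => f (swap c d (swap a b i))) ≠ ⊥ := by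
  obtain ⟨g, hg⟩ := exists_map_WB (ρ := ρ) hs hab hcd
  obtain ⟨v, hv, hv0⟩ := Submodule.exists_mem_ne_zero_of_ne_bot h
  intro h0
  have h1 := hg f v hv
  rw [h0, Submodule.mem_bot] at h1
  apply hv0
  rw [← rho_inv (ρ := ρ) g v, h1, map_zero]

theorem finrank_WB_le_map [FiniteDimensional K M] (hs : Sgn s) {a b c d : Fin n} (hab : a ≠ b)
    (hcd : c ≠ d) (f : Fin n → Bool) :
    finrank K (WB ρ s f) ≤ finrank K (WB ρ s (fun i => f (swap c d (swap a b i)))) := by
  obtain ⟨g, hg⟩ := exists_map_WB (ρ := ρ) hs hab hcd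
  have hle : (WB ρ s f).map (ρ g) ≤ WB ρ s (fun i => f (swap c d (swap a b i))) := by
    rintro _ ⟨v, hv, rfl⟩
    exact hg f v hv
  have hinj : Function.Injective (ρ g) := fun x y h => by
    rw [← rho_inv (ρ := ρ) g x, h, rho_inv]
  rw [(Submodule.equivMapOfInjective (ρ g) hinj (WB ρ s f)).finrank_eq]
  exact Submodule.finrank_mono hle

/-- Counting: a table of double transpositions giving `k` different subsets (modulo complement). -/
theorem le_finrank_of_table [FiniteDimensional K M] (hs : Sgn s) (h2 : (2 : K) ≠ 0) {k : ℕ}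
    {f : Fin n → Bool} (T : Fin k → Fin n × Fin n × Fin n × Fin n)
    (hT : ∀ t, (T t).1 ≠ (T t).2.1 ∧ (T t).2.2.1 ≠ (T t).2.2.2)
    (hinj : ∀ t t', (∀ i j,
      (f (swap (T t).2.2.1 (T t).2.2.2 (swap (T t).1 (T t).2.1 i)) =
        f (swap (T t).2.2.1 (T t).2.2.2 (swap (T t).1 (T t).2.1 j)) ↔
      f (swap (T t').2.2.1 (T t').2.2.2 (swap (T t').1 (T t').2.1 i)) =
        f (swap (T t').2.2.1 (T t').2.2.2 (swap (T t').1 (T t').2.1 j)))) → t = t')
    (h : WB ρ s f ≠ ⊥) : k ≤ finrank K M := by
  have hind := iSupIndep_WB (ρ := ρ) hs h2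
    (fun t i => f (swap (T t).2.2.1 (T t).2.2.2 (swap (T t).1 (T t).2.1 i))) hinj
  have hne : ∀ t, WB ρ s (fun i => f (swap (T t).2.2.1 (T t).2.2.2 (swap (T t).1 (T t).2.1 i))) ≠ ⊥ :=
    fun t => WB_ne_bot_map hs (hT t).1 (hT t).2 h
  classical
  have h3 := hind.subtype_ne_bot_le_finrank
  refine le_trans ?_ h3
  rw [Fintype.card_subtype]
  have : (Finset.univ.filter fun t => WB ρ s
      (fun i => f (swap (T t).2.2.1 (T t).2.2.2 (swap (T t).1 (T t).2.1 i))) ≠ ⊥) = Finset.univ := by
    rw [Finset.filter_eq_self]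
    exact fun t _ => hne t
  rw [this, Finset.card_univ, Fintype.card_fin]

end Bool

section Dim

variable {K M : Type*} [Field K] [AddCommGroup M] [Module K M]

/-- Dimension of an internal direct sum. -/
theorem finrank_eq_sum [FiniteDimensional K M] {κ : Type*} [Fintype κ] {p : κ → Submodule K M}
    (h : iSupIndep p) (h' : ⨆ a, p a = ⊤) : finrank K M = ∑ a, finrank K (p a) := by
  classical
  have hI := DirectSum.isInternal_submodule_of_iSupIndep_of_iSup_eq_top h h'
  have e : (DirectSum κ fun a => p a) ≃ₗ[K] M :=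
    LinearEquiv.ofBijective (DirectSum.coeLinearMap p) hI
  rw [← e.finrank_eq, Module.finrank_directSum]

end Dim

section Main

variable {K M : Type*} [Field K] [AddCommGroup M] [Module K M] 
  {ρ : Γ →* Module.End K M} {s : Fin n → Fin n → Γ}

/-- A Boolean function with at least `k` values `true` and `l` values `false`, restricted to a suitable
`(k + l)`-subset. -/
theorem exists_emb (f : Fin n → Bool) {k l : ℕ}
    (hk : k ≤ (Finset.univ.filter fun i => f i = true).card)
    (hl : l ≤ (Finset.univ.filter fun i => f i = false).card) :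
    ∃ e : Fin (k + l) ↪ Fin n, ∀ i, f (e i) = decide ((i : ℕ) < k) := by
  obtain ⟨A, hA, hAc⟩ := Finset.exists_subset_card_eq hk
  obtain ⟨B, hB, hBc⟩ := Finset.exists_subset_card_eq hl
  have hAt : ∀ i : Fin k, f (A.orderEmbOfFin hAc i) = true := fun i =>
    (Finset.mem_filter.1 (hA (Finset.orderEmbOfFin_mem A hAc i))).2
  have hBt : ∀ i : Fin l, f (B.orderEmbOfFin hBc i) = false := fun i =>
    (Finset.mem_filter.1 (hB (Finset.orderEmbOfFin_mem B hBc i))).2
  have hinj : Function.Injective (Fin.addCases (fun i : Fin k => A.orderEmbOfFin hAc i)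
      (fun i : Fin l => B.orderEmbOfFin hBc i) : Fin (k + l) → Fin n) := by
    intro x y
    refine Fin.addCases (fun i => ?_) (fun i => ?_) x <;>
      refine Fin.addCases (fun j => ?_) (fun j => ?_) y <;>
      simp only [Fin.addCases_left, Fin.addCases_right]
    · intro h
      rw [(A.orderEmbOfFin hAc).injective h]
    · intro h
      have h1 := hAt i
      rw [h, hBt j] at h1
      exact absurd h1 (by decide)
    · intro h
      have h1 := hBt i
      rw [h, hAt j] at h1
      exact absurd h1 (by decide)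
    · intro h
      rw [(B.orderEmbOfFin hBc).injective h]
  refine ⟨⟨_, hinj⟩, fun x => ?_⟩
  show f (Fin.addCases (fun i : Fin k => A.orderEmbOfFin hAc i)
      (fun i : Fin l => B.orderEmbOfFin hBc i) x) = _
  refine Fin.addCases (fun i => ?_) (fun i => ?_) x
  · rw [Fin.addCases_left, hAt]
    symm
    rw [decide_eq_true_eq]
    simp
  · rw [Fin.addCases_right, hBt]
    symm
    rw [decide_eq_false_iff_not]
    simp

/-- Only the subsets of size at most one (modulo complement) occur as weights. -/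
def NoPair (ρ : Γ →* Module.End K M) (s : Fin n → Fin n → Γ) : Prop :=
  ∀ f : Fin n → Bool, WB ρ s f ≠ ⊥ →
    (Finset.univ.filter fun i => f i = true).card ≤ 1 ∨
      (Finset.univ.filter fun i => f i = false).card ≤ 1

theorem card_true_add_card_false (f : Fin n → Bool) :
    (Finset.univ.filter fun i => f i = true).card + (Finset.univ.filter fun i => f i = false).card
      = n := by
  have h := Finset.card_filter_add_card_filter_not (s := (Finset.univ : Finset (Fin n)))
    (fun i => f i = true)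
  simpa using h

theorem card_not_true (f : Fin n → Bool) :
    (Finset.univ.filter fun i => (!(f i)) = true).card =
      (Finset.univ.filter fun i => f i = false).card := by
  congr 1
  ext i
  simp

theorem card_not_false (f : Fin n → Bool) :
    (Finset.univ.filter fun i => (!(f i)) = false).card =
      (Finset.univ.filter fun i => f i = true).card := by
  congr 1
  ext i
  simp

/-- It is enough to exclude the subsets having at most half the elements. -/
theorem noPair_of (h : ∀ f : Fin n → Bool, WB ρ s f ≠ ⊥ →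
    (Finset.univ.filter fun i => f i = true).card ≤ (Finset.univ.filter fun i => f i = false).card →
    (Finset.univ.filter fun i => f i = true).card ≤ 1) : NoPair ρ s := by
  intro f hf
  rcases le_total (Finset.univ.filter fun i => f i = true).card
    (Finset.univ.filter fun i => f i = false).card with hle | hle
  · exact Or.inl (h f hf hle)
  · right
    rw [← card_not_true]
    refine h (fun i => !(f i)) ?_ ?_
    · rwa [WB_not]
    · rwa [card_not_true, card_not_false]

theorem WB_ne_bot_comp {f : Fin n → Bool} {k : ℕ} (e : Fin k → Fin n) (h : WB ρ s f ≠ ⊥) :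
    WB ρ (fun i j => s (e i) (e j)) (fun i => f (e i)) ≠ ⊥ := by
  intro h0
  apply h
  rw [eq_bot_iff, ← h0]
  exact fun v hv i j => hv (e i) (e j)

section five

/-- the subset `{0, 1}` of `Fin 5` -/
def b5 : Fin 5 → Bool := fun i => decide ((i : ℕ) < 2)

def T5 : Fin 10 → Fin 5 × Fin 5 × Fin 5 × Fin 5 :=
  ![(0, 1, 2, 3), (1, 2, 3, 4), (1, 3, 2, 4), (1, 4, 2, 3), (0, 2, 3, 4), (0, 3, 2, 4), (0, 4, 2, 3),
    (0, 2, 1, 3), (0, 2, 1, 4), (0, 3, 1, 4)]

theorem pair_five [FiniteDimensional K M] {s : Fin 5 → Fin 5 → Γ} (hs : Sgn s) (h2 : (2 : K) ≠ 0)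
    (hN : finrank K M ≤ 9) : WB ρ s b5 = ⊥ := by
  by_contra h
  have := le_finrank_of_table (ρ := ρ) hs h2 (f := b5) T5 (by decide) (by decide) h
  omega

theorem noPair_five [FiniteDimensional K M] (hs : Sgn s) (h2 : (2 : K) ≠ 0) (hn : 5 ≤ n)
    (hN : finrank K M ≤ 9) : NoPair ρ s := by
  refine noPair_of fun f hf hle => ?_
  by_contra hlt
  push Not at hlt
  have h1 := card_true_add_card_false f
  obtain ⟨e, he⟩ := exists_emb f (k := 2) (l := 3) (by omega) (by omega)
  have h3 := WB_ne_bot_comp (ρ := ρ) (fun i => e i) hf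
  apply h3
  have h4 := pair_five (ρ := ρ) (hs.comp e) h2 hN
  have h5 : (fun i => f (e i)) = b5 := by
    ext i
    rw [he]
    rfl
  rw [h5]
  exact h4

end five

section seven

def b72 : Fin 7 → Bool := fun i => decide ((i : ℕ) < 2)

def b73 : Fin 7 → Bool := fun i => decide ((i : ℕ) < 3)

def T72 : Fin 13 → Fin 7 × Fin 7 × Fin 7 × Fin 7 :=
  ![(0, 1, 2, 3), (1, 2, 3, 4), (1, 3, 2, 4), (1, 4, 2, 3), (1, 5, 2, 3), (1, 6, 2, 3),
    (0, 2, 3, 4), (0, 3, 2, 4), (0, 4, 2, 3), (0, 5, 2, 3), (0, 6, 2, 3), (0, 2, 1, 3), (0, 2, 1, 4)]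

def T73 : Fin 13 → Fin 7 × Fin 7 × Fin 7 × Fin 7 :=
  ![(0, 1, 3, 4), (2, 3, 4, 5), (2, 4, 3, 5), (2, 5, 3, 4), (2, 6, 3, 4),
    (1, 3, 4, 5), (1, 4, 3, 5), (1, 5, 3, 4), (1, 6, 3, 4),
    (0, 3, 4, 5), (0, 4, 3, 5), (0, 5, 3, 4), (0, 6, 3, 4)]

set_option maxRecDepth 10000 in
theorem pair_seven [FiniteDimensional K M] {s : Fin 7 → Fin 7 → Γ} (hs : Sgn s) (h2 : (2 : K) ≠ 0)
    (hN : finrank K M ≤ 12) : WB ρ s b72 = ⊥ := by
  by_contra h
  have := le_finrank_of_table (ρ := ρ) hs h2 (f := b72) T72 (by decide) (by decide +kernel) h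
  omega

set_option maxRecDepth 10000 in
theorem triple_seven [FiniteDimensional K M] {s : Fin 7 → Fin 7 → Γ} (hs : Sgn s) (h2 : (2 : K) ≠ 0)
    (hN : finrank K M ≤ 12) : WB ρ s b73 = ⊥ := by
  by_contra h
  have := le_finrank_of_table (ρ := ρ) hs h2 (f := b73) T73 (by decide) (by decide +kernel) h
  omega

theorem noPair_seven [FiniteDimensional K M] (hs : Sgn s) (h2 : (2 : K) ≠ 0) (hn : 7 ≤ n)
    (hN : finrank K M ≤ 12) : NoPair ρ s := by
  refine noPair_of fun f hf hle => ?_
  by_contra hlt
  push Not at hlt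
  have h1 := card_true_add_card_false f
  by_cases hc : (Finset.univ.filter fun i => f i = true).card = 2
  · obtain ⟨e, he⟩ := exists_emb f (k := 2) (l := 5) (by omega) (by omega)
    have h3 := WB_ne_bot_comp (ρ := ρ) (fun i => e i) hf
    apply h3
    have h4 := pair_seven (ρ := ρ) (hs.comp e) h2 hN
    have h5 : (fun i => f (e i)) = b72 := by
      ext i
      rw [he]
      rfl
    rw [h5]
    exact h4
  · obtain ⟨e, he⟩ := exists_emb f (k := 3) (l := 4) (by omega) (by omega)
    have h3 := WB_ne_bot_comp (ρ := ρ) (fun i => e i) hf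
    apply h3
    have h4 := triple_seven (ρ := ρ) (hs.comp e) h2 hN
    have h5 : (fun i => f (e i)) = b73 := by
      ext i
      rw [he]
      rfl
    rw [h5]
    exact h4

end seven

/-! ### The decomposition -/

/-- the fixed space -/
def M0 (ρ : Γ →* Module.End K M) (s : Fin n → Fin n → Γ) : Submodule K M := WB ρ s fun _ => false

/-- the weight space of `{a}` -/
def L (ρ : Γ →* Module.End K M) (s : Fin n → Fin n → Γ) (a : Fin n) : Submodule K M :=
  WB ρ s fun i => decide (a = i)

theorem mem_M0 {v : M} : v ∈ M0 ρ s ↔ ∀ i j, ρ (s i j) v = v := by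
  unfold M0
  rw [mem_WB]
  simp

theorem mem_L {a : Fin n} {v : M} :
    v ∈ L ρ s a ↔ ∀ i j, ρ (s i j) v = if (a = i ↔ a = j) then v else - v := by
  unfold L
  rw [mem_WB]
  refine forall_congr' fun i => forall_congr' fun j => ?_
  simp only [decide_eq_decide]

/-- `none ↦ ∅`, `some a ↦ {a}` -/
def bo (o : Option (Fin n)) (i : Fin n) : Bool := decide (o = some i)

theorem WB_bo_none : WB ρ s (bo none) = M0 ρ s := by
  unfold M0 bo
  simp

theorem WB_bo_some (a : Fin n) : WB ρ s (bo (some a)) = L ρ s a := by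
  unfold L bo
  simp

theorem bo_inj (hn : 3 ≤ n) (x y : Option (Fin n))
    (h : ∀ i j, (bo x i = bo x j ↔ bo y i = bo y j)) : x = y := by
  have h3 : ∀ a b : Fin n, ∃ c, c ≠ a ∧ c ≠ b := by
    intro a b
    by_contra hcon
    push Not at hcon
    have : (Finset.univ : Finset (Fin n)) ⊆ {a, b} := by
      intro c _
      by_cases hc : c = a
      · simp [hc]
      · simp [hcon c hc]
    have h4 := Finset.card_le_card this
    rw [Finset.card_univ, Fintype.card_fin] at h4
    have := Finset.card_le_two (a := a) (b := b)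
    omega
  simp only [bo, decide_eq_decide] at h
  rcases x with _ | a <;> rcases y with _ | b
  · rfl
  · obtain ⟨c, hc, -⟩ := h3 b b
    have h1 := h b c
    simp [hc.symm] at h1
  · obtain ⟨c, hc, -⟩ := h3 a a
    have h1 := h a c
    simp [hc.symm] at h1
  · by_contra hab
    have hab' : a ≠ b := fun e => hab (by rw [e])
    obtain ⟨c, hc, hc'⟩ := h3 a b
    have h1 := h a c
    simp [hc.symm, hc'.symm, hab'.symm] at h1

/-- The module is the sum of the fixed space and of the weight spaces of the singletons. -/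
def Dec (ρ : Γ →* Module.End K M) (s : Fin n → Fin n → Γ) : Prop :=
  M0 ρ s ⊔ ⨆ a, L ρ s a = ⊤

theorem NoPair.dec (hs : Sgn s) (h2 : (2 : K) ≠ 0) (hn : 0 < n) (hP : NoPair ρ s) : Dec ρ s := by
  unfold Dec
  refine eq_top_of_WB_le (ρ := ρ) hs h2 ⟨0, hn⟩ fun b => ?_
  by_cases hb : WB ρ s b = ⊥
  · rw [hb]
    exact bot_le
  -- it is enough to treat the case of at most one `true`
  have key : ∀ b : Fin n → Bool, (Finset.univ.filter fun i => b i = true).card ≤ 1 →
      WB ρ s b ≤ M0 ρ s ⊔ ⨆ a, L ρ s a := by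
    intro b hb
    rcases Nat.lt_or_ge 0 (Finset.univ.filter fun i => b i = true).card with h0 | h0
    · have h1 : (Finset.univ.filter fun i => b i = true).card = 1 := by omega
      obtain ⟨a, ha⟩ := Finset.card_eq_one.1 h1
      have h3 : b = fun i => decide (a = i) := by
        ext i
        have h4 : b i = true ↔ i = a := by
          have := Finset.ext_iff.1 ha i
          simpa using this
        rw [Bool.eq_iff_iff, h4]
        simp [eq_comm]
      rw [h3]
      exact le_sup_of_le_right (le_iSup (fun a => L ρ s a) a)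
    · have h1 : (Finset.univ.filter fun i => b i = true).card = 0 := by omega
      rw [Finset.card_eq_zero] at h1
      have h3 : b = fun _ => false := by
        ext i
        have := Finset.ext_iff.1 h1 i
        simpa using this
      rw [h3]
      exact le_sup_left
  rcases hP b hb with h | h
  · exact key b h
  · rw [← WB_not]
    apply key
    rwa [card_not_true]

theorem Dec.induction (hP : Dec ρ s) {S : Submodule K M} (h0 : M0 ρ s ≤ S)
    (h : ∀ a, L ρ s a ≤ S) : S = ⊤ := by
  rw [eq_top_iff, ← hP]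
  exact sup_le h0 (iSup_le h)

theorem M0_le_comp {k : ℕ} (e : Fin k → Fin n) :
    M0 ρ s ≤ M0 ρ fun i j => s (e i) (e j) := by
  intro v hv
  rw [mem_M0] at hv ⊢
  exact fun i j => hv _ _

theorem L_le_comp {k : ℕ} (e : Fin k ↪ Fin n) (a : Fin k) :
    L ρ s (e a) ≤ L ρ (fun i j => s (e i) (e j)) a := by
  intro v hv
  rw [mem_L] at hv ⊢
  intro i j
  rw [hv]
  simp only [e.injective.eq_iff]

theorem L_le_M0_comp {k : ℕ} (e : Fin k ↪ Fin n) {a : Fin n} (ha : ∀ i, e i ≠ a) :
    L ρ s a ≤ M0 ρ (fun i j => s (e i) (e j)) := by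
  intro v hv
  rw [mem_L] at hv
  rw [mem_M0]
  intro i j
  rw [hv, if_pos]
  constructor
  · intro h
    exact absurd h.symm (ha i)
  · intro h
    exact absurd h.symm (ha j)

theorem Dec.comp (hP : Dec ρ s) {k : ℕ} (e : Fin k ↪ Fin n) :
    Dec ρ (fun i j => s (e i) (e j)) := by
  refine hP.induction (le_sup_of_le_left (M0_le_comp e)) fun a => ?_
  by_cases ha : ∃ i, e i = a
  · obtain ⟨i, rfl⟩ := ha
    exact le_sup_of_le_right (le_trans (L_le_comp e i) (le_iSup (fun a => L ρ (fun i j => s (e i) (e j)) a) i))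
  · push Not at ha
    exact le_sup_of_le_left (L_le_M0_comp e ha)

/-- An element inducing the permutation `σ` maps `L a` to `L (σ a)`. -/
theorem L_map_of_conj {g : Γ} {σ : Equiv.Perm (Fin n)}
    (hg : ∀ i j, g * s i j * g⁻¹ = s (σ i) (σ j)) {a : Fin n} {x : M} (hx : x ∈ L ρ s a) :
    ρ g x ∈ L ρ s (σ a) := by
  rw [mem_L] at hx ⊢
  intro i j
  obtain ⟨i, rfl⟩ := σ.surjective i
  obtain ⟨j, rfl⟩ := σ.surjective j
  rw [← hg, rho_mul, rho_mul, rho_inv, hx]
  simp only [EmbeddingLike.apply_eq_iff_eq]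
  split
  · rfl
  · rw [map_neg]

/-- The lines `L a` are independent. -/
theorem iSupIndep_L (hs : Sgn s) (h2 : (2 : K) ≠ 0) (hn : 3 ≤ n) : iSupIndep fun a => L ρ s a := by
  have h := (iSupIndep_WB (ρ := ρ) hs h2 bo (bo_inj hn)).comp (Option.some_injective (Fin n))
  refine h.mono fun a => ?_
  rw [Function.comp_apply, WB_bo_some]

theorem exists_two (hn : 3 ≤ n) (a : Fin n) : ∃ c d : Fin n, c ≠ d ∧ c ≠ a ∧ d ≠ a := by
  have h1 : 1 < ((Finset.univ : Finset (Fin n)).erase a).card := by
    rw [Finset.card_erase_of_mem (Finset.mem_univ a), Finset.card_univ, Fintype.card_fin]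
    omega
  obtain ⟨c, hc, d, hd, hcd⟩ := Finset.one_lt_card.1 h1
  exact ⟨c, d, hcd, Finset.ne_of_mem_erase hc, Finset.ne_of_mem_erase hd⟩

theorem exists_map_L (hs : Sgn s) (hn : 3 ≤ n) {a b : Fin n} (hab : a ≠ b) :
    ∃ g : Γ, ∀ v ∈ L ρ s a, ρ g v ∈ L ρ s b := by
  obtain ⟨c, d, hcd, hca, hda⟩ := exists_two hn a
  obtain ⟨g, hg⟩ := exists_map_WB (ρ := ρ) hs hab hcd
  refine ⟨g, fun v hv => ?_⟩
  have h1 := hg _ v hv
  have h3 : (fun i => decide (a = swap c d (swap a b i))) = fun i => decide (b = i) := by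
    ext i
    rw [decide_eq_decide, eq_comm, swap_apply_eq_iff, swap_apply_eq_iff,
      swap_apply_of_ne_of_ne hca.symm hda.symm, swap_apply_left, eq_comm]
  unfold L
  rw [← h3]
  exact h1

variable [FiniteDimensional K M]

theorem finrank_L_eq (hs : Sgn s) (hn : 3 ≤ n) (a b : Fin n) :
    finrank K (L ρ s a) = finrank K (L ρ s b) := by
  have key : ∀ a b : Fin n, finrank K (L ρ s a) ≤ finrank K (L ρ s b) := by
    intro a b
    by_cases hab : a = b
    · rw [hab]
    obtain ⟨g, hg⟩ := exists_map_L (ρ := ρ) hs hn hab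
    have hle : (L ρ s a).map (ρ g) ≤ L ρ s b := by
      rintro _ ⟨v, hv, rfl⟩
      exact hg v hv
    have hinj : Function.Injective (ρ g) := fun x y h => by
      rw [← rho_inv (ρ := ρ) g x, h, rho_inv]
    rw [(Submodule.equivMapOfInjective (ρ g) hinj (L ρ s a)).finrank_eq]
    exact Submodule.finrank_mono hle
  exact le_antisymm (key a b) (key b a)

/-- **The dimension formula.** -/
theorem finrank_eq (hs : Sgn s) (h2 : (2 : K) ≠ 0) (hn : 3 ≤ n) (hP : Dec ρ s) (a : Fin n) :
    finrank K M = finrank K (M0 ρ s) + n * finrank K (L ρ s a) := by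
  have hind := iSupIndep_WB (ρ := ρ) hs h2 bo (bo_inj (by omega))
  have htop : ⨆ o : Option (Fin n), WB ρ s (bo o) = ⊤ := by
    rw [iSup_option, WB_bo_none]
    simp only [WB_bo_some]
    exact hP
  have h3 : ∀ b : Fin n, finrank K (WB ρ s (bo (some b))) = finrank K (L ρ s a) := by
    intro b
    rw [WB_bo_some]
    exact finrank_L_eq hs hn b a
  rw [finrank_eq_sum hind htop, Fintype.sum_option, WB_bo_none,
    Finset.sum_congr rfl fun b _ => h3 b, Finset.sum_const, Finset.card_univ,
    Fintype.card_fin, smul_eq_mul]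

omit [FiniteDimensional K M] in
theorem dec_three (hs : Sgn s) (h2 : (2 : K) ≠ 0) (hn : n = 3) : Dec ρ s := by
  refine NoPair.dec hs h2 (by omega) fun f _ => ?_
  have := card_true_add_card_false f
  omega

theorem dec_nine (hs : Sgn s) (h2 : (2 : K) ≠ 0) (hn : 5 ≤ n) (hN : finrank K M ≤ 9) : Dec ρ s :=
  (noPair_five hs h2 hn hN).dec hs h2 (by omega)

theorem dec_twelve (hs : Sgn s) (h2 : (2 : K) ≠ 0) (hn : 7 ≤ n) (hN : finrank K M ≤ 12) :
    Dec ρ s :=
  (noPair_seven hs h2 hn hN).dec hs h2 (by omega)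

end Main

end Cfsg.Agent.H922.Om
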