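import Cfsg.Agent.H925.NatMain
import Cfsg.Agent.H887.DS.Twelve
import Cfsg.Agent.H905.Sp4Final
import Cfsg.Agent.H905.MdN
import Cfsg.Agent.H861.SzN.Main
import Cfsg.Agent.H927.LDTwF4
import Cfsg.Agent.H929.UThreeMain
import Cfsg.Agent.H929.UThreeModel
import Cfsg.Agent.H48.NatSUEq
import Cfsg.Agent.H924.D5L
import Cfsg.Agent.H876.D3.Main5
import Cfsg.Agent.H392.TD.Main
import Cfsg.Agent.H708.ReeTw
import Cfsg.Agent.H927.G2Main

/-!
# Dimension 12, own characteristic (helper922)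

`P ≤ GL(ι, F)` a core, `|ι| = 12`, `P / scalars` simple of Lie type in characteristic `p = char F`.

* `OwnList p P` : the list;
* **`own_twelve`**.
-/

set_option autoImplicit false
set_option linter.unusedSectionVars false

namespace Cfsg.Agent.H922.Own

open Matrix Cfsg Cfsg.Geo Cfsg.Agent.H915.LD Cfsg.Agent.H925.Nat

universe u

section

variable {F : Type u} [Field F] [Finite F] {ι : Type} [Fintype ι] [DecidableEq ι]

/-- the list -/
def OwnList (p : ℕ) (P : Subgroup (GL ι F)) : Prop :=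
  (∃ (K : Type) (_ : Field K) (_ : Fintype K) (_ : CharP K p), 4 ≤ Nat.card K ∧
    Nonempty (Soc P ≃* Matrix.ProjectiveSpecialLinearGroup (Fin 2) K)) ∨
  (∃ (K : Type) (_ : Field K) (_ : Fintype K) (_ : CharP K p),
    Nonempty (Soc P ≃* Matrix.ProjectiveSpecialLinearGroup (Fin 12) K)) ∨
  (∃ (K : Type) (_ : Field K) (_ : Fintype K) (_ : CharP K p) (q : ℕ), Fintype.card K = q ^ 2 ∧
    Nonempty (Soc P ≃* PSU 12 K q)) ∨
  (p = 5 ∧ SD P ∧ FixA P ∧ ¬ FixQ P ∧ ∃ (K : Type) (_ : Field K) (_ : Fintype K) (_ : CharP K p),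
    Nat.card F = Nat.card K ∧ Nonempty (Soc P ≃* PSp 2 K)) ∨
  CjOf (spGL 6 F) P ∨ CjOf (omegaGL (quadFormPlus 6 F)) P ∨
  ∃ a b : F, (∀ z₁ z₂ : F, z₁ ^ 2 + a * z₁ * z₂ + b * z₂ ^ 2 = 0 → z₁ = 0 ∧ z₂ = 0) ∧
    CjOf (omegaGL (quadFormMinus 5 F a b)) P

/-- **Dimension 12, own characteristic.** -/
theorem own_twelve {p : ℕ} [hp : Fact p.Prime] [CharP F p] {P : Subgroup (GL ι F)} (hC : Core P)
    (hn : Fintype.card ι = 12) (hL : IsLieTypeChar p (Soc P)) : OwnList p P := by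
  have hsimp : IsSimpleGroup (P ⧸ (scalars ι F).subgroupOf P) := hC.simple
  have h1 := H905.Md.small_dc (p := p) hC.absIrred.1 hC.perfect hL hn.le
  rw [hn] at h1
  rcases h1 with h | h | h | h | h | h | h | h | h | h | h
  · -- linear groups
    obtain ⟨K, iK, iKf, iKp, l, hl, hl4, ⟨e⟩⟩ := h
    rcases (show l = 1 ∨ (2 ≤ l ∧ l + 1 < 12) ∨ 12 ≤ l + 1 by omega) with rfl | ⟨hl2, hl12⟩ | hl12
    · exact Or.inl ⟨K, iK, iKf, iKp, hl4 rfl, ⟨e⟩⟩
    · exact (H887.DS.not_twelve p hC (by omega) hl12 hn e).elim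
    · have h2 := H905.Md.psl_rank p hC.absIrred hC.perfect hl hl4 e
      obtain rfl : l = 11 := by omega
      exact Or.inr (Or.inl ⟨K, iK, iKf, iKp, ⟨e⟩⟩)
  · -- symplectic groups
    obtain ⟨K, iK, iKf, iKp, m, hm, hm2, hK3, ⟨e⟩⟩ := h
    rcases (show m = 2 ∨ m = 3 ∨ (4 ≤ m ∧ m ≤ 6) by omega) with rfl | rfl | ⟨hm4, hm6⟩
    · have hK3' : 3 ≤ Nat.card K := by rw [Nat.card_eq_fintype_card]; exact hK3 rfl
      obtain ⟨hsd, hFK, h2⟩ := H905.Sp4.core_psp4 p hC hK3' e hn.le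
      rcases h2 with ⟨h2, -⟩ | ⟨-, h2, -⟩ | ⟨-, h2, -⟩ | ⟨hp5, -, hA, hQ⟩
      · omega
      · omega
      · omega
      · exact Or.inr (Or.inr (Or.inr (Or.inl ⟨hp5, hsd, hA, hQ, K, iK, iKf, iKp, hFK, ⟨e⟩⟩)))
    · exact (H924.D5.psp6_big p hC hn.le (by omega) e).elim
    · obtain ⟨-, h2⟩ := psp hC hn.le hm4 hm6 e
      have h3 := h2.card_eq
      rw [hn, Fintype.card_sum, Fintype.card_fin] at h3
      obtain rfl : m = 6 := by omega
      exact Or.inr (Or.inr (Or.inr (Or.inr (Or.inl h2))))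
  · -- unitary groups
    obtain ⟨K, iK, iKf, iKp, N, q, hK, hN, hN2, h32, ⟨e⟩⟩ := h
    rcases (show N = 3 ∨ 4 ≤ N by omega) with rfl | hN4
    · have hq3 : 3 ≤ q := by
        have h2 := H48.NatSU.two_le_of_sq hK
        by_contra hlt
        exact h32 ⟨rfl, by omega⟩
      rcases H929.U3.core_psu3 p hC hq3 hK e hn.le with hsd | ⟨-, h2 | ⟨h2, -⟩ | ⟨h2, -⟩ | ⟨h2, -⟩⟩
      · have h2 := H929.U3.core_psu3_sd p hC hq3 hK e hn.le hsd
        omega
      · omega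
      · omega
      · omega
      · omega
    · have h2 := H876.D3.core_psu p K hN4 hn.le hK hC e
      obtain rfl : N = 12 := by omega
      exact Or.inr (Or.inr (Or.inl ⟨K, iK, iKf, iKp, q, hK, ⟨e⟩⟩))
  · -- Suzuki groups
    obtain ⟨rfl, K, iK, iKf, m, hm, hK, ⟨e⟩⟩ := h
    exact (H861.SzN.sz_false hC hm hK e (by omega) (by omega)).elim
  · -- Ree groups
    obtain ⟨rfl, h⟩ := h
    obtain ⟨K, iK, iKf, m, hm, hK, ⟨e⟩⟩ := h
    have h2 := H708.ReeSix.ree_eq_seven hC hm hK e (by omega)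
    omega
  · -- odd orthogonal groups
    obtain ⟨K, iK, iKf, iKp, m, hm, hm2, hodd, ⟨e⟩⟩ := h
    have h2K : (2 : K) ≠ 0 := by
      intro h0
      have h3 : CharP K 2 := CharTwo.of_one_ne_zero_of_two_eq_zero one_ne_zero h0
      obtain ⟨k, -, hk⟩ := FiniteField.card K 2
      rw [hk] at hodd
      exact absurd hodd (by
        rw [Nat.not_odd_iff_even]
        exact (even_two).pow_of_ne_zero k.ne_zero)
    rcases (show m = 3 ∨ (4 ≤ m ∧ m ≤ 6) by omega) with rfl | ⟨hm4, hm6⟩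
    · exact (H924.D5.po7_big p hC hn.le (by omega) h2K e).elim
    · obtain ⟨-, h2⟩ := po_odd hC hn.le hm4 hm6 h2K e
      have h3 := h2.card_eq
      rw [hn, Fintype.card_sum, Fintype.card_sum, Fintype.card_fin, Fintype.card_unit] at h3
      omega
  · -- orthogonal groups of plus type
    obtain ⟨K, iK, iKf, iKp, m, hm, hm2, ⟨e⟩⟩ := h
    rcases (show m = 4 ∨ (5 ≤ m ∧ m ≤ 6) by omega) with rfl | ⟨hm4, hm6⟩
    · have h2 := H924.D5.po8plus_card p hC hn.le e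
      omega
    · obtain ⟨-, h2⟩ := po_plus hC hn.le hm4 hm6 e
      have h3 := h2.card_eq
      rw [hn, Fintype.card_sum, Fintype.card_fin] at h3
      obtain rfl : m = 6 := by omega
      exact Or.inr (Or.inr (Or.inr (Or.inr (Or.inr (Or.inl h2)))))
  · -- orthogonal groups of minus type
    obtain ⟨K, iK, iKf, iKp, m, a, b, hm, hm2, hab, ⟨e⟩⟩ := h
    rcases (show m = 4 ∨ (4 ≤ m - 1 ∧ m - 1 ≤ 6) by omega) with rfl | ⟨hm4, hm6⟩
    · have h2 := H924.D5.po8minus_card p hC hn.le hab e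
      omega
    · obtain ⟨τ, h2⟩ := po_minus hC hn.le hm4 hm6 hab e
      have h3 := h2.card_eq
      rw [hn, Fintype.card_sum, Fintype.card_sum, Fintype.card_fin, Fintype.card_fin] at h3
      obtain rfl : m = 6 := by omega
      refine Or.inr (Or.inr (Or.inr (Or.inr (Or.inr (Or.inr ⟨τ a, τ b, fun z₁ z₂ hz => ?_, h2⟩)))))
      have h4 := hab (τ.symm z₁) (τ.symm z₂) (by
        apply τ.injective
        simpa using hz)
      exact ⟨by simpa using h4.1, by simpa using h4.2⟩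
  · obtain ⟨-, K, iK, iKf, iKp, hK3, ⟨e⟩⟩ := h
    have h2 := (H927.G2.core_g2 (K := K) p hC (by rw [Nat.card_eq_fintype_card]; exact hK3) e hn.le).2.2.2.2
    omega
  · obtain ⟨-, K, iK, iKf, iKp, q, hq, hK, ⟨e⟩⟩ := h
    have h2 := (H392.TD.d4_small p hC hq hK e hn.le).1
    omega
  · obtain ⟨-, hp2, h⟩ := h
    have := H927.LDTwF4.card_le_iso hp2 hC.perfect h
    omega

end

end Cfsg.Agent.H922.Own
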