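import Mathlib
import Cfsg.Agent.H887.SiegelMethod

/-!
Tensor decompositions `V = A ⊗ B` of quadratic spaces: basic linear algebra.
`ten : A →ₗ B →ₗ V` with `polar Q (ten a b) (ten a' b') = polar QA a a' * polar QB b b'`.
-/

set_option autoImplicit false
set_option linter.unusedSectionVars false

namespace Cfsg.Agent.H922.Ten

open QuadraticMap Cfsg.Agent.LieClassical.OrthCore Cfsg.Agent.LieClassical.OrthTrans
  Cfsg.Agent.LieClassical.OrthSimple Cfsg.Agent.ClassicalGeometry.OrthAutBasic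
  Cfsg.Agent.H887.SiegelMethod

variable {F V A B : Type*} [Field F] [AddCommGroup V] [Module F V] [AddCommGroup A] [Module F A]
  [AddCommGroup B] [Module F B] {Q : QuadraticForm F V} {QA : QuadraticForm F A}
  {QB : QuadraticForm F B} {ten : A →ₗ[F] B →ₗ[F] V}

/-- `V` is the tensor product of the quadratic spaces `A` and `B`. -/
structure TD (Q : QuadraticForm F V) (QA : QuadraticForm F A) (QB : QuadraticForm F B)
    (ten : A →ₗ[F] B →ₗ[F] V) : Prop where
  two : (2 : F) ≠ 0
  form : ∀ a b a' b', polar Q (ten a b) (ten a' b') = polar QA a a' * polar QB b b'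
  bij : Function.Bijective (TensorProduct.lift ten)
  nA : Nondeg QA
  nB : Nondeg QB

/-- The identification with the tensor product. -/
noncomputable def TD.e (h : TD Q QA QB ten) : TensorProduct F A B ≃ₗ[F] V :=
  LinearEquiv.ofBijective (TensorProduct.lift ten) h.bij

theorem TD.e_tmul (h : TD Q QA QB ten) (a : A) (b : B) :
    h.e (TensorProduct.tmul F a b) = ten a b := by
  simp [TD.e]

theorem TD.e_symm (h : TD Q QA QB ten) (a : A) (b : B) :
    h.e.symm (ten a b) = TensorProduct.tmul F a b := by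
  rw [← h.e_tmul, LinearEquiv.symm_apply_apply]

/-- Two linear maps which agree on pure tensors are equal. -/
theorem TD.ext (h : TD Q QA QB ten) {W : Type*} [AddCommGroup W] [Module F W] {f g : V →ₗ[F] W}
    (hfg : ∀ a b, f (ten a b) = g (ten a b)) : f = g := by
  have h1 : f ∘ₗ h.e.toLinearMap = g ∘ₗ h.e.toLinearMap := by
    apply TensorProduct.ext'
    intro a b
    simp only [LinearMap.comp_apply, LinearEquiv.coe_coe, h.e_tmul]
    exact hfg a b
  ext v
  have h2 := LinearMap.congr_fun h1 (h.e.symm v)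
  simpa using h2

theorem TD.ext_equiv (h : TD Q QA QB ten) {W : Type*} [AddCommGroup W] [Module F W]
    {f g : V ≃ₗ[F] W} (hfg : ∀ a b, f (ten a b) = g (ten a b)) : f = g := by
  have h1 : (f : V →ₗ[F] W) = g := h.ext hfg
  ext v
  exact LinearMap.congr_fun h1 v

/-- The linear map given on pure tensors. -/
noncomputable def TD.tl (h : TD Q QA QB ten) {W : Type*} [AddCommGroup W] [Module F W]
    (φ : A →ₗ[F] B →ₗ[F] W) : V →ₗ[F] W :=
  (TensorProduct.lift φ) ∘ₗ h.e.symm.toLinearMap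

theorem TD.tl_ten (h : TD Q QA QB ten) {W : Type*} [AddCommGroup W] [Module F W]
    (φ : A →ₗ[F] B →ₗ[F] W) (a : A) (b : B) : h.tl φ (ten a b) = φ a b := by
  simp [TD.tl, h.e_symm]

/-- The tensor product of two linear automorphisms. -/
noncomputable def TD.tm (h : TD Q QA QB ten) (α : A ≃ₗ[F] A) (β : B ≃ₗ[F] B) : V ≃ₗ[F] V :=
  (h.e.symm.trans (TensorProduct.congr α β)).trans h.e

theorem TD.tm_ten (h : TD Q QA QB ten) (α : A ≃ₗ[F] A) (β : B ≃ₗ[F] B) (a : A) (b : B) :
    h.tm α β (ten a b) = ten (α a) (β b) := by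
  simp [TD.tm, h.e_symm, h.e_tmul]

theorem TD.tm_mul (h : TD Q QA QB ten) (α α' : A ≃ₗ[F] A) (β β' : B ≃ₗ[F] B) :
    h.tm (α * α') (β * β') = h.tm α β * h.tm α' β' := by
  refine h.ext_equiv fun a b => ?_
  rw [LinearEquiv.mul_apply, h.tm_ten, h.tm_ten, h.tm_ten]
  rfl

theorem TD.tm_one (h : TD Q QA QB ten) : h.tm 1 1 = 1 := by
  refine h.ext_equiv fun a b => ?_
  rw [h.tm_ten]
  rfl

theorem TD.tm_inv (h : TD Q QA QB ten) (α : A ≃ₗ[F] A) (β : B ≃ₗ[F] B) :
    (h.tm α β)⁻¹ = h.tm α⁻¹ β⁻¹ := by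
  rw [inv_eq_iff_mul_eq_one, ← h.tm_mul, mul_inv_cancel, mul_inv_cancel, h.tm_one]

/-- The flipped decomposition. -/
theorem TD.flip (h : TD Q QA QB ten) : TD Q QB QA ten.flip where
  two := h.two
  form b a b' a' := by
    simp only [LinearMap.flip_apply]
    rw [h.form, mul_comm]
  bij := by
    have e : (TensorProduct.lift ten.flip : TensorProduct F B A →ₗ[F] V) =
        TensorProduct.lift ten ∘ₗ (TensorProduct.comm F B A).toLinearMap := by
      apply TensorProduct.ext'
      intro b a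
      simp
    rw [e, LinearMap.coe_comp]
    exact h.bij.comp (TensorProduct.comm F B A).bijective
  nA := h.nB
  nB := h.nA

theorem TD.Q_ten (h : TD Q QA QB ten) (a : A) (b : B) : Q (ten a b) = 2 * QA a * QB b := by
  have h1 := polar_self' (Q := Q) (ten a b)
  rw [h.form, polar_self', polar_self'] at h1
  have h2 : (2 : F) * (Q (ten a b)) = 2 * (2 * QA a * QB b) := by rw [← h1]; ring
  exact mul_left_cancel₀ h.two h2

/-- Two bilinear forms agreeing on pure tensors are equal. -/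
theorem TD.ext₂ (h : TD Q QA QB ten) {W : Type*} [AddCommGroup W] [Module F W]
    {M N : V →ₗ[F] V →ₗ[F] W}
    (hMN : ∀ a b a' b', M (ten a b) (ten a' b') = N (ten a b) (ten a' b')) : M = N :=
  h.ext fun a b => h.ext fun a' b' => hMN a b a' b'

theorem TD.tm_mem_O (h : TD Q QA QB ten) {α : A ≃ₗ[F] A} {β : B ≃ₗ[F] B} (hα : α ∈ O QA)
    (hβ : β ∈ O QB) : h.tm α β ∈ O Q := by
  have h1 : (polarBilin Q).compl₁₂ (h.tm α β).toLinearMap (h.tm α β).toLinearMap = polarBilin Q := by
    refine h.ext₂ fun a b a' b' => ?_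
    simp only [LinearMap.compl₁₂_apply, LinearEquiv.coe_coe, polarBilin_apply_apply]
    rw [h.tm_ten, h.tm_ten, h.form, h.form, polar_map hα, polar_map hβ]
  intro v
  have h2 := LinearMap.congr_fun₂ h1 v v
  simp only [LinearMap.compl₁₂_apply, LinearEquiv.coe_coe, polarBilin_apply_apply] at h2
  rw [polar_self', polar_self'] at h2
  exact mul_left_cancel₀ h.two h2

/-- The adjoint of `a ↦ ten a b`. -/
noncomputable def TD.pb (h : TD Q QA QB ten) (b : B) : V →ₗ[F] A :=
  h.tl (LinearMap.mk₂ F (fun a b' => polar QB b b' • a)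
    (fun a a' b' => smul_add _ _ _) (fun c a b' => smul_comm _ _ _)
    (fun a b' b'' => by rw [polar_add_right, add_smul])
    (fun c a b' => by rw [polar_smul_right, smul_assoc]))

theorem TD.pb_ten (h : TD Q QA QB ten) (b : B) (a : A) (b' : B) :
    h.pb b (ten a b') = polar QB b b' • a := by
  rw [TD.pb, h.tl_ten]
  rfl

theorem TD.pb_add (h : TD Q QA QB ten) (b b' : B) (v : V) :
    h.pb (b + b') v = h.pb b v + h.pb b' v := by
  have : h.pb (b + b') = h.pb b + h.pb b' := by
    refine h.ext fun a b'' => ?_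
    rw [LinearMap.add_apply, h.pb_ten, h.pb_ten, h.pb_ten, polar_add_left, add_smul]
  rw [this]
  rfl

theorem TD.pb_smul (h : TD Q QA QB ten) (c : F) (b : B) (v : V) :
    h.pb (c • b) v = c • h.pb b v := by
  have : h.pb (c • b) = c • h.pb b := by
    refine h.ext fun a b'' => ?_
    rw [LinearMap.smul_apply, h.pb_ten, h.pb_ten, polar_smul_left, smul_assoc]
  rw [this]
  rfl

theorem TD.polar_pb (h : TD Q QA QB ten) (b : B) (v : V) (a : A) :
    polar QA (h.pb b v) a = polar Q v (ten a b) := by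
  have : (polarBilin QA).flip a ∘ₗ h.pb b = (polarBilin Q).flip (ten a b) := by
    refine h.ext fun a' b' => ?_
    simp only [LinearMap.comp_apply, LinearMap.flip_apply, polarBilin_apply_apply]
    rw [h.pb_ten, h.form, polar_smul_left, smul_eq_mul, polar_comm QB b b', mul_comm]
  exact LinearMap.congr_fun this v

theorem TD.polar_pb' (h : TD Q QA QB ten) (b : B) (v : V) (a : A) :
    polar QA a (h.pb b v) = polar Q (ten a b) v := by
  rw [polar_comm, h.polar_pb, polar_comm]

/-- A hyperbolic basis of a three-dimensional quadratic space. -/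
structure HB (QB : QuadraticForm F B) (b1 b2 b3 : B) : Prop where
  hyp : Hyp QB b1 b3
  p12 : polar QB b1 b2 = 0
  p32 : polar QB b3 b2 = 0
  q2 : QB b2 ≠ 0
  span : ∀ y, y = polar QB b3 y • b1 + ((2 * QB b2)⁻¹ * polar QB b2 y) • b2 + polar QB b1 y • b3

namespace HB

variable {b1 b2 b3 : B}

theorem p21 (hb : HB QB b1 b2 b3) : polar QB b2 b1 = 0 := by rw [polar_comm]; exact hb.p12

theorem p23 (hb : HB QB b1 b2 b3) : polar QB b2 b3 = 0 := by rw [polar_comm]; exact hb.p32

theorem p13 (hb : HB QB b1 b2 b3) : polar QB b1 b3 = 1 := hb.hyp.pair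

theorem p31 (hb : HB QB b1 b2 b3) : polar QB b3 b1 = 1 := hb.hyp.pair'

theorem p11 (hb : HB QB b1 b2 b3) : polar QB b1 b1 = 0 := hb.hyp.polar_left

theorem p33 (hb : HB QB b1 b2 b3) : polar QB b3 b3 = 0 := hb.hyp.polar_right

theorem p22 (_ : HB QB b1 b2 b3) : polar QB b2 b2 = 2 * QB b2 := polar_self' _

theorem symm (hb : HB QB b1 b2 b3) : HB QB b3 b2 b1 where
  hyp := hb.hyp.symm
  p12 := hb.p32
  p32 := hb.p12
  q2 := hb.q2
  span y := by
    conv_lhs => rw [hb.span y]
    abel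

theorem map (hb : HB QB b1 b2 b3) {g : B ≃ₗ[F] B} (hg : g ∈ O QB) :
    HB QB (g b1) (g b2) (g b3) where
  hyp := hb.hyp.map hg
  p12 := by rw [polar_map hg, hb.p12]
  p32 := by rw [polar_map hg, hb.p32]
  q2 := by rw [hg]; exact hb.q2
  span y := by
    obtain ⟨y, rfl⟩ := g.surjective y
    rw [polar_map hg, polar_map hg, polar_map hg, hg, ← map_smul, ← map_smul, ← map_smul,
      ← map_add, ← map_add, ← hb.span y]

end HB

/-- Every non-zero singular vector of a three-dimensional space is in a hyperbolic basis. -/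
theorem exists_HB (h2 : (2 : F) ≠ 0) (hB : Nondeg QB)
    (hd : Module.finrank F B = 3) {b1 : B} (hb : QB b1 = 0) (h0 : b1 ≠ 0) :
    ∃ b2 b3, HB QB b1 b2 b3 := by
  obtain ⟨b3, hyp⟩ := exists_hyp hB hb h0
  obtain ⟨b2, hb20, hb2⟩ := exists_perp_ne (Q := QB) ![b1, b3] (by omega)
  have h12 : polar QB b1 b2 = 0 := hb2 0
  have h32 : polar QB b3 b2 = 0 := hb2 1
  have h21 : polar QB b2 b1 = 0 := by rw [polar_comm]; exact h12
  have h23 : polar QB b2 b3 = 0 := by rw [polar_comm]; exact h32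
  have hli : LinearIndependent F ![b1, b2, b3] := by
    rw [Fintype.linearIndependent_iff]
    intro c hc
    rw [Fin.sum_univ_three] at hc
    replace hc : c 0 • b1 + c 1 • b2 + c 2 • b3 = 0 := hc
    have e1 : c 2 = 0 := by
      have := congrArg (polar QB b1) hc
      rw [polar_add_right, polar_add_right, polar_smul_right, polar_smul_right, polar_smul_right,
        hyp.polar_left, h12, hyp.pair, polar_zero_right] at this
      simpa using this
    have e2 : c 0 = 0 := by
      have := congrArg (polar QB b3) hc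
      rw [polar_add_right, polar_add_right, polar_smul_right, polar_smul_right, polar_smul_right,
        hyp.polar_right, h32, hyp.pair', polar_zero_right] at this
      simpa using this
    rw [e1, e2, zero_smul, zero_smul, zero_add, add_zero] at hc
    have e3 : c 1 = 0 := (smul_eq_zero.1 hc).resolve_right hb20
    intro i
    fin_cases i
    · exact e2
    · exact e3
    · exact e1
  have hspan := hli.span_eq_top_of_card_eq_finrank (by rw [hd]; rfl)
  have key : ∀ y : B, ∃ c1 c2 c3 : F, y = c1 • b1 + c2 • b2 + c3 • b3 := by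
    intro y
    have hy : y ∈ Submodule.span F (Set.range ![b1, b2, b3]) := by rw [hspan]; trivial
    obtain ⟨c, hc⟩ := (Submodule.mem_span_range_iff_exists_fun F).1 hy
    rw [Fin.sum_univ_three] at hc
    exact ⟨c 0, c 1, c 2, hc.symm⟩
  have hq2 : QB b2 ≠ 0 := by
    intro hq
    apply hb20
    apply hB
    intro y
    obtain ⟨c1, c2, c3, rfl⟩ := key y
    rw [polar_add_right, polar_add_right, polar_smul_right, polar_smul_right, polar_smul_right,
      h21, h23, polar_self_of_sing hq]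
    simp
  refine ⟨b2, b3, hyp, h12, h32, hq2, fun y => ?_⟩
  obtain ⟨c1, c2, c3, rfl⟩ := key y
  have hq : (2 * QB b2) ≠ 0 := mul_ne_zero h2 hq2
  rw [polar_add_right, polar_add_right, polar_smul_right, polar_smul_right, polar_smul_right,
    polar_add_right, polar_add_right, polar_smul_right, polar_smul_right, polar_smul_right,
    polar_add_right, polar_add_right, polar_smul_right, polar_smul_right, polar_smul_right,
    hyp.polar_left, hyp.polar_right, hyp.pair, hyp.pair', h12, h21, h32, h23, polar_self']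
  simp only [smul_eq_mul, mul_zero, zero_add, add_zero, mul_one]
  rw [mul_comm c2, ← mul_assoc, inv_mul_cancel₀ hq, one_mul]

section dec

variable {b1 b2 b3 : B}

/-- Coordinates with respect to a hyperbolic basis of `B`. -/
theorem TD.decomp (h : TD Q QA QB ten) (hb : HB QB b1 b2 b3) (v : V) :
    v = ten (h.pb b3 v) b1 + ten ((2 * QB b2)⁻¹ • h.pb b2 v) b2 + ten (h.pb b1 v) b3 := by
  have e : (LinearMap.id : V →ₗ[F] V) = (ten.flip b1) ∘ₗ h.pb b3 +
      (ten.flip b2) ∘ₗ ((2 * QB b2)⁻¹ • h.pb b2) + (ten.flip b3) ∘ₗ h.pb b1 := by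
    refine h.ext fun a b => ?_
    simp only [LinearMap.id_apply, LinearMap.add_apply, LinearMap.comp_apply,
      LinearMap.flip_apply, LinearMap.smul_apply]
    rw [h.pb_ten, h.pb_ten, h.pb_ten]
    conv_lhs => rw [hb.span b]
    simp only [map_add, map_smul, LinearMap.smul_apply, smul_smul]
  have := LinearMap.congr_fun e v
  simpa only [LinearMap.id_apply, LinearMap.add_apply, LinearMap.comp_apply,
      LinearMap.flip_apply, LinearMap.smul_apply] using this

theorem TD.pb_self1 (h : TD Q QA QB ten) (hb : HB QB b1 b2 b3) (x y z : A) :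
    h.pb b1 (ten x b1 + ten y b2 + ten z b3) = z := by
  simp only [map_add, h.pb_ten, hb.p11, hb.p12, hb.p13, zero_smul, one_smul, zero_add]

theorem TD.pb_self3 (h : TD Q QA QB ten) (hb : HB QB b1 b2 b3) (x y z : A) :
    h.pb b3 (ten x b1 + ten y b2 + ten z b3) = x := by
  simp only [map_add, h.pb_ten, hb.p31, hb.p32, hb.p33, zero_smul, one_smul, add_zero]

theorem TD.pb_self2 (h : TD Q QA QB ten) (hb : HB QB b1 b2 b3) (x y z : A) :
    h.pb b2 (ten x b1 + ten y b2 + ten z b3) = (2 * QB b2) • y := by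
  simp only [map_add, h.pb_ten, hb.p21, hb.p22, hb.p23, zero_smul, zero_add, add_zero]

theorem TD.ten_inj (h : TD Q QA QB ten) {b : B} (hb : b ≠ 0) {x y : A} (e : ten x b = ten y b) :
    x = y := by
  obtain ⟨b', hb'⟩ := h.nB.exists_polar_eq hb 1
  have := congrArg (h.pb b') e
  rw [h.pb_ten, h.pb_ten, polar_comm, hb', one_smul, one_smul] at this
  exact this

theorem TD.coord_inj (h : TD Q QA QB ten) (hb : HB QB b1 b2 b3) {x y z x' y' z' : A}
    (e : ten x b1 + ten y b2 + ten z b3 = ten x' b1 + ten y' b2 + ten z' b3) :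
    x = x' ∧ y = y' ∧ z = z' := by
  refine ⟨?_, ?_, ?_⟩
  · have := congrArg (h.pb b3) e
    rwa [h.pb_self3 hb, h.pb_self3 hb] at this
  · have := congrArg (h.pb b2) e
    rw [h.pb_self2 hb, h.pb_self2 hb] at this
    exact smul_right_injective A (mul_ne_zero h.two hb.q2) this
  · have := congrArg (h.pb b1) e
    rwa [h.pb_self1 hb, h.pb_self1 hb] at this

end dec

/-- Decomposable elements. -/
def Dec (ten : A →ₗ[F] B →ₗ[F] V) (g : V ≃ₗ[F] V) : Prop :=
  ∃ (α : A ≃ₗ[F] A) (β : B ≃ₗ[F] B), ∀ a b, g (ten a b) = ten (α a) (β b)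

/-- Elements swapping the factors. -/
def Sw (ten : A →ₗ[F] B →ₗ[F] V) (g : V ≃ₗ[F] V) : Prop :=
  ∃ (σ : B ≃ₗ[F] A) (τ : A ≃ₗ[F] B), ∀ a b, g (ten a b) = ten (σ b) (τ a)

theorem Dec.mul {g g' : V ≃ₗ[F] V} (hg : Dec ten g) (hg' : Dec ten g') : Dec ten (g * g') := by
  obtain ⟨α, β, h⟩ := hg
  obtain ⟨α', β', h'⟩ := hg'
  refine ⟨α * α', β * β', fun a b => ?_⟩
  rw [LinearEquiv.mul_apply, h', h]
  rfl

theorem Dec.inv {g : V ≃ₗ[F] V} (hg : Dec ten g) : Dec ten g⁻¹ := by
  obtain ⟨α, β, h⟩ := hg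
  refine ⟨α⁻¹, β⁻¹, fun a b => ?_⟩
  have h1 := h (α⁻¹ a) (β⁻¹ b)
  have e1 : α (α⁻¹ a) = a := LinearEquiv.apply_symm_apply α a
  have e2 : β (β⁻¹ b) = b := LinearEquiv.apply_symm_apply β b
  rw [e1, e2] at h1
  rw [← h1]
  exact LinearEquiv.symm_apply_apply g _

theorem Dec.mul_sw {g g' : V ≃ₗ[F] V} (hg : Dec ten g) (hg' : Sw ten g') : Sw ten (g * g') := by
  obtain ⟨α, β, h⟩ := hg
  obtain ⟨σ, τ, h'⟩ := hg'
  refine ⟨σ.trans α, τ.trans β, fun a b => ?_⟩
  rw [LinearEquiv.mul_apply, h', h]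
  rfl

theorem Sw.mul_dec {g g' : V ≃ₗ[F] V} (hg : Sw ten g) (hg' : Dec ten g') : Sw ten (g * g') := by
  obtain ⟨σ, τ, h⟩ := hg
  obtain ⟨α, β, h'⟩ := hg'
  refine ⟨β.trans σ, α.trans τ, fun a b => ?_⟩
  rw [LinearEquiv.mul_apply, h', h]
  rfl

theorem Sw.mul {g g' : V ≃ₗ[F] V} (hg : Sw ten g) (hg' : Sw ten g') : Dec ten (g * g') := by
  obtain ⟨σ, τ, h⟩ := hg
  obtain ⟨σ', τ', h'⟩ := hg'
  refine ⟨τ'.trans σ, σ'.trans τ, fun a b => ?_⟩
  rw [LinearEquiv.mul_apply, h', h]
  rfl

theorem Sw.inv {g : V ≃ₗ[F] V} (hg : Sw ten g) : Sw ten g⁻¹ := by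
  obtain ⟨σ, τ, h⟩ := hg
  refine ⟨τ.symm, σ.symm, fun a b => ?_⟩
  have h1 := h (τ.symm b) (σ.symm a)
  rw [LinearEquiv.apply_symm_apply, LinearEquiv.apply_symm_apply] at h1
  rw [← h1]
  exact LinearEquiv.symm_apply_apply g _

theorem TD.dec_tm (h : TD Q QA QB ten) (α : A ≃ₗ[F] A) (β : B ≃ₗ[F] B) : Dec ten (h.tm α β) :=
  ⟨α, β, h.tm_ten α β⟩

/-- Polynomials of degree at most four vanishing on a field with at least five elements. -/
theorem coeff_zero [Finite F] (hF : 5 ≤ Nat.card F) {c0 c1 c2 c3 c4 : F}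
    (h : ∀ t : F, c0 + c1 * t + c2 * t ^ 2 + c3 * t ^ 3 + c4 * t ^ 4 = 0) :
    c0 = 0 ∧ c1 = 0 ∧ c2 = 0 ∧ c3 = 0 ∧ c4 = 0 := by
  have : Fintype F := Fintype.ofFinite F
  rw [Nat.card_eq_fintype_card] at hF
  open Polynomial in
  let p : F[X] := C c0 + C c1 * X + C c2 * X ^ 2 + C c3 * X ^ 3 + C c4 * X ^ 4
  have hdeg : p.natDegree ≤ 4 := by
    simp only [p]
    compute_degree
  have hp : p = 0 := by
    apply Polynomial.eq_zero_of_natDegree_lt_card_of_eval_eq_zero p (ι := F) (f := id)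
      Function.injective_id
    · intro t
      simp only [p, id, Polynomial.eval_add, Polynomial.eval_mul, Polynomial.eval_C,
        Polynomial.eval_X, Polynomial.eval_pow]
      exact h t
    · omega
  have hc : ∀ n, p.coeff n = 0 := by
    intro n
    rw [hp, Polynomial.coeff_zero]
  have h0 := hc 0
  have h1 := hc 1
  have h2 := hc 2
  have h3 := hc 3
  have h4 := hc 4
  simp [p, Polynomial.coeff_X, Polynomial.coeff_C] at h0 h1 h2 h3 h4
  exact ⟨h0, h1, h2, h3, h4⟩

end Cfsg.Agent.H922.Ten
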