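import Mathlib

/-!
A relative trace argument (Green correspondence, elementary form).
`G` a finite group, `H ≤ G`, `ρ` a representation of `G` on `X`, `π` an `H`-equivariant
endomorphism of `X`, `tr = Σ_{g ∈ G/H} g π g⁻¹`. If a group `D` acts freely on `G/H - {H}` and fixes
`x`, then `tr x = π x + Σ_{d ∈ D} d y` for some `y`.
-/

set_option autoImplicit false
set_option linter.unusedSectionVars false

namespace Cfsg.Agent.H922.Trace

/-- Sums over free orbits. -/
theorem sum_free {D C X : Type*} [Group D] [Fintype D] [DecidableEq C] [AddCommGroup X]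
    (act : D →* Equiv.Perm C) (ρ : D → (X →+ X)) (f : C → X)
    (hf : ∀ d c, f (act d c) = ρ d (f c)) (n : ℕ) :
    ∀ S : Finset C, S.card = n → (∀ d, ∀ c ∈ S, act d c ∈ S) → (∀ d, ∀ c ∈ S, act d c = c → d = 1) →
      ∃ y, ∑ c ∈ S, f c = ∑ d, ρ d y := by
  induction n using Nat.strong_induction_on with
  | _ n ih =>
    intro S hS hinv hfree
    by_cases hne : S.Nonempty
    · obtain ⟨c0, hc0⟩ := hne
      let T : Finset C := Finset.univ.image fun d : D => act d c0
      have hTS : T ⊆ S := by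
        intro c hc
        obtain ⟨d, -, rfl⟩ := Finset.mem_image.1 hc
        exact hinv d c0 hc0
      have hinj : Function.Injective fun d : D => act d c0 := by
        intro d d' hdd
        have h1 : act (d'⁻¹ * d) c0 = c0 := by
          have hdd' : act d c0 = act d' c0 := hdd
          rw [map_mul, Equiv.Perm.mul_apply, hdd', map_inv]
          exact Equiv.symm_apply_apply (act d') c0
        have h2 := hfree _ c0 hc0 h1
        exact (inv_mul_eq_one.1 h2).symm
      have hT1 : c0 ∈ T := Finset.mem_image.2 ⟨1, Finset.mem_univ _, by rw [map_one]; rfl⟩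
      have hcard : (S \ T).card < n := by
        rw [← hS]
        apply Finset.card_lt_card
        refine Finset.ssubset_iff_subset_ne.2 ⟨Finset.sdiff_subset, fun h => ?_⟩
        rw [← h] at hc0
        exact (Finset.mem_sdiff.1 hc0).2 hT1
      obtain ⟨y, hy⟩ := ih _ hcard (S \ T) rfl
        (fun d c hc => by
          obtain ⟨hc1, hc2⟩ := Finset.mem_sdiff.1 hc
          refine Finset.mem_sdiff.2 ⟨hinv d c hc1, fun hT => hc2 ?_⟩
          obtain ⟨d', -, hd'⟩ := Finset.mem_image.1 hT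
          refine Finset.mem_image.2 ⟨d⁻¹ * d', Finset.mem_univ _, ?_⟩
          rw [map_mul, Equiv.Perm.mul_apply]
          have hd'' : act d' c0 = act d c := hd'
          rw [hd'', map_inv]
          exact Equiv.symm_apply_apply (act d) c)
        (fun d c hc => hfree d c (Finset.mem_sdiff.1 hc).1)
      refine ⟨f c0 + y, ?_⟩
      rw [← Finset.sum_sdiff hTS, hy, Finset.sum_image (fun d _ d' _ h => hinj h)]
      simp only [hf, map_add, Finset.sum_add_distrib]
      rw [add_comm]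
    · rw [Finset.not_nonempty_iff_eq_empty] at hne
      refine ⟨0, ?_⟩
      rw [hne]
      simp

variable {F G X : Type*} [Field F] [Group G] [Finite G] [AddCommGroup X] [Module F X]
  (ρ : G →* Module.End F X) (H : Subgroup G) (π : Module.End F X)

/-- The relative trace. -/
noncomputable def tr : Module.End F X :=
  letI := Fintype.ofFinite (G ⧸ H)
  ∑ c : G ⧸ H, ρ c.out * π * ρ c.out⁻¹

variable {ρ H π}

theorem term_eq (hπ : ∀ h ∈ H, ρ h * π = π * ρ h) (g : G) {h : G} (hh : h ∈ H) :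
    ρ (g * h) * π * ρ (g * h)⁻¹ = ρ g * π * ρ g⁻¹ := by
  rw [mul_inv_rev, map_mul, map_mul]
  have : ρ h * π * ρ h⁻¹ = π := by
    rw [hπ h hh, mul_assoc, ← map_mul, mul_inv_cancel, map_one, mul_one]
  calc ρ g * ρ h * π * (ρ h⁻¹ * ρ g⁻¹) = ρ g * (ρ h * π * ρ h⁻¹) * ρ g⁻¹ := by
        simp only [mul_assoc]
    _ = ρ g * π * ρ g⁻¹ := by rw [this]

theorem term_smul (hπ : ∀ h ∈ H, ρ h * π = π * ρ h) (g : G) (c : G ⧸ H) :
    ρ (g • c).out * π * ρ (g • c).out⁻¹ = ρ g * (ρ c.out * π * ρ c.out⁻¹) * ρ g⁻¹ := by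
  have h1 : ((g • c).out : G ⧸ H) = ((g * c.out : G) : G ⧸ H) := by
    rw [QuotientGroup.out_eq']
    conv_lhs => rw [← QuotientGroup.out_eq' c]
    rfl
  have h2 : (g * c.out)⁻¹ * (g • c).out ∈ H := QuotientGroup.eq.1 h1.symm
  have h3 : (g • c).out = (g * c.out) * ((g * c.out)⁻¹ * (g • c).out) := by group
  rw [h3, term_eq hπ _ h2, mul_inv_rev, map_mul, map_mul]
  simp only [mul_assoc]

theorem tr_comm (hπ : ∀ h ∈ H, ρ h * π = π * ρ h) (g : G) : ρ g * tr ρ H π = tr ρ H π * ρ g := by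
  letI := Fintype.ofFinite (G ⧸ H)
  have h1 : ρ g * tr ρ H π * ρ g⁻¹ = tr ρ H π := by
    unfold tr
    rw [Finset.mul_sum, Finset.sum_mul]
    refine Fintype.sum_equiv (MulAction.toPerm g) _ _ fun c => ?_
    exact (term_smul hπ g c).symm
  calc ρ g * tr ρ H π = ρ g * tr ρ H π * (ρ g⁻¹ * ρ g) := by
        rw [← map_mul, inv_mul_cancel, map_one, mul_one]
    _ = tr ρ H π * ρ g := by rw [← mul_assoc, h1]

theorem tr_apply (hπ : ∀ h ∈ H, ρ h * π = π * ρ h) {D : Type*} [Group D] [Fintype D] (j : D →* G)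
    (hD : ∀ d, j d ∈ H) (hfree : ∀ d, d ≠ 1 → ∀ g, g⁻¹ * j d * g ∈ H → g ∈ H) {x : X} (hx : ∀ d, ρ (j d) x = x) :
    ∃ y, tr ρ H π x = π x + ∑ d, ρ (j d) y := by
  classical
  letI := Fintype.ofFinite (G ⧸ H)
  let act : D →* Equiv.Perm (G ⧸ H) := (MulAction.toPermHom G (G ⧸ H)).comp j
  have hact : ∀ d c, act d c = j d • c := fun d c => rfl
  let f : G ⧸ H → X := fun c => (ρ c.out * π * ρ c.out⁻¹) x
  have hf : ∀ d c, f (act d c) = (ρ (j d)).toAddMonoidHom (f c) := by
    intro d c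
    have h1 : ρ (j d)⁻¹ x = x := by
      have := congrArg (ρ (j d)⁻¹) (hx d)
      rw [← Module.End.mul_apply, ← map_mul, inv_mul_cancel, map_one] at this
      exact this.symm
    show (ρ (j d • c).out * π * ρ (j d • c).out⁻¹) x = ρ (j d) ((ρ c.out * π * ρ c.out⁻¹) x)
    rw [term_smul hπ]
    simp only [Module.End.mul_apply]
    rw [h1]
  have h1H : ((1 : G) : G ⧸ H).out ∈ H := by
    have : (((1 : G) : G ⧸ H).out : G ⧸ H) = ((1 : G) : G ⧸ H) := QuotientGroup.out_eq' _
    have h2 := QuotientGroup.eq.1 this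
    rw [mul_one] at h2
    exact (H.inv_mem_iff).1 h2
  have hf1 : f ((1 : G) : G ⧸ H) = π x := by
    have h3 := term_eq hπ (1 : G) h1H
    rw [one_mul, map_one, inv_one, map_one, one_mul, mul_one] at h3
    show (ρ ((1 : G) : G ⧸ H).out * π * ρ ((1 : G) : G ⧸ H).out⁻¹) x = π x
    rw [h3]
  obtain ⟨y, hy⟩ := sum_free act (fun d => (ρ (j d)).toAddMonoidHom) f hf _
    (Finset.univ.erase ((1 : G) : G ⧸ H)) rfl (by
      intro d c hc
      rw [Finset.mem_erase] at hc ⊢
      refine ⟨fun h => hc.1 ?_, Finset.mem_univ _⟩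
      have h2 : c = (j d)⁻¹ • ((1 : G) : G ⧸ H) := by
        rw [← h, hact, inv_smul_smul]
      rw [h2]
      exact QuotientGroup.eq.2 (by simpa using hD d)) (by
      intro d c hc h
      by_contra hd
      rw [Finset.mem_erase] at hc
      obtain ⟨g, rfl⟩ := QuotientGroup.mk_surjective c
      have h2 : ((j d * g : G) : G ⧸ H) = (g : G ⧸ H) := h
      have h3 := QuotientGroup.eq.1 h2.symm
      have h4 := hfree d hd g (by rw [mul_assoc]; exact h3)
      apply hc.1
      exact QuotientGroup.eq.2 (by rw [mul_one]; exact H.inv_mem h4))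
  refine ⟨y, ?_⟩
  have h2 : tr ρ H π x = ∑ c : G ⧸ H, f c := by
    unfold tr
    rw [LinearMap.sum_apply]
  rw [h2, ← Finset.add_sum_erase _ _ (Finset.mem_univ ((1 : G) : G ⧸ H)), hf1, hy]
  rfl

/-- A `p`-group acting on a non-zero finite module in characteristic `p` has non-zero fixed
points. -/
theorem exists_fix {D : Type*} [Group D] {p : ℕ} [Fact p.Prime] [CharP F p] (hD : IsPGroup p D)
    [Finite X] (σ : D →* Module.End F X) (K : Submodule F X) (hK : ∀ d, ∀ x ∈ K, σ d x ∈ K)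
    (hne : ∃ x ∈ K, x ≠ 0) : ∃ x ∈ K, x ≠ 0 ∧ ∀ d, σ d x = x := by
  letI : MulAction D K :=
    { smul := fun d x => ⟨σ d x, hK d x x.2⟩
      one_smul := fun x => Subtype.ext (by
        show σ 1 (x : X) = x
        rw [map_one]
        rfl)
      mul_smul := fun d d' x => Subtype.ext (by
        show σ (d * d') (x : X) = σ d (σ d' x)
        rw [map_mul]
        rfl) }
  have hsmul : ∀ (d : D) (x : K), ((d • x : K) : X) = σ d x := fun d x => rfl
  obtain ⟨x0, hx0, hx00⟩ := hne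
  have hpK : p ∣ Nat.card K := by
    have hne0 : (⟨x0, hx0⟩ : K) ≠ 0 := fun h => hx00 (congrArg Subtype.val h)
    have hp1 : p • (⟨x0, hx0⟩ : K) = 0 := by
      rw [← Nat.cast_smul_eq_nsmul F, CharP.cast_eq_zero, zero_smul]
    have hord : addOrderOf (⟨x0, hx0⟩ : K) = p := addOrderOf_eq_prime hp1 hne0
    rw [← hord]
    exact addOrderOf_dvd_natCard _
  have h0 : (0 : K) ∈ MulAction.fixedPoints D K := by
    intro d
    apply Subtype.ext
    rw [hsmul]
    exact map_zero _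
  obtain ⟨x, hx, hne⟩ := hD.exists_fixed_point_of_prime_dvd_card_of_fixed_point K hpK h0
  refine ⟨x, x.2, fun h => hne (Subtype.ext h.symm), fun d => ?_⟩
  have := congrArg Subtype.val (hx d)
  rwa [hsmul] at this

theorem tr_mem (K0 : Submodule F X) (hK0 : ∀ g, ∀ x ∈ K0, ρ g x ∈ K0)
    (hK0π : ∀ x ∈ K0, π x ∈ K0) {x : X} (hx : x ∈ K0) : tr ρ H π x ∈ K0 := by
  letI := Fintype.ofFinite (G ⧸ H)
  unfold tr
  rw [LinearMap.sum_apply]
  refine K0.sum_mem fun c _ => ?_
  exact hK0 _ _ (hK0π _ (hK0 _ _ hx))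

/-- **The Green correspondence argument.** -/
theorem green (hπ : ∀ h ∈ H, ρ h * π = π * ρ h)
    {D : Type*} [Group D] {p : ℕ} [Fact p.Prime] [CharP F p] (hD : IsPGroup p D) [Finite X]
    (j : D →* G) (hDH : ∀ d, j d ∈ H) (P : X → Prop) (hP : ∀ x, (∀ d, ρ (j d) x = x) → P x)
    (K0 : Submodule F X) (hK0 : ∀ g, ∀ x ∈ K0, ρ g x ∈ K0)
    (hK0π : ∀ x ∈ K0, π x ∈ K0) (hππ : ∀ x ∈ K0, π (π x) = π x)
    (hfix : ∀ x ∈ K0, P x → tr ρ H π x = π x) (hX0 : ∀ x ∈ K0, π x = x → tr ρ H π x = x) (g : G)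
    {x : X} (hxK : x ∈ K0) (hx : π x = x) : π (ρ g x) = ρ g x := by
  set τ := tr ρ H π with hτ
  by_contra hne
  set z := ρ g x with hz
  have hzK0 : z ∈ K0 := hK0 g x hxK
  have hτz : τ z = z := by
    have h1 := LinearMap.congr_fun (tr_comm hπ g) x
    rw [Module.End.mul_apply, Module.End.mul_apply, ← hτ, hX0 x hxK hx] at h1
    exact h1.symm
  let K : Submodule F X :=
    { carrier := {y | y ∈ K0 ∧ τ y = y ∧ π y = 0}
      zero_mem' := ⟨K0.zero_mem, map_zero _, map_zero _⟩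
      add_mem' := by
        rintro y y' ⟨h0, h1, h2⟩ ⟨h0', h1', h2'⟩
        exact ⟨K0.add_mem h0 h0', by rw [map_add, h1, h1'], by rw [map_add, h2, h2', add_zero]⟩
      smul_mem' := by
        rintro c y ⟨h0, h1, h2⟩
        exact ⟨K0.smul_mem c h0, by rw [map_smul, h1], by rw [map_smul, h2, smul_zero]⟩ }
  have hKinv : ∀ d, ∀ y ∈ K, (ρ.comp j) d y ∈ K := by
    rintro d y ⟨h0, h1, h2⟩
    refine ⟨hK0 _ _ h0, ?_, ?_⟩
    · have h3 := LinearMap.congr_fun (tr_comm hπ (j d)) y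
      rw [Module.End.mul_apply, Module.End.mul_apply, ← hτ, h1] at h3
      exact h3.symm
    · have h3 := LinearMap.congr_fun (hπ (j d) (hDH d)) y
      rw [Module.End.mul_apply, Module.End.mul_apply, h2, map_zero] at h3
      exact h3.symm
  have hmem : z - π z ∈ K := by
    refine ⟨K0.sub_mem hzK0 (hK0π z hzK0), ?_, ?_⟩
    · rw [map_sub, hτz, hX0 _ (hK0π z hzK0) (hππ z hzK0)]
    · rw [map_sub, hππ z hzK0, sub_self]
  obtain ⟨y, hyK, hy0, hyD⟩ := exists_fix hD (ρ.comp j) K hKinv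
    ⟨z - π z, hmem, fun h => hne (sub_eq_zero.1 h).symm⟩
  have h1 := hfix y hyK.1 (hP y hyD)
  rw [hyK.2.1, hyK.2.2] at h1
  exact hy0 h1

end Cfsg.Agent.H922.Trace
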