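import Mathlib
import Cfsg.Agent.H922.TenFusTwo
import Cfsg.Agent.H922.TenTrace

/-!
Bilinear forms on `V = A ⊗ B`: partial transpositions, the projection onto
`Λ²(A)* ⊗ Λ²(B)*`, pure tensors.
-/

set_option autoImplicit false
set_option linter.unusedSectionVars false

namespace Cfsg.Agent.H922.Ten

open QuadraticMap Cfsg.Agent.LieClassical.OrthCore Cfsg.Agent.LieClassical.OrthTrans
  Cfsg.Agent.LieClassical.OrthSimple Cfsg.Agent.ClassicalGeometry.OrthAutBasic
  Cfsg.Agent.H887.SiegelMethod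

variable {F V A B : Type*} [Field F] [AddCommGroup V] [Module F V] [AddCommGroup A] [Module F A]
  [AddCommGroup B] [Module F B] {Q : QuadraticForm F V} {QA : QuadraticForm F A}
  {QB : QuadraticForm F B} {ten : A →ₗ[F] B →ₗ[F] V}

variable {a1 a2 a3 : A} {b1 b2 b3 : B}

/-- The action on bilinear forms. -/
def rho (F V : Type*) [Field F] [AddCommGroup V] [Module F V] :
    (V ≃ₗ[F] V) →* Module.End F (V →ₗ[F] V →ₗ[F] F) where
  toFun g :=
    { toFun := fun M => M.compl₁₂ (g⁻¹ : V ≃ₗ[F] V).toLinearMap (g⁻¹ : V ≃ₗ[F] V).toLinearMap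
      map_add' := fun M N => by
        ext v w
        rfl
      map_smul' := fun c M => by
        ext v w
        rfl }
  map_one' := by
    ext M v w
    rfl
  map_mul' g g' := by
    ext M v w
    rfl

theorem rho_apply (g : V ≃ₗ[F] V) (M : V →ₗ[F] V →ₗ[F] F) (v w : V) :
    rho F V g M v w = M ((g⁻¹ : V ≃ₗ[F] V) v) ((g⁻¹ : V ≃ₗ[F] V) w) := rfl

/-- Bilinear forms from a function on pure tensors. -/
noncomputable def TD.mk4 (h : TD Q QA QB ten) (φ : A → B → A → B → F)
    (h1 : ∀ a a' b x y, φ (a + a') b x y = φ a b x y + φ a' b x y)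
    (h1' : ∀ (c : F) a b x y, φ (c • a) b x y = c * φ a b x y)
    (h2 : ∀ a b b' x y, φ a (b + b') x y = φ a b x y + φ a b' x y)
    (h2' : ∀ (c : F) a b x y, φ a (c • b) x y = c * φ a b x y)
    (h3 : ∀ a b x x' y, φ a b (x + x') y = φ a b x y + φ a b x' y)
    (h3' : ∀ (c : F) a b x y, φ a b (c • x) y = c * φ a b x y)
    (h4 : ∀ a b x y y', φ a b x (y + y') = φ a b x y + φ a b x y')
    (h4' : ∀ (c : F) a b x y, φ a b x (c • y) = c * φ a b x y) : V →ₗ[F] V →ₗ[F] F :=
  h.tl (LinearMap.mk₂ F (fun a b => h.tl (LinearMap.mk₂ F (fun x y => φ a b x y)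
      (fun x x' y => h3 a b x x' y) (fun c x y => h3' c a b x y)
      (fun x y y' => h4 a b x y y') (fun c x y => h4' c a b x y)))
    (fun a a' b => h.ext fun x y => by
      rw [LinearMap.add_apply, h.tl_ten, h.tl_ten, h.tl_ten]
      exact h1 a a' b x y)
    (fun c a b => h.ext fun x y => by
      rw [LinearMap.smul_apply, h.tl_ten, h.tl_ten]
      exact h1' c a b x y)
    (fun a b b' => h.ext fun x y => by
      rw [LinearMap.add_apply, h.tl_ten, h.tl_ten, h.tl_ten]
      exact h2 a b b' x y)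
    (fun c a b => h.ext fun x y => by
      rw [LinearMap.smul_apply, h.tl_ten, h.tl_ten]
      exact h2' c a b x y))

theorem TD.mk4_ten (h : TD Q QA QB ten) (φ : A → B → A → B → F)
    (h1 h1' h2 h2' h3 h3' h4 h4') (a : A) (b : B) (x : A) (y : B) :
    h.mk4 φ h1 h1' h2 h2' h3 h3' h4 h4' (ten a b) (ten x y) = φ a b x y := by
  rw [TD.mk4, h.tl_ten, LinearMap.mk₂_apply, h.tl_ten, LinearMap.mk₂_apply]

/-- The projection onto `Λ²(A)* ⊗ Λ²(B)*`, as a function. -/
noncomputable def TD.pjF (h : TD Q QA QB ten) (M : V →ₗ[F] V →ₗ[F] F) : V →ₗ[F] V →ₗ[F] F :=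
  h.mk4 (fun a b x y => (4 : F)⁻¹ * (M (ten a b) (ten x y) - M (ten x b) (ten a y) -
      M (ten a y) (ten x b) + M (ten x y) (ten a b)))
    (by intros; simp only [map_add, LinearMap.add_apply]; ring)
    (by intros; simp only [map_smul, LinearMap.smul_apply, smul_eq_mul]; ring)
    (by intros; simp only [map_add, LinearMap.add_apply]; ring)
    (by intros; simp only [map_smul, LinearMap.smul_apply, smul_eq_mul]; ring)
    (by intros; simp only [map_add, LinearMap.add_apply]; ring)
    (by intros; simp only [map_smul, LinearMap.smul_apply, smul_eq_mul]; ring)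
    (by intros; simp only [map_add, LinearMap.add_apply]; ring)
    (by intros; simp only [map_smul, LinearMap.smul_apply, smul_eq_mul]; ring)

theorem TD.pjF_ten (h : TD Q QA QB ten) (M : V →ₗ[F] V →ₗ[F] F) (a : A) (b : B) (x : A) (y : B) :
    h.pjF M (ten a b) (ten x y) = (4 : F)⁻¹ * (M (ten a b) (ten x y) - M (ten x b) (ten a y) -
      M (ten a y) (ten x b) + M (ten x y) (ten a b)) := by
  rw [TD.pjF, h.mk4_ten]

/-- The projection onto `Λ²(A)* ⊗ Λ²(B)*`. -/
noncomputable def TD.pj (h : TD Q QA QB ten) : Module.End F (V →ₗ[F] V →ₗ[F] F) where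
  toFun := h.pjF
  map_add' M N := by
    refine h.ext₂ fun a b x y => ?_
    rw [LinearMap.add_apply, LinearMap.add_apply, h.pjF_ten, h.pjF_ten, h.pjF_ten]
    simp only [LinearMap.add_apply]
    ring
  map_smul' c M := by
    refine h.ext₂ fun a b x y => ?_
    rw [LinearMap.smul_apply, LinearMap.smul_apply, h.pjF_ten, h.pjF_ten]
    simp only [LinearMap.smul_apply, smul_eq_mul, RingHom.id_apply]
    ring

theorem TD.pj_ten (h : TD Q QA QB ten) (M : V →ₗ[F] V →ₗ[F] F) (a : A) (b : B) (x : A) (y : B) :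
    h.pj M (ten a b) (ten x y) = (4 : F)⁻¹ * (M (ten a b) (ten x y) - M (ten x b) (ten a y) -
      M (ten a y) (ten x b) + M (ten x y) (ten a b)) :=
  h.pjF_ten M a b x y

theorem TD.four (h : TD Q QA QB ten) : (4 : F) ≠ 0 := by
  have : (4 : F) = 2 * 2 := by norm_num
  rw [this]
  exact mul_ne_zero h.two h.two

theorem TD.pj_pj (h : TD Q QA QB ten) (M : V →ₗ[F] V →ₗ[F] F) : h.pj (h.pj M) = h.pj M := by
  refine h.ext₂ fun a b x y => ?_
  rw [h.pj_ten, h.pj_ten, h.pj_ten, h.pj_ten, h.pj_ten]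
  have h4 := h.four
  field_simp
  ring

/-- The projection commutes with the elements preserving the decomposition. -/
theorem TD.pj_comm (h : TD Q QA QB ten) {g : V ≃ₗ[F] V} (hg : DS ten g) :
    rho F V g * h.pj = h.pj * rho F V g := by
  refine LinearMap.ext fun M => h.ext₂ fun a b x y => ?_
  rw [Module.End.mul_apply, Module.End.mul_apply, rho_apply, h.pj_ten]
  simp only [rho_apply]
  rcases hg.inv with ⟨α, β, hαβ⟩ | ⟨σ, τ, hστ⟩
  · simp only [hαβ]
    rw [h.pj_ten]
  · simp only [hστ]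
    rw [h.pj_ten]
    ring

/-- Alternating in both slots. -/
theorem TD.fix_iff (h : TD Q QA QB ten) (M : V →ₗ[F] V →ₗ[F] F) :
    h.pj M = M ↔ (∀ a b x y, M (ten x b) (ten a y) = - M (ten a b) (ten x y)) ∧
      (∀ a b x y, M (ten a y) (ten x b) = - M (ten a b) (ten x y)) := by
  have h4 := h.four
  constructor
  · intro hM
    refine ⟨fun a b x y => ?_, fun a b x y => ?_⟩
    · rw [← hM, h.pj_ten, h.pj_ten]
      ring
    · rw [← hM, h.pj_ten, h.pj_ten]
      ring
  · rintro ⟨h1, h2⟩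
    refine h.ext₂ fun a b x y => ?_
    rw [h.pj_ten, h1 a b x y, h2 a b x y]
    have h3 : M (ten x y) (ten a b) = M (ten a b) (ten x y) := by
      rw [h1 a y x b, h2 a b x y, neg_neg]
    rw [h3]
    field_simp
    ring

/-- `η ⊗ ω`. -/
noncomputable def TD.mko (h : TD Q QA QB ten) (η : A →ₗ[F] A →ₗ[F] F) (ω : B →ₗ[F] B →ₗ[F] F) :
    V →ₗ[F] V →ₗ[F] F :=
  h.mk4 (fun a b x y => η a x * ω b y)
    (by intros; simp only [map_add, LinearMap.add_apply]; ring)
    (by intros; simp only [map_smul, LinearMap.smul_apply, smul_eq_mul]; ring)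
    (by intros; simp only [map_add, LinearMap.add_apply]; ring)
    (by intros; simp only [map_smul, LinearMap.smul_apply, smul_eq_mul]; ring)
    (by intros; simp only [map_add, LinearMap.add_apply]; ring)
    (by intros; simp only [map_smul, LinearMap.smul_apply, smul_eq_mul]; ring)
    (by intros; simp only [map_add, LinearMap.add_apply]; ring)
    (by intros; simp only [map_smul, LinearMap.smul_apply, smul_eq_mul]; ring)

theorem TD.mko_ten (h : TD Q QA QB ten) (η : A →ₗ[F] A →ₗ[F] F) (ω : B →ₗ[F] B →ₗ[F] F) (a : A)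
    (b : B) (x : A) (y : B) : h.mko η ω (ten a b) (ten x y) = η a x * ω b y := by
  rw [TD.mko, h.mk4_ten]

theorem TD.mko_fix (h : TD Q QA QB ten) {η : A →ₗ[F] A →ₗ[F] F} {ω : B →ₗ[F] B →ₗ[F] F}
    (hη : ∀ a x, η x a = - η a x) (hω : ∀ b y, ω y b = - ω b y) : h.pj (h.mko η ω) = h.mko η ω := by
  rw [h.fix_iff]
  refine ⟨fun a b x y => ?_, fun a b x y => ?_⟩
  · rw [h.mko_ten, h.mko_ten, hη]
    ring
  · rw [h.mko_ten, h.mko_ten, hω]
    ring

/-- The alternating form `x ∧ y` on `A`. -/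
def om (QA : QuadraticForm F A) (x y : A) : A →ₗ[F] A →ₗ[F] F :=
  LinearMap.mk₂ F (fun a a' => polar QA x a * polar QA y a' - polar QA y a * polar QA x a')
    (by intros; simp only [polar_add_right]; ring)
    (by intros; simp only [polar_smul_right, smul_eq_mul]; ring)
    (by intros; simp only [polar_add_right]; ring)
    (by intros; simp only [polar_smul_right, smul_eq_mul]; ring)

theorem om_apply (x y a a' : A) : om QA x y a a' =
    polar QA x a * polar QA y a' - polar QA y a * polar QA x a' := rfl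

theorem om_skew (x y a a' : A) : om QA x y a' a = - om QA x y a a' := by
  rw [om_apply, om_apply]; ring

/-! ### pure tensors -/

theorem TD.not_pure_add (h : TD Q QA QB ten) {p1 p2 p : A} {q1 q2 q : B}
    (e : ten p1 q1 + ten p2 q2 = ten p q) (hp : ∀ c1 c2 : F, c1 • p1 + c2 • p2 = 0 → c1 = 0 ∧ c2 = 0) :
    (∃ c : F, q1 = c • q) ∧ (∃ c : F, q2 = c • q) := by
  have key : ∀ b, polar QB q b = 0 → polar QB q1 b = 0 ∧ polar QB q2 b = 0 := by
    intro b hb
    have e1 := congrArg (h.pb b) e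
    rw [map_add, h.pb_ten, h.pb_ten, h.pb_ten, polar_comm QB b q, hb, zero_smul,
      polar_comm QB b q1, polar_comm QB b q2] at e1
    exact hp _ _ e1
  constructor
  · by_contra hcon
    push Not at hcon
    obtain ⟨y, hy1, hy2⟩ := exists_sep h.nB hcon
    rw [(key y hy1).1] at hy2
    exact zero_ne_one hy2
  · by_contra hcon
    push Not at hcon
    obtain ⟨y, hy1, hy2⟩ := exists_sep h.nB hcon
    rw [(key y hy1).2] at hy2
    exact zero_ne_one hy2

/-- A vector on which all alternating ⊗ alternating forms vanish is pure. -/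
theorem TD.pure_of_forms (h : TD Q QA QB ten) (hb : HB QB b1 b2 b3) {v : V}
    (hv : ∀ M : V →ₗ[F] V →ₗ[F] F, h.pj M = M → M v v = 0) : ∃ a b, v = ten a b := by
  have key : ∀ (x y : A) (c c' : B), polar QA x (h.pb c v) * polar QA y (h.pb c' v) =
      polar QA y (h.pb c v) * polar QA x (h.pb c' v) := by
    intro x y c c'
    have h1 := hv (h.mko (om QA x y) (om QB c c')) (h.mko_fix (om_skew x y) (om_skew c c'))
    -- compute
    have h2 : h.mko (om QA x y) (om QB c c') v v =
        2 * (polar QA x (h.pb c v) * polar QA y (h.pb c' v) -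
          polar QA y (h.pb c v) * polar QA x (h.pb c' v)) := by
      have e : ∀ w w' : V, h.mko (om QA x y) (om QB c c') w w' =
          polar QA x (h.pb c w) * polar QA y (h.pb c' w') -
          polar QA y (h.pb c w) * polar QA x (h.pb c' w') -
          polar QA x (h.pb c' w) * polar QA y (h.pb c w') +
          polar QA y (h.pb c' w) * polar QA x (h.pb c w') := by
        intro w w'
        let N : V →ₗ[F] V →ₗ[F] F := LinearMap.mk₂ F (fun w w' =>
          polar QA x (h.pb c w) * polar QA y (h.pb c' w') -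
          polar QA y (h.pb c w) * polar QA x (h.pb c' w') -
          polar QA x (h.pb c' w) * polar QA y (h.pb c w') +
          polar QA y (h.pb c' w) * polar QA x (h.pb c w'))
          (by intros; simp only [map_add, polar_add_right]; ring)
          (by intros; simp only [map_smul, polar_smul_right, smul_eq_mul]; ring)
          (by intros; simp only [map_add, polar_add_right]; ring)
          (by intros; simp only [map_smul, polar_smul_right, smul_eq_mul]; ring)
        have : h.mko (om QA x y) (om QB c c') = N := by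
          refine h.ext₂ fun a b a' b' => ?_
          rw [h.mko_ten, om_apply, om_apply]
          show _ = polar QA x (h.pb c (ten a b)) * polar QA y (h.pb c' (ten a' b')) -
            polar QA y (h.pb c (ten a b)) * polar QA x (h.pb c' (ten a' b')) -
            polar QA x (h.pb c' (ten a b)) * polar QA y (h.pb c (ten a' b')) +
            polar QA y (h.pb c' (ten a b)) * polar QA x (h.pb c (ten a' b'))
          simp only [h.pb_ten, polar_smul_right, smul_eq_mul]
          ring
        rw [this]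
        rfl
      rw [e]
      ring
    rw [h2] at h1
    have := (mul_eq_zero.1 h1).resolve_left h.two
    exact sub_eq_zero.1 this
  -- all `pb c v` are parallel
  by_cases h0 : ∀ c, h.pb c v = 0
  · refine ⟨0, 0, ?_⟩
    rw [h.decomp hb v, h0, h0, h0]
    simp
  · push Not at h0
    obtain ⟨c0, hc0⟩ := h0
    set a0 := h.pb c0 v with ha0
    obtain ⟨x0, hx0⟩ := h.nA.exists_polar_eq hc0 1
    have hpar : ∀ c, h.pb c v = polar QA x0 (h.pb c v) • a0 := by
      intro c
      have h1 : h.pb c v - polar QA x0 (h.pb c v) • a0 = 0 := by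
        apply h.nA
        intro y
        rw [polar_sub_left, polar_smul_left, smul_eq_mul]
        have := key x0 y c c0
        rw [← ha0, polar_comm QA x0 a0, hx0, mul_one] at this
        rw [polar_comm QA (h.pb c v) y, polar_comm QA a0 y]
        linear_combination -this
      exact sub_eq_zero.1 h1
    refine ⟨a0, polar QA x0 (h.pb b3 v) • b1 + ((2 * QB b2)⁻¹ * polar QA x0 (h.pb b2 v)) • b2 +
      polar QA x0 (h.pb b1 v) • b3, ?_⟩
    conv_lhs => rw [h.decomp hb v, hpar b3, hpar b2, hpar b1]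
    simp only [map_add, map_smul, LinearMap.smul_apply, smul_smul]

theorem TD.pure_pair (h : TD Q QA QB ten) {p1 p2 p : A} {q1 q2 q : B}
    (e : ten p1 q1 + ten p2 q2 = ten p q) (hp1 : p1 ≠ 0) (hq1 : q1 ≠ 0) :
    (∃ c : F, q2 = c • q1) ∨ (∃ c : F, p2 = c • p1) := by
  by_cases hq : ∀ c1 c2 : F, c1 • q1 + c2 • q2 = 0 → c1 = 0 ∧ c2 = 0
  · right
    obtain ⟨⟨c1, hc1⟩, ⟨c2, hc2⟩⟩ := h.flip.not_pure_add (p1 := q1) (p2 := q2) (p := q) (q1 := p1)
      (q2 := p2) (q := p) e hq
    have hc10 : c1 ≠ 0 := by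
      rintro rfl
      rw [zero_smul] at hc1
      exact hp1 hc1
    refine ⟨c2 * c1⁻¹, ?_⟩
    rw [hc1, smul_smul, mul_assoc, inv_mul_cancel₀ hc10, mul_one, hc2]
  · left
    push Not at hq
    obtain ⟨c1, c2, hc, hne⟩ := hq
    have hc2 : c2 ≠ 0 := by
      rintro rfl
      rw [zero_smul, add_zero] at hc
      have hc1 := (smul_eq_zero.1 hc).resolve_right hq1
      exact hne hc1 rfl
    refine ⟨-(c2⁻¹ * c1), ?_⟩
    have h1 : c2 • q2 = - (c1 • q1) := by
      rw [eq_neg_iff_add_eq_zero, add_comm]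
      exact hc
    have h2 : q2 = c2⁻¹ • (c2 • q2) := by rw [smul_smul, inv_mul_cancel₀ hc2, one_smul]
    rw [h2, h1, smul_neg, smul_smul, neg_smul]

/-- Spaces of pure tensors. -/
theorem TD.pure_space (h : TD Q QA QB ten) {W : Type*} [AddCommGroup W] [Module F W]
    {f : W →ₗ[F] V} (hp : ∀ x, ∃ a b, f x = ten a b) :
    (∃ b, ∀ x, ∃ a, f x = ten a b) ∨ (∃ a, ∀ x, ∃ b, f x = ten a b) := by
  by_cases hz : ∀ x, f x = 0
  · left
    exact ⟨0, fun x => ⟨0, by rw [hz, map_zero]⟩⟩
  push Not at hz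
  obtain ⟨x0, hx0⟩ := hz
  obtain ⟨p0, q0, h0⟩ := hp x0
  have hne : ∀ {p : A} {q : B}, ten p q ≠ 0 → p ≠ 0 ∧ q ≠ 0 := by
    intro p q hpq
    refine ⟨?_, ?_⟩
    · rintro rfl
      exact hpq (by rw [map_zero, LinearMap.zero_apply])
    · rintro rfl
      exact hpq (by rw [map_zero])
  have hpq0 := hne (by rw [← h0]; exact hx0)
  by_cases hall : ∀ x, ∃ a, f x = ten a q0
  · exact Or.inl ⟨q0, hall⟩
  right
  push Not at hall
  obtain ⟨x2, hx2⟩ := hall
  obtain ⟨p2, q2, h2⟩ := hp x2
  have hq2 : ∀ c : F, q2 ≠ c • q0 := by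
    intro c hc
    apply hx2 (c • p2)
    rw [h2, hc]
    simp
  have hx20 : ten p2 q2 ≠ 0 := by
    intro h0'
    apply hx2 0
    rw [h2, h0', map_zero, LinearMap.zero_apply]
  have hpq2 := hne hx20
  have pair : ∀ x x' {p p' : A} {q q' : B}, f x = ten p q → f x' = ten p' q' → p ≠ 0 → q ≠ 0 →
      (∃ c : F, q' = c • q) ∨ (∃ c : F, p' = c • p) := by
    intro x x' p p' q q' hx hx' hp0 hq0
    obtain ⟨p3, q3, h3⟩ := hp (x + x')
    rw [map_add, hx, hx'] at h3
    exact h.pure_pair h3 hp0 hq0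
  obtain ⟨c0, hc0⟩ : ∃ c : F, p2 = c • p0 := by
    rcases pair x0 x2 h0 h2 hpq0.1 hpq0.2 with ⟨c, hc⟩ | hc
    · exact absurd hc (hq2 c)
    · exact hc
  have hc00 : c0 ≠ 0 := by
    rintro rfl
    rw [zero_smul] at hc0
    exact hpq2.1 hc0
  refine ⟨p0, fun x => ?_⟩
  obtain ⟨p, q, hx⟩ := hp x
  by_cases hx0' : ten p q = 0
  · exact ⟨0, by rw [hx, hx0', map_zero]⟩
  have hpq := hne hx0'
  have hfin : (∃ c : F, p = c • p0) → ∃ b, f x = ten p0 b := by
    rintro ⟨c, hc⟩
    refine ⟨c • q, ?_⟩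
    rw [hx, hc]
    simp
  rcases pair x0 x h0 hx hpq0.1 hpq0.2 with ⟨c, hc⟩ | hc
  · have hcne : c ≠ 0 := by
      rintro rfl
      rw [zero_smul] at hc
      exact hpq.2 hc
    rcases pair x x2 hx h2 hpq.1 hpq.2 with ⟨c', hc'⟩ | ⟨c', hc'⟩
    · exact absurd (by rw [hc', hc, smul_smul]) (hq2 (c' * c))
    · have hc'0 : c' ≠ 0 := by
        rintro rfl
        rw [zero_smul] at hc'
        exact hpq2.1 hc'
      apply hfin
      refine ⟨c'⁻¹ * c0, ?_⟩
      have : p = c'⁻¹ • p2 := by rw [hc', smul_smul, inv_mul_cancel₀ hc'0, one_smul]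
      rw [this, hc0, smul_smul]
  · exact hfin hc

end Cfsg.Agent.H922.Ten
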