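import Mathlib
import Cfsg.Agent.H922.TenBase

/-!
Tensor decompositions `V = A ⊗ B`, `dim A = dim B = 3`: a group containing the decomposable part of
`E Q` and one element of `Z(R(A ⊗ b))` is the whole of `E Q`.
-/

set_option autoImplicit false
set_option linter.unusedSectionVars false

namespace Cfsg.Agent.H922.Ten

open QuadraticMap Cfsg.Agent.LieClassical.OrthCore Cfsg.Agent.LieClassical.OrthTrans
  Cfsg.Agent.LieClassical.OrthSimple Cfsg.Agent.ClassicalGeometry.OrthAutBasic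
  Cfsg.Agent.H887.SiegelMethod

variable {F V A B : Type*} [Field F] [AddCommGroup V] [Module F V] [AddCommGroup A] [Module F A]
  [AddCommGroup B] [Module F B] {Q : QuadraticForm F V} {QA : QuadraticForm F A}
  {QB : QuadraticForm F B} {ten : A →ₗ[F] B →ₗ[F] V}

/-! ### squares -/

theorem sq_mem_E (hG : Good Q) {g : V ≃ₗ[F] V} (hg : g ∈ O Q) : g * g ∈ E Q := by
  have : FiniteDimensional F V := Module.finite_of_finrank_pos (by have := hG.dim; omega)
  have hO := O_eq_closure hG.nondeg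
  have key : ∀ g ∈ Subgroup.closure (reflSet Q ∪ siegelSet Q), g * g ∈ E Q := by
    intro g hg
    induction hg using Subgroup.closure_induction with
    | mem x hx =>
      rcases hx with ⟨v, hv, rfl⟩ | ⟨u, w, hu, hw, rfl⟩
      · rw [refl_mul_self]
        exact Subgroup.one_mem _
      · exact (E Q).mul_mem (siegel_mem_E hu hw) (siegel_mem_E hu hw)
    | one => simp
    | mul x y hx hy ihx ihy =>
      rw [← hO] at hx hy
      have e : x * y * (x * y) = (x * x) * (x⁻¹ * y * x⁻¹⁻¹ * y⁻¹) * (y * y) := by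
        group
      rw [e]
      refine (E Q).mul_mem ((E Q).mul_mem ihx ?_) ihy
      have hc := Subgroup.commutator_mem_commutator ((O Q).inv_mem hx) hy
      rw [commutatorElement_def] at hc
      exact hG.commutator_le_E hc
    | inv x hx ihx =>
      have e : x⁻¹ * x⁻¹ = (x * x)⁻¹ := by group
      rw [e]
      exact (E Q).inv_mem ihx
  rw [hO] at hg
  exact key g hg

theorem mem_E_of_pow (hG : Good Q) {g : V ≃ₗ[F] V} (hg : g ∈ O Q) {p : ℕ} (hp : Odd p)
    (h : g ^ p = 1) : g ∈ E Q := by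
  obtain ⟨k, rfl⟩ := hp
  have e : g = g ^ (k + 1) * g ^ (k + 1) := by
    rw [← pow_add]
    have : k + 1 + (k + 1) = (2 * k + 1) + 1 := by ring
    rw [this, pow_succ, h, one_mul]
  rw [e]
  exact sq_mem_E hG ((O Q).pow_mem hg _)

theorem TD.flip_tm (h : TD Q QA QB ten) (α : A ≃ₗ[F] A) (β : B ≃ₗ[F] B) :
    h.flip.tm β α = h.tm α β := by
  refine h.ext_equiv fun a b => ?_
  rw [h.tm_ten]
  exact h.flip.tm_ten β α b a

theorem TD.tm_T_mem_E (h : TD Q QA QB ten) (hG : Good Q) (a w : A) :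
    h.tm (T QA a w) 1 ∈ E Q := by
  by_cases haw : QA a = 0 ∧ polar QA a w = 0
  · obtain ⟨ha, hw⟩ := haw
    have e : T QA a w = T QA a ((2 : F)⁻¹ • w) * T QA a ((2 : F)⁻¹ • w) := by
      rw [T_mul ha (by rw [polar_smul_right, hw, smul_zero])
        (by rw [polar_smul_right, hw, smul_zero]), ← add_smul]
      congr 1
      rw [← two_mul, mul_inv_cancel₀ h.two, one_smul]
    have e1 : (1 : B ≃ₗ[F] B) = 1 * 1 := (one_mul 1).symm
    rw [e, e1, h.tm_mul]
    exact sq_mem_E hG (h.tm_mem_O (T_mem_O _ _) (Subgroup.one_mem _))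
  · rw [T_eq_one haw, h.tm_one]
    exact Subgroup.one_mem _

theorem TD.tm_T_mem_E' (h : TD Q QA QB ten) (hG : Good Q) (b w : B) :
    h.tm 1 (T QB b w) ∈ E Q := by
  rw [← h.flip_tm]
  exact h.flip.tm_T_mem_E hG b w

/-- The overgroup situation. -/
structure Ov (Q : QuadraticForm F V) (ten : A →ₗ[F] B →ₗ[F] V) (L : Subgroup (V ≃ₗ[F] V)) :
    Prop where
  le : L ≤ E Q
  dec : ∀ g ∈ E Q, Dec ten g → g ∈ L

theorem Ov.tA (h : TD Q QA QB ten) {L : Subgroup (V ≃ₗ[F] V)} (hL : Ov Q ten L) (hG : Good Q)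
    (a w : A) : h.tm (T QA a w) 1 ∈ L :=
  hL.dec _ (h.tm_T_mem_E hG a w) (h.dec_tm _ _)

theorem Ov.tB (h : TD Q QA QB ten) {L : Subgroup (V ≃ₗ[F] V)} (hL : Ov Q ten L) (hG : Good Q)
    (b w : B) : h.tm 1 (T QB b w) ∈ L :=
  hL.dec _ (h.tm_T_mem_E' hG b w) (h.dec_tm _ _)

theorem Ov.leO {L : Subgroup (V ≃ₗ[F] V)} (hL : Ov Q ten L) : L ≤ O Q := hL.le.trans E_le_O

/-! ### wedges -/

/-- `x ∧ y` as an operator on `A`. -/
def wd (QA : QuadraticForm F A) (x y : A) : A →ₗ[F] A :=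
  (polarBilin QA x).smulRight y - (polarBilin QA y).smulRight x

theorem wd_apply (x y v : A) : wd QA x y v = polar QA x v • y - polar QA y v • x := by
  simp [wd]

theorem wd_self (x : A) : wd QA x x = 0 := by
  ext v
  rw [wd_apply, sub_self]
  rfl

theorem wd_add_left (x x' y : A) : wd QA (x + x') y = wd QA x y + wd QA x' y := by
  ext v
  simp only [LinearMap.add_apply, wd_apply, polar_add_left, add_smul, smul_add]
  abel

theorem wd_add_right (x y y' : A) : wd QA x (y + y') = wd QA x y + wd QA x y' := by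
  ext v
  simp only [LinearMap.add_apply, wd_apply, polar_add_left, add_smul, smul_add]
  abel

theorem wd_smul_left (c : F) (x y : A) : wd QA (c • x) y = c • wd QA x y := by
  ext v
  simp only [LinearMap.smul_apply, wd_apply, polar_smul_left, smul_sub, smul_smul, smul_eq_mul]
  rw [mul_comm (polar QA y v) c]

theorem wd_smul_right (c : F) (x y : A) : wd QA x (c • y) = c • wd QA x y := by
  ext v
  simp only [LinearMap.smul_apply, wd_apply, polar_smul_left, smul_sub, smul_smul, smul_eq_mul]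
  rw [mul_comm (polar QA x v) c]

theorem wd_swap (x y : A) : wd QA y x = - wd QA x y := by
  ext v
  simp only [LinearMap.neg_apply, wd_apply]
  abel

theorem wd_conj {u : A ≃ₗ[F] A} (hu : u ∈ O QA) (x y : A) :
    u.toLinearMap ∘ₗ wd QA x y ∘ₗ (u⁻¹ : A ≃ₗ[F] A).toLinearMap = wd QA (u x) (u y) := by
  ext v
  obtain ⟨v, rfl⟩ := u.surjective v
  have e : (u⁻¹ : A ≃ₗ[F] A) (u v) = v := LinearEquiv.symm_apply_apply u v
  simp only [LinearMap.comp_apply, LinearEquiv.coe_coe, e, wd_apply, polar_map hu, map_sub,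
    map_smul]

/-! ### the group `Z(R(A ⊗ b)) ∩ L` -/

theorem TD.pb_tm (h : TD Q QA QB ten) (α : A ≃ₗ[F] A) {β : B ≃ₗ[F] B} (hβ : β ∈ O QB) (b : B)
    (v : V) : h.pb (β b) (h.tm α β v) = α (h.pb b v) := by
  have : (h.pb (β b)) ∘ₗ (h.tm α β).toLinearMap = α.toLinearMap ∘ₗ h.pb b := by
    refine h.ext fun a b' => ?_
    simp only [LinearMap.comp_apply, LinearEquiv.coe_coe]
    rw [h.tm_ten, h.pb_ten, h.pb_ten, polar_map hβ, map_smul]
  exact LinearMap.congr_fun this v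

/-- The operators `s` on `A` such that `1 + s ⊗ n_b` is in `L`. -/
def RN (h : TD Q QA QB ten) (L : Subgroup (V ≃ₗ[F] V)) (b : B) (hb : QB b = 0) :
    AddSubgroup (A →ₗ[F] A) where
  carrier := {s | ∃ g ∈ L, ∀ v, g v = v + ten (s (h.pb b v)) b}
  zero_mem' := ⟨1, L.one_mem, fun v => by simp⟩
  add_mem' := by
    rintro s s' ⟨g, hg, hs⟩ ⟨g', hg', hs'⟩
    refine ⟨g * g', L.mul_mem hg hg', fun v => ?_⟩
    rw [LinearEquiv.mul_apply, hs, hs', map_add, h.pb_ten, polar_self_of_sing hb, zero_smul,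
      add_zero, LinearMap.add_apply, map_add, LinearMap.add_apply]
    abel
  neg_mem' := by
    rintro s ⟨g, hg, hs⟩
    refine ⟨g⁻¹, L.inv_mem hg, fun v => ?_⟩
    have h1 := hs (v + ten ((-s) (h.pb b v)) b)
    have h2 : g (v + ten ((-s) (h.pb b v)) b) = v := by
      rw [h1, map_add, h.pb_ten, polar_self_of_sing hb, zero_smul, add_zero, LinearMap.neg_apply,
        map_neg, LinearMap.neg_apply]
      abel
    have h3 := congrArg (g⁻¹ : V ≃ₗ[F] V) h2
    have h4 : (g⁻¹ : V ≃ₗ[F] V) (g (v + ten ((-s) (h.pb b v)) b)) = v + ten ((-s) (h.pb b v)) b :=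
      LinearEquiv.symm_apply_apply g _
    rw [h4] at h3
    exact h3.symm

theorem mem_RN {h : TD Q QA QB ten} {L : Subgroup (V ≃ₗ[F] V)} {b : B} {hb : QB b = 0}
    {s : A →ₗ[F] A} : s ∈ RN h L b hb ↔ ∃ g ∈ L, ∀ v, g v = v + ten (s (h.pb b v)) b := Iff.rfl

theorem RN_conj (h : TD Q QA QB ten) {L : Subgroup (V ≃ₗ[F] V)} (hL : Ov Q ten L) (hG : Good Q)
    {b : B} {hb : QB b = 0} (a w : A) {s : A →ₗ[F] A} (hs : s ∈ RN h L b hb) :
    (T QA a w).toLinearMap ∘ₗ s ∘ₗ ((T QA a w)⁻¹ : A ≃ₗ[F] A).toLinearMap ∈ RN h L b hb := by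
  obtain ⟨g, hg, hs⟩ := hs
  set u := T QA a w
  have hu : u ∈ O QA := T_mem_O _ _
  have hL1 : h.tm u 1 ∈ L := hL.tA h hG a w
  refine ⟨h.tm u 1 * g * (h.tm u 1)⁻¹, L.mul_mem (L.mul_mem hL1 hg) (L.inv_mem hL1), fun v => ?_⟩
  obtain ⟨v, rfl⟩ := (h.tm u 1).surjective v
  have e : (h.tm u 1)⁻¹ ((h.tm u 1) v) = v := LinearEquiv.symm_apply_apply _ v
  rw [LinearEquiv.mul_apply, LinearEquiv.mul_apply, e, hs, map_add, h.tm_ten]
  have e2 : h.pb b (h.tm u 1 v) = u (h.pb b v) :=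
    h.pb_tm u (Subgroup.one_mem (O QB)) b v
  have e3 : (u⁻¹ : A ≃ₗ[F] A) (u (h.pb b v)) = h.pb b v := LinearEquiv.symm_apply_apply u _
  rw [e2]
  simp only [LinearMap.comp_apply, LinearEquiv.coe_coe, e3]
  rfl

variable {a1 a2 a3 : A}

theorem T_HB_one (hb : HB QA a1 a2 a3) (c : F) : T QA a1 (c • a2) a1 = a1 :=
  T_apply_self hb.hyp.left (by rw [polar_smul_right, hb.p12, smul_zero])

theorem T_HB_two (hb : HB QA a1 a2 a3) (c : F) :
    T QA a1 (c • a2) a2 = a2 - (c * (2 * QA a2)) • a1 := by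
  rw [T_apply hb.hyp.left (by rw [polar_smul_right, hb.p12, smul_zero]), hb.p12,
    polar_smul_left, hb.p22]
  simp

theorem T_HB_three (hb : HB QA a1 a2 a3) (c : F) :
    T QA a1 (c • a2) a3 = a3 + c • a2 - (c ^ 2 * QA a2) • a1 := by
  rw [T_apply hb.hyp.left (by rw [polar_smul_right, hb.p12, smul_zero]), hb.p13,
    polar_smul_left, hb.p23, QuadraticMap.map_smul]
  simp only [smul_eq_mul, mul_zero, zero_smul, one_smul, mul_one, sub_zero]
  rw [pow_two]

/-- From an operator with non-zero `a2 ∧ a3` coordinate we get the whole `F (a1 ∧ a2)`. -/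
theorem RN_step (h : TD Q QA QB ten) {L : Subgroup (V ≃ₗ[F] V)} (hL : Ov Q ten L) (hG : Good Q)
    {b : B} {hb : QB b = 0} (ha : HB QA a1 a2 a3) {x y z : F} (hz : z ≠ 0)
    (hs : x • wd QA a1 a2 + y • wd QA a1 a3 + z • wd QA a2 a3 ∈ RN h L b hb) (t : F) :
    t • wd QA a1 a2 ∈ RN h L b hb := by
  -- conjugation by `T a1 (c a2)`
  have conj : ∀ (x y z c : F), x • wd QA a1 a2 + y • wd QA a1 a3 + z • wd QA a2 a3 ∈ RN h L b hb →
      (y * c - z * c ^ 2 * QA a2) • wd QA a1 a2 + (- z * c * (2 * QA a2)) • wd QA a1 a3 ∈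
        RN h L b hb := by
    intro x y z c hs
    have h1 := RN_conj h hL hG a1 (c • a2) hs
    have h2 := (RN h L b hb).sub_mem h1 hs
    have hu : T QA a1 (c • a2) ∈ O QA := T_mem_O _ _
    have e : (T QA a1 (c • a2)).toLinearMap ∘ₗ (x • wd QA a1 a2 + y • wd QA a1 a3 +
        z • wd QA a2 a3) ∘ₗ ((T QA a1 (c • a2))⁻¹ : A ≃ₗ[F] A).toLinearMap -
        (x • wd QA a1 a2 + y • wd QA a1 a3 + z • wd QA a2 a3) =
        (y * c - z * c ^ 2 * QA a2) • wd QA a1 a2 + (- z * c * (2 * QA a2)) • wd QA a1 a3 := by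
      have e1 : (T QA a1 (c • a2)).toLinearMap ∘ₗ (x • wd QA a1 a2 + y • wd QA a1 a3 +
        z • wd QA a2 a3) ∘ₗ ((T QA a1 (c • a2))⁻¹ : A ≃ₗ[F] A).toLinearMap =
          x • wd QA (T QA a1 (c • a2) a1) (T QA a1 (c • a2) a2) +
          y • wd QA (T QA a1 (c • a2) a1) (T QA a1 (c • a2) a3) +
          z • wd QA (T QA a1 (c • a2) a2) (T QA a1 (c • a2) a3) := by
        rw [← wd_conj hu, ← wd_conj hu, ← wd_conj hu]
        simp only [LinearMap.add_comp, LinearMap.comp_add, LinearMap.smul_comp,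
          LinearMap.comp_smul]
      rw [e1, T_HB_one ha, T_HB_two ha, T_HB_three ha]
      simp only [sub_eq_add_neg, ← neg_smul, wd_add_left, wd_add_right, wd_smul_left,
        wd_smul_right, wd_self, wd_swap a1 a2]
      module
    rwa [e] at h2
  have h1 := fun c => conj x y z c hs
  have h2 := fun c => conj (y * c - z * c ^ 2 * QA a2) (- z * c * (2 * QA a2)) 0 1
    (by rw [zero_smul, add_zero]; exact h1 c)
  have hne : z * (2 * QA a2) ≠ 0 := mul_ne_zero hz (mul_ne_zero h.two ha.q2)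
  have h3 := h2 (-(t * (z * (2 * QA a2))⁻¹))
  have e : (- z * (-(t * (z * (2 * QA a2))⁻¹)) * (2 * QA a2) * 1 - 0 * 1 ^ 2 * QA a2) = t := by
    have e' : (- z * (-(t * (z * (2 * QA a2))⁻¹)) * (2 * QA a2) * 1 - 0 * 1 ^ 2 * QA a2) =
      t * ((z * (2 * QA a2))⁻¹ * (z * (2 * QA a2))) := by ring
    rw [e', inv_mul_cancel₀ hne, mul_one]
  rw [e] at h3
  simpa using h3

theorem wd_expand (a1 a2 a3 : A) (x1 x2 x3 y1 y2 y3 : F) :
    wd QA (x1 • a1 + x2 • a2 + x3 • a3) (y1 • a1 + y2 • a2 + y3 • a3) =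
      (x1 * y2 - x2 * y1) • wd QA a1 a2 + (x1 * y3 - x3 * y1) • wd QA a1 a3 +
        (x3 * y2 - x2 * y3) • wd QA a3 a2 := by
  simp only [wd_add_left, wd_add_right, wd_smul_left, wd_smul_right, wd_self, wd_swap a1 a2,
    wd_swap a3 a2, wd_swap a1 a3]
  module

theorem RN_full_of_one (h : TD Q QA QB ten) {L : Subgroup (V ≃ₗ[F] V)} (hL : Ov Q ten L)
    (hG : Good Q) {b : B} {hb : QB b = 0} (ha : HB QA a1 a2 a3)
    (hs : ∀ t : F, t • wd QA a1 a2 ∈ RN h L b hb) (x y : A) : wd QA x y ∈ RN h L b hb := by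
  have h12 := hs
  have h32 : ∀ t : F, t • wd QA a3 a2 ∈ RN h L b hb := by
    intro t
    refine RN_step h hL hG ha.symm (x := 0) (y := 0) (z := 1) one_ne_zero ?_ t
    rw [zero_smul, zero_smul, zero_add, zero_add, wd_swap a1 a2, smul_neg]
    exact (RN h L b hb).neg_mem (h12 1)
  have h13 : ∀ t : F, t • wd QA a1 a3 ∈ RN h L b hb := by
    intro t
    have hδ : (2 * QA a2) ≠ 0 := mul_ne_zero h.two ha.q2
    have hu : T QA a1 ((1 : F) • a2) ∈ O QA := T_mem_O _ _
    have h1 := RN_conj h hL hG a1 ((1 : F) • a2) (h32 (t * (2 * QA a2)⁻¹))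
    have e1 : (T QA a1 ((1 : F) • a2)).toLinearMap ∘ₗ ((t * (2 * QA a2)⁻¹) • wd QA a3 a2) ∘ₗ
        ((T QA a1 ((1 : F) • a2))⁻¹ : A ≃ₗ[F] A).toLinearMap =
        (t * (2 * QA a2)⁻¹) • wd QA (T QA a1 ((1 : F) • a2) a3) (T QA a1 ((1 : F) • a2) a2) := by
      rw [← wd_conj hu]
      simp only [LinearMap.smul_comp, LinearMap.comp_smul]
    rw [e1, T_HB_two ha, T_HB_three ha] at h1
    have e2 : t • wd QA a1 a3 = (t * (2 * QA a2)⁻¹) • wd QA (a3 + (1 : F) • a2 -
        ((1 : F) ^ 2 * QA a2) • a1) (a2 - ((1 : F) * (2 * QA a2)) • a1) -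
        (t * (2 * QA a2)⁻¹) • wd QA a3 a2 -
        ((t * (2 * QA a2)⁻¹) * (QA a2)) • wd QA a1 a2 := by
      simp only [sub_eq_add_neg, ← neg_smul, wd_add_left, wd_add_right, wd_smul_left,
        wd_smul_right, wd_self, wd_swap a1 a2, wd_swap a1 a3]
      match_scalars
      · have e' : t = t * ((2 * QA a2)⁻¹ * (2 * QA a2)) := by
          rw [inv_mul_cancel₀ hδ, mul_one]
        linear_combination e'
      · ring
      · ring
    rw [e2]
    exact (RN h L b hb).sub_mem ((RN h L b hb).sub_mem h1 (h32 _)) (h12 _)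
  rw [ha.span x, ha.span y, wd_expand]
  exact (RN h L b hb).add_mem ((RN h L b hb).add_mem (h12 _) (h13 _)) (h32 _)

end Cfsg.Agent.H922.Ten
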