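import Mathlib
import Cfsg.Agent.H922.TenRoot

/-!
Tensor decompositions `V = A ⊗ B`, `dim A = dim B = 3`: a group containing the decomposable part of
`E Q` and one element of `Z(R(A ⊗ b))` is the whole of `E Q` (second part).
-/

set_option autoImplicit false
set_option linter.unusedSectionVars false

namespace Cfsg.Agent.H922.Ten

open QuadraticMap Cfsg.Agent.LieClassical.OrthCore Cfsg.Agent.LieClassical.OrthTrans
  Cfsg.Agent.LieClassical.OrthSimple Cfsg.Agent.ClassicalGeometry.OrthAutBasic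
  Cfsg.Agent.H887.SiegelMethod

variable {F V A B : Type*} [Field F] [AddCommGroup V] [Module F V] [AddCommGroup A] [Module F A]
  [AddCommGroup B] [Module F B] {Q : QuadraticForm F V} {QA : QuadraticForm F A}
  {QB : QuadraticForm F B} {ten : A →ₗ[F] B →ₗ[F] V}

variable {a1 a2 a3 : A} {b1 b2 b3 : B}

theorem HB.ext (hb : HB QB b1 b2 b3) {W : Type*} [AddCommGroup W] [Module F W] {f g : B →ₗ[F] W}
    (h1 : f b1 = g b1) (h2 : f b2 = g b2) (h3 : f b3 = g b3) : f = g := by
  ext y
  rw [hb.span y]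
  simp only [map_add, map_smul, h1, h2, h3]

/-- Norm in coordinates. -/
theorem HB.Q_eq (hb : HB QB b1 b2 b3) (x y z : F) :
    QB (x • b1 + y • b2 + z • b3) = x * z + y ^ 2 * QB b2 := by
  rw [Q_add, Q_add, QuadraticMap.map_smul, QuadraticMap.map_smul, QuadraticMap.map_smul,
    polar_smul_left, polar_smul_right, polar_add_left, polar_smul_left, polar_smul_left,
    polar_smul_right, polar_smul_right, hb.p12, hb.p13, hb.p23, hb.hyp.left, hb.hyp.right]
  simp only [smul_eq_mul]
  ring

/-- All singular vectors are obtained from `b1` by Siegel elements and scalars. -/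
theorem HB.sing_induction (hb : HB QB b1 b2 b3) {P : B → Prop} (h1 : P b1)
    (hT : ∀ b x w, QB b = 0 → P b → P (T QB x w b)) (hs : ∀ (b : B) (c : F), c ≠ 0 → P b → P (c • b))
    (b' : B) (hb' : QB b' = 0) (h0 : b' ≠ 0) : P b' := by
  have hgen : ∀ b' : B, QB b' = 0 → b' ≠ 0 → polar QB b3 b' ≠ 0 → P b' := by
    intro b' hb' h0 hy
    have e := hb.span b'
    set y1 := polar QB b3 b' with hy1
    set y2 := (2 * QB b2)⁻¹ * polar QB b2 b' with hy2
    set y3 := polar QB b1 b' with hy3
    have hq : y1 * y3 + y2 ^ 2 * QB b2 = 0 := by rw [← hb.Q_eq, ← e, hb']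
    have h2 : b' = y1 • T QB b3 ((y2 * y1⁻¹) • b2) b1 := by
      rw [T_HB_three hb.symm]
      rw [e]
      have e3 : y3 = - (y1 * ((y2 * y1⁻¹) ^ 2 * QB b2)) := by
        field_simp
        linear_combination hq
      rw [e3]
      match_scalars
      · ring
      · field_simp
      · ring
    rw [h2]
    exact hs _ _ hy (hT _ _ _ hb.hyp.left h1)
  by_cases hy : polar QB b3 b' = 0
  · -- `b'` is a multiple of `b3`
    have e := hb.span b'
    rw [hy, zero_smul, zero_add] at e
    set y2 := (2 * QB b2)⁻¹ * polar QB b2 b' with hy2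
    set y3 := polar QB b1 b' with hy3
    have hq : (0 : F) * y3 + y2 ^ 2 * QB b2 = 0 := by
      rw [← hb.Q_eq, zero_smul, zero_add, ← e, hb']
    have hy20 : y2 = 0 := by
      rw [zero_mul, zero_add] at hq
      have := (mul_eq_zero.1 hq).resolve_right hb.q2
      exact pow_eq_zero_iff (two_ne_zero) |>.1 this
    rw [hy20, zero_smul, zero_add] at e
    have hy30 : y3 ≠ 0 := by
      intro h
      rw [h, zero_smul] at e
      exact h0 e
    rw [e]
    refine hs _ _ hy30 ?_
    -- `b'' = T b1 b2 b3`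
    have hb'' : P (T QB b1 ((1 : F) • b2) b3) := by
      refine hgen _ ?_ ?_ ?_
      · rw [mem_O.1 (T_mem_O _ _)]
        exact hb.hyp.right
      · intro h
        exact hb.hyp.right_ne ((LinearEquiv.map_eq_zero_iff _).1 h)
      · rw [T_HB_three hb, polar_sub_right, polar_add_right, polar_smul_right, polar_smul_right,
          hb.p33, hb.p32, hb.p31]
        simp only [one_pow, one_mul, smul_eq_mul, mul_one, mul_zero, add_zero, zero_sub, ne_eq,
          neg_eq_zero]
        exact hb.q2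
    have h5 := hT _ b1 ((-1 : F) • b2) (by
      rw [mem_O.1 (T_mem_O _ _)]
      exact hb.hyp.right) hb''
    have e5 : T QB b1 ((-1 : F) • b2) (T QB b1 ((1 : F) • b2) b3) = b3 := by
      have := T_mul (Q := QB) hb.hyp.left (w := (-1 : F) • b2) (w' := (1 : F) • b2)
        (by rw [polar_smul_right, hb.p12, smul_zero])
        (by rw [polar_smul_right, hb.p12, smul_zero])
      rw [← LinearEquiv.mul_apply, this, ← add_smul, neg_add_cancel, zero_smul, T_zero_right]
      rfl
    rwa [e5] at h5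
  · exact hgen b' hb' h0 hy

theorem TD.Q_ten_zero (h : TD Q QA QB ten) (a : A) {b : B} (hb : QB b = 0) : Q (ten a b) = 0 := by
  rw [h.Q_ten, hb, mul_zero]

theorem TD.T_ten (h : TD Q QA QB ten) (x y : A) {b : B} (hb : QB b = 0) (v : V) :
    T Q (ten x b) (ten y b) v = v + ten (wd QA x y (h.pb b v)) b := by
  rw [T_apply_root (h.Q_ten_zero x hb) (h.Q_ten_zero y hb)
    (by rw [h.form, polar_self_of_sing hb, mul_zero]), wd_apply, ← h.polar_pb', ← h.polar_pb',
    map_sub, map_smul, map_smul, LinearMap.sub_apply, LinearMap.smul_apply, LinearMap.smul_apply]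
  abel

theorem TD.T_mem_iff (h : TD Q QA QB ten) {L : Subgroup (V ≃ₗ[F] V)} (x y : A) {b : B}
    (hb : QB b = 0) : T Q (ten x b) (ten y b) ∈ L ↔ wd QA x y ∈ RN h L b hb := by
  constructor
  · intro hT
    exact ⟨_, hT, fun v => h.T_ten x y hb v⟩
  · rintro ⟨g, hg, hgv⟩
    have : T Q (ten x b) (ten y b) = g := by
      ext v
      rw [h.T_ten x y hb, hgv]
    rwa [this]

/-- `b` is full: all Siegel elements of the totally singular space `A ⊗ b` are in `L`. -/
def Full (Q : QuadraticForm F V) (ten : A →ₗ[F] B →ₗ[F] V) (L : Subgroup (V ≃ₗ[F] V)) (b : B) :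
    Prop := ∀ x y : A, T Q (ten x b) (ten y b) ∈ L

theorem Full.smul {L : Subgroup (V ≃ₗ[F] V)} {b : B} (hf : Full Q ten L b) (c : F) :
    Full Q ten L (c • b) := by
  intro x y
  have e1 : ten x (c • b) = ten (c • x) b := by simp
  have e2 : ten y (c • b) = ten (c • y) b := by simp
  rw [e1, e2]
  exact hf _ _

theorem Full.map (h : TD Q QA QB ten) {L : Subgroup (V ≃ₗ[F] V)} (hL : Ov Q ten L) (hG : Good Q)
    {b : B} (hf : Full Q ten L b) (x w : B) : Full Q ten L (T QB x w b) := by
  intro y z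
  have hu : h.tm 1 (T QB x w) ∈ L := hL.tB h hG x w
  have h1 := L.mul_mem (L.mul_mem hu (hf y z)) (L.inv_mem hu)
  rw [T_conj (hL.leO hu), h.tm_ten, h.tm_ten] at h1
  exact h1

theorem full_of_full (h : TD Q QA QB ten) {L : Subgroup (V ≃ₗ[F] V)} (hL : Ov Q ten L)
    (hG : Good Q) (hb : HB QB b1 b2 b3) (hf : Full Q ten L b1) (b : B) (hb' : QB b = 0) :
    Full Q ten L b := by
  by_cases h0 : b = 0
  · intro x y
    rw [h0, map_zero, T_zero_left]
    exact L.one_mem
  · exact hb.sing_induction (P := Full Q ten L) hf (fun b x w _ hb => hb.map h hL hG x w)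
      (fun b c _ hb => hb.smul c) b hb' h0

/-- An element fixing `A ⊗ b1` and `A ⊗ b2` pointwise. -/
theorem TD.central_form (h : TD Q QA QB ten) (hb : HB QB b1 b2 b3) {g : V ≃ₗ[F] V} (hg : g ∈ O Q)
    (h1 : ∀ x, g (ten x b1) = ten x b1) (h2 : ∀ x, g (ten x b2) = ten x b2) :
    ∃ s : A →ₗ[F] A, (∀ x, polar QA (s x) x = 0) ∧ ∀ v, g v = v + ten (s (h.pb b1 v)) b1 := by
  let s : A →ₗ[F] A := h.pb b3 ∘ₗ (g.toLinearMap - LinearMap.id) ∘ₗ ten.flip b3
  have hs : ∀ x, s x = h.pb b3 (g (ten x b3) - ten x b3) := fun x => rfl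
  have hg3 : ∀ x, g (ten x b3) = ten x b3 + ten (s x) b1 := by
    intro x
    have e1 : h.pb b1 (g (ten x b3) - ten x b3) = 0 := by
      apply h.nA
      intro y
      rw [h.polar_pb, polar_sub_left]
      have : polar Q (g (ten x b3)) (ten y b1) = polar Q (ten x b3) (ten y b1) := by
        conv_lhs => rw [← h1 y]
        rw [polar_map hg]
      rw [this, sub_self]
    have e2 : h.pb b2 (g (ten x b3) - ten x b3) = 0 := by
      apply h.nA
      intro y
      rw [h.polar_pb, polar_sub_left]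
      have : polar Q (g (ten x b3)) (ten y b2) = polar Q (ten x b3) (ten y b2) := by
        conv_lhs => rw [← h2 y]
        rw [polar_map hg]
      rw [this, sub_self]
    have e3 := h.decomp hb (g (ten x b3) - ten x b3)
    rw [e1, e2, smul_zero, map_zero, LinearMap.zero_apply, LinearMap.zero_apply, add_zero,
      add_zero, ← hs] at e3
    rw [← e3]
    abel
  refine ⟨s, fun x => ?_, ?_⟩
  · have e1 : Q (g (ten x b3)) = 0 := by rw [hg, h.Q_ten, hb.hyp.right, mul_zero]
    rw [hg3, Q_add, h.Q_ten, h.Q_ten, h.form, hb.hyp.right, hb.hyp.left, hb.p31, mul_zero,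
      mul_zero, zero_add, zero_add, mul_one, polar_comm] at e1
    exact e1
  · intro v
    have e : g.toLinearMap = LinearMap.id + (ten.flip b1) ∘ₗ s ∘ₗ h.pb b1 := by
      refine h.ext fun a b => ?_
      have e2 : ten a b = ten (polar QB b3 b • a) b1 + ten (((2 * QB b2)⁻¹ * polar QB b2 b) • a) b2 +
          ten (polar QB b1 b • a) b3 := by
        conv_lhs => rw [hb.span b]
        simp only [map_add, map_smul, LinearMap.smul_apply]
      simp only [LinearMap.add_apply, LinearMap.comp_apply, LinearMap.id_apply,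
        LinearMap.flip_apply, LinearEquiv.coe_coe]
      rw [h.pb_ten]
      conv_lhs => rw [e2, map_add, map_add, h1, h2, hg3]
      conv_rhs => rw [e2]
      abel
    have := LinearMap.congr_fun e v
    simpa using this

/-- Coordinates of skew operators. -/
theorem HB.skew_coord (h2 : (2 : F) ≠ 0) (ha : HB QA a1 a2 a3) {s : A →ₗ[F] A}
    (hs : ∀ x, polar QA (s x) x = 0) :
    s = ((2 * QA a2)⁻¹ * polar QA a2 (s a3)) • wd QA a1 a2 +
      (polar QA a1 (s a3)) • wd QA a1 a3 +
      (-((2 * QA a2)⁻¹ * polar QA a2 (s a1))) • wd QA a2 a3 := by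
  have hsk : ∀ x y, polar QA (s x) y = - polar QA (s y) x := by
    intro x y
    have h1 := hs (x + y)
    rw [map_add, polar_add_left, polar_add_right, polar_add_right, hs, hs, zero_add,
      add_zero] at h1
    linear_combination h1
  have hδ : (2 * QA a2) ≠ 0 := mul_ne_zero h2 ha.q2
  refine ha.ext ?_ ?_ ?_
  · conv_lhs => rw [ha.span (s a1)]
    simp only [LinearMap.add_apply, LinearMap.smul_apply, wd_apply, ha.p11, ha.p21, ha.p31]
    have e1 : polar QA a1 (s a1) = 0 := by rw [polar_comm]; exact hs a1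
    have e2 : polar QA a3 (s a1) = - polar QA a1 (s a3) := by
      rw [polar_comm, hsk, polar_comm]
    rw [e1, e2]
    module
  · conv_lhs => rw [ha.span (s a2)]
    simp only [LinearMap.add_apply, LinearMap.smul_apply, wd_apply, ha.p12, ha.p22, ha.p32]
    have e1 : polar QA a2 (s a2) = 0 := by rw [polar_comm]; exact hs a2
    have e2 : polar QA a3 (s a2) = - polar QA a2 (s a3) := by
      rw [polar_comm, hsk, polar_comm]
    have e3 : polar QA a1 (s a2) = - polar QA a2 (s a1) := by
      rw [polar_comm, hsk, polar_comm]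
    rw [e1, e2, e3]
    match_scalars
    · have : (1 : F) = (2 * QA a2)⁻¹ * (2 * QA a2) := (inv_mul_cancel₀ hδ).symm
      linear_combination (-polar QA a2 (s a3)) * this
    · ring
    · have : (1 : F) = (2 * QA a2)⁻¹ * (2 * QA a2) := (inv_mul_cancel₀ hδ).symm
      linear_combination (-polar QA a2 (s a1)) * this
  · conv_lhs => rw [ha.span (s a3)]
    simp only [LinearMap.add_apply, LinearMap.smul_apply, wd_apply, ha.p13, ha.p23, ha.p33]
    have e1 : polar QA a3 (s a3) = 0 := by rw [polar_comm]; exact hs a3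
    rw [e1]
    module

/-- A non-trivial central element gives a full `b`. -/
theorem full_of_central (h : TD Q QA QB ten) {L : Subgroup (V ≃ₗ[F] V)} (hL : Ov Q ten L)
    (hG : Good Q) (ha : HB QA a1 a2 a3) (hb : HB QB b1 b2 b3) {g : V ≃ₗ[F] V} (hg : g ∈ L)
    (h1 : ∀ x, g (ten x b1) = ten x b1) (h2 : ∀ x, g (ten x b2) = ten x b2) (hg1 : g ≠ 1) :
    Full Q ten L b1 := by
  obtain ⟨s, hs, hgs⟩ := h.central_form hb (hL.leO hg) h1 h2
  have hb1 := hb.hyp.left
  have hsR : s ∈ RN h L b1 hb1 := ⟨g, hg, hgs⟩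
  have hs0 : s ≠ 0 := by
    rintro rfl
    apply hg1
    ext v
    rw [hgs]
    simp
  have e := ha.skew_coord h.two hs
  set x := (2 * QA a2)⁻¹ * polar QA a2 (s a3) with hx
  set y := polar QA a1 (s a3) with hy
  set z := -((2 * QA a2)⁻¹ * polar QA a2 (s a1)) with hz
  suffices hall : ∀ x y, wd QA x y ∈ RN h L b1 hb1 from
    fun x y => (h.T_mem_iff x y hb1).2 (hall x y)
  rw [e] at hsR
  by_cases hz0 : z = 0
  · by_cases hx0 : x = 0
    · have hy0 : y ≠ 0 := by
        intro hy0
        rw [hx0, hy0, hz0, zero_smul, zero_smul, zero_smul, zero_add, zero_add] at e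
        exact hs0 e
      rw [hx0, hz0, zero_smul, zero_smul, zero_add, add_zero] at hsR
      refine RN_full_of_one h hL hG ha fun t => ?_
      have h3 := RN_conj h hL hG a1 ((t * y⁻¹) • a2) hsR
      have hu : T QA a1 ((t * y⁻¹) • a2) ∈ O QA := T_mem_O _ _
      have e1 : (T QA a1 ((t * y⁻¹) • a2)).toLinearMap ∘ₗ (y • wd QA a1 a3) ∘ₗ
          ((T QA a1 ((t * y⁻¹) • a2))⁻¹ : A ≃ₗ[F] A).toLinearMap =
          y • wd QA a1 a3 + t • wd QA a1 a2 := by
        have e2 : (T QA a1 ((t * y⁻¹) • a2)).toLinearMap ∘ₗ (y • wd QA a1 a3) ∘ₗ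
          ((T QA a1 ((t * y⁻¹) • a2))⁻¹ : A ≃ₗ[F] A).toLinearMap =
          y • wd QA (T QA a1 ((t * y⁻¹) • a2) a1) (T QA a1 ((t * y⁻¹) • a2) a3) := by
          rw [← wd_conj hu]
          simp only [LinearMap.smul_comp, LinearMap.comp_smul]
        rw [e2, T_HB_one ha, T_HB_three ha]
        simp only [sub_eq_add_neg, ← neg_smul, wd_add_right, wd_smul_right, wd_self]
        match_scalars
        · ring
        · field_simp
      rw [e1] at h3
      have h4 := (RN h L b1 hb1).sub_mem h3 hsR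
      rwa [add_sub_cancel_left] at h4
    · intro u v
      have h3 : ∀ t : F, t • wd QA a3 a2 ∈ RN h L b1 hb1 := by
        intro t
        refine RN_step h hL hG ha.symm (x := -z) (y := -y) (z := -x) (neg_ne_zero.2 hx0) ?_ t
        have e1 : (-z) • wd QA a3 a2 + (-y) • wd QA a3 a1 + (-x) • wd QA a2 a1 =
            x • wd QA a1 a2 + y • wd QA a1 a3 + z • wd QA a2 a3 := by
          rw [wd_swap a2 a3, wd_swap a1 a3, wd_swap a1 a2]
          module
        rw [e1]
        exact hsR
      exact RN_full_of_one h hL hG ha.symm h3 u v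
  · exact RN_full_of_one h hL hG ha fun t => RN_step h hL hG ha hz0 hsR t

/-! ### full implies everything -/

theorem E_le_of_full_ten (h : TD Q QA QB ten) {L : Subgroup (V ≃ₗ[F] V)} (hL : Ov Q ten L)
    (hG : Good Q) (ha : HB QA a1 a2 a3) (hb : HB QB b1 b2 b3) (hf : Full Q ten L b1) :
    E Q ≤ L := by
  have hLO := hL.leO
  have hfull : ∀ b, QB b = 0 → Full Q ten L b := fun b hb' => full_of_full h hL hG hb hf b hb'
  -- membership in `Ts`
  have hTs : ∀ (x y : A) (b : B), QB b = 0 → ten y b ∈ Ts Q L (ten x b) := by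
    intro x y b hb'
    refine ⟨by rw [h.form, polar_self_of_sing hb', mul_zero], fun c => ?_⟩
    have : c • ten y b = ten (c • y) b := by simp
    rw [this]
    exact hfull b hb' x (c • y)
  -- (3b)
  have h3b : ∀ (α x y : A) (b b' : B), QB b = 0 → QB b' = 0 → polar QB b' b ≠ 0 →
      polar QA x α = 0 → polar QA y α = 0 → QA x ≠ 0 → polar QA x y = 0 →
      ten y b' ∈ Ts Q L (ten α b) := by
    intro α x y b b' hb hb' hbb hx hy hqx hxy
    have hroot : T Q (ten x b') (ten y b') ∈ L := hfull b' hb' x y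
    have hfix : T Q (ten x b') (ten y b') (ten α b) = ten α b := by
      rw [h.T_ten x y hb', h.pb_ten, map_smul, wd_apply, hx, hy]
      simp
    have h1 := root_mem_Ts hLO (h.Q_ten_zero x hb') (h.Q_ten_zero y hb')
      (by rw [h.form, polar_self_of_sing hb', mul_zero]) hroot hfix (hTs α x b hb)
    rw [h.form, h.form, polar_self', polar_comm QA y x, hxy, zero_mul, zero_smul, sub_zero] at h1
    have hne : 2 * QA x * polar QB b' b ≠ 0 := mul_ne_zero (mul_ne_zero h.two hqx) hbb
    have h2 := (Ts Q L (ten α b)).smul_mem (2 * QA x * polar QB b' b)⁻¹ h1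
    rwa [smul_smul, inv_mul_cancel₀ hne, one_smul] at h2
  -- an orthogonal basis `α = a2`, `γ = a1 + a3`, `δ = a1 - a3` of `A`
  have hγ : QA (a1 + a3) ≠ 0 := by
    rw [Q_add, ha.hyp.left, ha.hyp.right, ha.p13]
    simp
  have hδ : QA (a1 - a3) ≠ 0 := by
    rw [sub_eq_add_neg, Q_add, ha.hyp.left, QuadraticMap.map_neg, ha.hyp.right, polar_neg_right,
      ha.p13]
    simp
  have hγδ : polar QA (a1 + a3) (a1 - a3) = 0 := by
    rw [polar_sub_right, polar_add_left, polar_add_left, ha.p11, ha.p13, ha.p31, ha.p33]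
    ring
  have hδγ : polar QA (a1 - a3) (a1 + a3) = 0 := by rw [polar_comm]; exact hγδ
  have hγα : polar QA (a1 + a3) a2 = 0 := by rw [polar_add_left, ha.p12, ha.p32, add_zero]
  have hδα : polar QA (a1 - a3) a2 = 0 := by rw [polar_sub_left, ha.p12, ha.p32, sub_zero]
  have hαγ : polar QA a2 (a1 + a3) = 0 := by rw [polar_comm]; exact hγα
  have hαδ : polar QA a2 (a1 - a3) = 0 := by rw [polar_comm]; exact hδα
  -- every vector of `B` is a sum of singular vectors not orthogonal to a given singular one, and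
  -- of that vector
  have hB : ∀ {c1 c2 c3 : B}, HB QB c1 c2 c3 → ∀ (S : Submodule F V) (y : A),
      (∀ c, QB c = 0 → polar QB c c1 ≠ 0 → ten y c ∈ S) → ten y c1 ∈ S → ∀ c, ten y c ∈ S := by
    intro c1 c2 c3 hc S y hS h1 c
    have h3 : ten y c3 ∈ S := hS c3 hc.hyp.right (by rw [hc.p31]; exact one_ne_zero)
    have h2 : ten y c2 ∈ S := by
      have hs := hS (T QB c1 ((1 : F) • c2) c3) (by
        rw [mem_O.1 (T_mem_O _ _)]
        exact hc.hyp.right) (by
        rw [T_HB_three hc, polar_sub_left, polar_add_left, polar_smul_left, polar_smul_left,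
          hc.p31, hc.p21, hc.p11]
        simp)
      rw [T_HB_three hc] at hs
      have e : ten y c2 = ten y (c3 + (1 : F) • c2 - ((1 : F) ^ 2 * QB c2) • c1) - ten y c3 +
          ((1 : F) ^ 2 * QB c2) • ten y c1 := by
        rw [map_sub, map_add, map_smul, map_smul, one_smul]
        abel
      rw [e]
      exact S.add_mem (S.sub_mem hs h3) (S.smul_mem _ h1)
    rw [hc.span c, map_add, map_add, map_smul, map_smul, map_smul]
    exact S.add_mem (S.add_mem (S.smul_mem _ h1) (S.smul_mem _ h2)) (S.smul_mem _ h3)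
  -- for an orthogonal basis `α, γ, δ` and a singular `c1`, `Ts (ten α c1) = (ten α c1)^⊥`
  have key : ∀ {α γ δ : A}, QA α ≠ 0 → QA γ ≠ 0 → QA δ ≠ 0 → polar QA γ α = 0 →
      polar QA δ α = 0 → polar QA γ δ = 0 → (∀ x : A, ∃ r s t : F, x = r • α + s • γ + t • δ) →
      ∀ {c1 c2 c3 : B}, HB QB c1 c2 c3 → ∀ v, polar Q (ten α c1) v = 0 → v ∈ Ts Q L (ten α c1) := by
    intro α γ δ hα hγ hδ hγα hδα hγδ hspan c1 c2 c3 hc
    have hδγ : polar QA δ γ = 0 := by rw [polar_comm]; exact hγδ
    have hαγ : polar QA α γ = 0 := by rw [polar_comm]; exact hγα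
    have hG1 : ∀ c, ten γ c ∈ Ts Q L (ten α c1) := by
      refine hB hc _ γ (fun c hc' hcc => ?_) (hTs α γ c1 hc.hyp.left)
      exact h3b α δ γ c1 c hc.hyp.left hc' hcc hδα hγα hδ hδγ
    have hG2 : ∀ c, ten δ c ∈ Ts Q L (ten α c1) := by
      refine hB hc _ δ (fun c hc' hcc => ?_) (hTs α δ c1 hc.hyp.left)
      exact h3b α γ δ c1 c hc.hyp.left hc' hcc hγα hδα hγ hγδ
    -- the same for `γ`
    have hG3 : ∀ c, ten α c ∈ Ts Q L (ten γ c1) := by
      refine hB hc _ α (fun c hc' hcc => ?_) (hTs γ α c1 hc.hyp.left)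
      exact h3b γ δ α c1 c hc.hyp.left hc' hcc hδγ hαγ hδ hδα
    have hG4 : ∀ w, polar QB c1 w = 0 → ten α w ∈ Ts Q L (ten α c1) := by
      intro w hw
      have hTL : T Q (ten γ c1) (ten α w) ∈ L := Ts_mem (hG3 w)
      have hsing : Q (ten γ c1) = 0 := h.Q_ten_zero γ hc.hyp.left
      have hperp : polar Q (ten γ c1) (ten α w) = 0 := by rw [h.form, hγα, zero_mul]
      have hfix : T Q (ten γ c1) (ten α w) (ten α c1) = ten α c1 := by
        rw [T_apply hsing hperp, h.form, h.form, hγα, polar_comm QB w c1, hw]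
        simp
      have h1 := fix_mem_Ts hTL (hLO hTL) hfix (hG1 c3)
      rw [T_apply hsing hperp, h.form, h.form, hαγ, hc.p13, polar_self'] at h1
      have h2 := (Ts Q L (ten α c1)).sub_mem h1 (hG1 c3)
      have h3 := (Ts Q L (ten α c1)).add_mem h2
        ((Ts Q L (ten α c1)).smul_mem (Q (ten α w) * (2 * QA γ * 1)) (hG1 c1))
      have h4 := (Ts Q L (ten α c1)).smul_mem (2 * QA γ)⁻¹ h3
      have e : (2 * QA γ)⁻¹ • (ten γ c3 + (2 * QA γ * 1) • ten α w - (0 * polar QB w c3) • ten γ c1 -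
          (Q (ten α w) * (2 * QA γ * 1)) • ten γ c1 - ten γ c3 +
          (Q (ten α w) * (2 * QA γ * 1)) • ten γ c1) = ten α w := by
        have hne : 2 * QA γ ≠ 0 := mul_ne_zero h.two hγ
        have : ten α w = ((2 * QA γ)⁻¹ * (2 * QA γ)) • ten α w := by
          rw [inv_mul_cancel₀ hne, one_smul]
        conv_rhs => rw [this]
        module
      rwa [e] at h4
    intro v hv
    -- decompose `v`
    have hdec : ∀ v : V, ∃ x y z : B, v = ten α x + ten γ y + ten δ z := by
      intro v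
      have e := h.decomp hc v
      obtain ⟨r1, s1, t1, e1⟩ := hspan (h.pb c3 v)
      obtain ⟨r2, s2, t2, e2⟩ := hspan ((2 * QB c2)⁻¹ • h.pb c2 v)
      obtain ⟨r3, s3, t3, e3⟩ := hspan (h.pb c1 v)
      refine ⟨r1 • c1 + r2 • c2 + r3 • c3, s1 • c1 + s2 • c2 + s3 • c3,
        t1 • c1 + t2 • c2 + t3 • c3, ?_⟩
      rw [e, e1, e2, e3]
      simp only [map_add, map_smul, LinearMap.add_apply, LinearMap.smul_apply]
      abel
    obtain ⟨x, y, z, rfl⟩ := hdec v
    rw [polar_add_right, polar_add_right, h.form, h.form, h.form, hαγ, polar_comm QA α δ, hδα,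
      zero_mul, zero_mul, add_zero, add_zero, polar_self'] at hv
    have hx : polar QB c1 x = 0 := (mul_eq_zero.1 hv).resolve_left (mul_ne_zero h.two hα)
    exact (Ts Q L (ten α c1)).add_mem ((Ts Q L (ten α c1)).add_mem (hG4 x hx) (hG1 y)) (hG2 z)
  have hspan : ∀ x : A, ∃ r s t : F, x = r • a2 + s • (a1 + a3) + t • (a1 - a3) := by
    intro x
    refine ⟨(2 * QA a2)⁻¹ * polar QA a2 x, (2 : F)⁻¹ * (polar QA a3 x + polar QA a1 x),
      (2 : F)⁻¹ * (polar QA a3 x - polar QA a1 x), ?_⟩
    have h21 : (2 : F)⁻¹ * 2 = 1 := inv_mul_cancel₀ h.two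
    conv_lhs => rw [ha.span x]
    match_scalars
    · linear_combination (-polar QA a3 x) * h21
    · ring
    · linear_combination (-polar QA a1 x) * h21
  have h1 := key ha.q2 hγ hδ hγα hδα hγδ hspan hb
  have h3 := key ha.q2 hγ hδ hγα hδα hγδ hspan hb.symm
  refine E_le_of_Ts hG (e := ten a2 b1) (f := ten a2 b3) (h.Q_ten_zero _ hb.hyp.left)
    (h.Q_ten_zero _ hb.hyp.right) ?_ h1 h3
  rw [h.form, hb.p13, mul_one, polar_self']
  exact mul_ne_zero h.two ha.q2

/-- **Part I.** A proper overgroup contains no non-trivial element fixing `A ⊗ b^⊥` pointwise. -/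
theorem central_trivial (h : TD Q QA QB ten) {L : Subgroup (V ≃ₗ[F] V)} (hL : Ov Q ten L)
    (hG : Good Q) (hne : ¬ E Q ≤ L) (ha : HB QA a1 a2 a3) (hb : HB QB b1 b2 b3) {g : V ≃ₗ[F] V}
    (hg : g ∈ L) (h1 : ∀ x, g (ten x b1) = ten x b1) (h2 : ∀ x, g (ten x b2) = ten x b2) :
    g = 1 := by
  by_contra hg1
  exact hne (E_le_of_full_ten h hL hG ha hb (full_of_central h hL hG ha hb hg h1 h2 hg1))

end Cfsg.Agent.H922.Ten
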