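import Mathlib
import Cfsg.Agent.H922.TenRootTwo

/-!
Tensor decompositions `V = A ⊗ B`, `dim A = dim B = 3`: local analysis of a proper overgroup of the
decomposable part of `E Q` at the totally singular subspace `A ⊗ b`.
-/

set_option autoImplicit false
set_option linter.unusedSectionVars false

namespace Cfsg.Agent.H922.Ten

open QuadraticMap Cfsg.Agent.LieClassical.OrthCore Cfsg.Agent.LieClassical.OrthTrans
  Cfsg.Agent.LieClassical.OrthSimple Cfsg.Agent.ClassicalGeometry.OrthAutBasic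
  Cfsg.Agent.H887.SiegelMethod

variable {F V A B : Type*} [Field F] [AddCommGroup V] [Module F V] [AddCommGroup A] [Module F A]
  [AddCommGroup B] [Module F B] {Q : QuadraticForm F V} {QA : QuadraticForm F A}
  {QB : QuadraticForm F B} {ten : A →ₗ[F] B →ₗ[F] V}

variable {a1 a2 a3 : A} {b1 b2 b3 : B}

/-- Elements of the unipotent radical of the stabiliser of `A ⊗ b1`, in coordinates. -/
structure RTy (ten : A →ₗ[F] B →ₗ[F] V) (b1 b2 b3 : B) (r : V ≃ₗ[F] V) (m n k : A →ₗ[F] A) :
    Prop where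
  one : ∀ x, r (ten x b1) = ten x b1
  two : ∀ x, r (ten x b2) = ten x b2 + ten (m x) b1
  three : ∀ x, r (ten x b3) = ten x b3 + ten (n x) b2 + ten (k x) b1

theorem exists_RTy (h : TD Q QA QB ten) (hb : HB QB b1 b2 b3) {r : V ≃ₗ[F] V} (hr : r ∈ O Q)
    (h1 : ∀ x, r (ten x b1) = ten x b1) (h2 : ∀ x, ∃ y, r (ten x b2) = ten x b2 + ten y b1) :
    ∃ m n k : A →ₗ[F] A, RTy ten b1 b2 b3 r m n k ∧
      ∀ x y, polar QA x (m y) + 2 * QB b2 * polar QA (n x) y = 0 := by
  let m : A →ₗ[F] A := h.pb b3 ∘ₗ (r.toLinearMap - LinearMap.id) ∘ₗ ten.flip b2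
  let n : A →ₗ[F] A := (2 * QB b2)⁻¹ • (h.pb b2 ∘ₗ (r.toLinearMap - LinearMap.id) ∘ₗ ten.flip b3)
  let k : A →ₗ[F] A := h.pb b3 ∘ₗ (r.toLinearMap - LinearMap.id) ∘ₗ ten.flip b3
  have hm : ∀ x, m x = h.pb b3 (r (ten x b2) - ten x b2) := fun x => rfl
  have hn : ∀ x, n x = (2 * QB b2)⁻¹ • h.pb b2 (r (ten x b3) - ten x b3) := fun x => rfl
  have hk : ∀ x, k x = h.pb b3 (r (ten x b3) - ten x b3) := fun x => rfl
  have hm2 : ∀ x, r (ten x b2) = ten x b2 + ten (m x) b1 := by
    intro x
    obtain ⟨y, hy⟩ := h2 x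
    rw [hm, hy, add_sub_cancel_left, h.pb_ten, hb.p31, one_smul]
  have h3 : ∀ x, r (ten x b3) = ten x b3 + ten (n x) b2 + ten (k x) b1 := by
    intro x
    have e1 : h.pb b1 (r (ten x b3) - ten x b3) = 0 := by
      apply h.nA
      intro y
      rw [h.polar_pb, polar_sub_left]
      have : polar Q (r (ten x b3)) (ten y b1) = polar Q (ten x b3) (ten y b1) := by
        conv_lhs => rw [← h1 y]
        rw [polar_map hr]
      rw [this, sub_self]
    have e := h.decomp hb (r (ten x b3) - ten x b3)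
    rw [e1, ← hn, ← hk, map_zero, LinearMap.zero_apply, add_zero] at e
    have : r (ten x b3) = ten x b3 + (r (ten x b3) - ten x b3) := by abel
    rw [this, e]
    abel
  refine ⟨m, n, k, ⟨h1, hm2, h3⟩, fun x y => ?_⟩
  have e := polar_map hr (ten x b3) (ten y b2)
  rw [h3, hm2] at e
  simp only [polar_add_left, polar_add_right, h.form, hb.p11, hb.p12, hb.p21, hb.p31, hb.p32,
    polar_self', mul_zero, mul_one, add_zero, zero_add] at e
  linear_combination e

/-- Two elements of `L` of this type commute, if `L` has no central elements. -/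
theorem RTy.comm (h : TD Q QA QB ten) (hb : HB QB b1 b2 b3) {L : Subgroup (V ≃ₗ[F] V)}
    (hZ : ∀ g ∈ L, (∀ x, g (ten x b1) = ten x b1) → (∀ x, g (ten x b2) = ten x b2) → g = 1)
    {r r' : V ≃ₗ[F] V} (hr : r ∈ L) (hr' : r' ∈ L) {m n k m' n' k' : A →ₗ[F] A}
    (hR : RTy ten b1 b2 b3 r m n k) (hR' : RTy ten b1 b2 b3 r' m' n' k') (x : A) :
    m (n' x) = m' (n x) := by
  have e1 : ∀ x, (r * r') (ten x b1) = ten x b1 := fun x => by
    rw [LinearEquiv.mul_apply, hR'.one, hR.one]
  have e2 : ∀ x, (r' * r) (ten x b1) = ten x b1 := fun x => by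
    rw [LinearEquiv.mul_apply, hR.one, hR'.one]
  have e3 : ∀ x, (r * r') (ten x b2) = ten x b2 + ten (m x) b1 + ten (m' x) b1 := fun x => by
    rw [LinearEquiv.mul_apply, hR'.two, map_add, hR.one, hR.two]
  have e4 : ∀ x, (r' * r) (ten x b2) = ten x b2 + ten (m x) b1 + ten (m' x) b1 := fun x => by
    rw [LinearEquiv.mul_apply, hR.two, map_add, hR'.one, hR'.two]
    abel
  set g := (r * r') * (r' * r)⁻¹ with hg
  have hgL : g ∈ L := L.mul_mem (L.mul_mem hr hr') (L.inv_mem (L.mul_mem hr' hr))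
  have hgg : ∀ v, g ((r' * r) v) = (r * r') v := by
    intro v
    show (r * r') ((r' * r)⁻¹ ((r' * r) v)) = _
    have : (r' * r)⁻¹ ((r' * r) v) = v := LinearEquiv.symm_apply_apply (r' * r) v
    rw [this]
  have hg1 : ∀ x, g (ten x b1) = ten x b1 := by
    intro x
    have := hgg (ten x b1)
    rwa [e1, e2] at this
  have hg2 : ∀ x, g (ten x b2) = ten x b2 := by
    intro x
    have := hgg (ten x b2)
    rw [e3, e4, map_add, map_add, hg1, hg1] at this
    exact add_right_cancel (add_right_cancel this)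
  have hg1' := hZ g hgL hg1 hg2
  have hc : r * r' = r' * r := mul_inv_eq_one.1 hg1'
  have e5 := DFunLike.congr_fun hc (ten x b3)
  rw [LinearEquiv.mul_apply, LinearEquiv.mul_apply, hR.three, hR'.three] at e5
  simp only [map_add] at e5
  rw [hR.one, hR.two, hR.three, hR'.one, hR'.two, hR'.three] at e5
  have e6 : ten x b3 + ten (n x) b2 + ten (n' x) b2 + ten (k x) b1 + ten (k' x) b1 +
      ten (m (n' x)) b1 = ten x b3 + ten (n x) b2 + ten (n' x) b2 + ten (k x) b1 + ten (k' x) b1 +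
      ten (m' (n x)) b1 := by
    have e7 : ten x b3 + ten (n x) b2 + ten (n' x) b2 + ten (k x) b1 + ten (k' x) b1 +
      ten (m (n' x)) b1 = ten x b3 + ten (n x) b2 + ten (k x) b1 + (ten (n' x) b2 +
        ten (m (n' x)) b1) + ten (k' x) b1 := by abel
    rw [e7, e5]
    abel
  exact h.ten_inj hb.hyp.left_ne (add_left_cancel e6)

/-- The element `1 ⊗ T b1 (c b2)`. -/
theorem RTy_u (h : TD Q QA QB ten) (hb : HB QB b1 b2 b3) (c : F) :
    RTy ten b1 b2 b3 (h.tm 1 (T QB b1 (c • b2))) ((-(c * (2 * QB b2))) • LinearMap.id)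
      (c • LinearMap.id) ((-(c ^ 2 * QB b2)) • LinearMap.id) where
  one x := by rw [h.tm_ten, T_HB_one hb]; rfl
  two x := by
    have e1 : (1 : A ≃ₗ[F] A) x = x := rfl
    rw [h.tm_ten, T_HB_two hb, e1]
    simp only [map_sub, map_smul, map_neg, LinearMap.neg_apply, LinearMap.smul_apply,
      LinearMap.id_apply, sub_eq_add_neg, neg_smul, map_add]
  three x := by
    have e1 : (1 : A ≃ₗ[F] A) x = x := rfl
    rw [h.tm_ten, T_HB_three hb, e1]
    simp only [map_sub, map_add, map_smul, map_neg, LinearMap.neg_apply, LinearMap.smul_apply,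
      LinearMap.id_apply, sub_eq_add_neg, neg_smul]

theorem RTy.conj (h : TD Q QA QB ten) {r : V ≃ₗ[F] V} {m n k : A →ₗ[F] A}
    (hR : RTy ten b1 b2 b3 r m n k) (α : A ≃ₗ[F] A) :
    RTy ten b1 b2 b3 (h.tm α 1 * r * (h.tm α 1)⁻¹) (α.toLinearMap ∘ₗ m ∘ₗ (α⁻¹ : A ≃ₗ[F] A).toLinearMap)
      (α.toLinearMap ∘ₗ n ∘ₗ (α⁻¹ : A ≃ₗ[F] A).toLinearMap)
      (α.toLinearMap ∘ₗ k ∘ₗ (α⁻¹ : A ≃ₗ[F] A).toLinearMap) := by
  have e : ∀ x, α ((α⁻¹ : A ≃ₗ[F] A) x) = x := fun x => LinearEquiv.apply_symm_apply α x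
  have e1 : ∀ (x : A) (b : B), (h.tm α 1)⁻¹ (ten x b) = ten ((α⁻¹ : A ≃ₗ[F] A) x) b := by
    intro x b
    rw [h.tm_inv, h.tm_ten]
    simp
  refine ⟨fun x => ?_, fun x => ?_, fun x => ?_⟩
  · rw [LinearEquiv.mul_apply, LinearEquiv.mul_apply, e1, hR.one, h.tm_ten, e]
    rfl
  · rw [LinearEquiv.mul_apply, LinearEquiv.mul_apply, e1, hR.two, map_add, h.tm_ten, h.tm_ten, e]
    rfl
  · rw [LinearEquiv.mul_apply, LinearEquiv.mul_apply, e1, hR.three, map_add, map_add, h.tm_ten,
      h.tm_ten, h.tm_ten, e]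
    rfl

/-- A self-adjoint operator commuting with its conjugates under the Siegel elements is a scalar. -/
theorem scalar_of_comm [Finite F] (hF : 5 ≤ Nat.card F) (h2 : (2 : F) ≠ 0)
    (ha : HB QA a1 a2 a3) (hd : Module.finrank F A = 3) (hn : Nondeg QA) {m : A →ₗ[F] A}
    (hm : ∀ x y, polar QA (m x) y = polar QA x (m y))
    (hc : ∀ a w x, m (T QA a w (m ((T QA a w)⁻¹ x))) = T QA a w (m ((T QA a w)⁻¹ (m x)))) :
    ∃ c : F, ∀ x, m x = c • x := by
  -- vanishing on singular vectors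
  have key : ∀ a, QA a = 0 → polar QA (m a) a = 0 := by
    intro a hq
    by_cases h0 : a = 0
    · rw [h0, map_zero, polar_zero_left]
    obtain ⟨w, a', hb⟩ := exists_HB h2 hn hd hq h0
    set κ := QA w with hκ
    set G11 := polar QA (m a) a with hG11
    set G12 := polar QA (m a) w with hG12
    set G13 := polar QA (m a) a' with hG13
    set G22 := polar QA (m w) w with hG22
    set G23 := polar QA (m w) a' with hG23
    set G33 := polar QA (m a') a' with hG33
    have hG21 : polar QA (m w) a = G12 := by rw [hm, polar_comm]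
    have hG31 : polar QA (m a') a = G13 := by rw [hm, polar_comm]
    have hG32 : polar QA (m a') w = G23 := by rw [hm, polar_comm]
    have hma : m a = G13 • a + ((2 * κ)⁻¹ * G12) • w + G11 • a' := by
      have := hb.span (m a)
      rw [polar_comm QA a' (m a), polar_comm QA w (m a), polar_comm QA a (m a)] at this
      exact this
    set p1 := G13 with hp1
    set p2 := (2 * κ)⁻¹ * G12 with hp2
    set p3 := G11 with hp3
    have hpoly : ∀ c : F,
        (p1 * G13 + p2 * G23 + p3 * G33 - (p1 * G13 + p2 * G23 + p3 * G33)) +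
        (-(p2 * (2 * κ) * G13) + p3 * G23 + p1 * G12 + p2 * G22 - p2 * (2 * κ) * G13 + p3 * G23 +
          p3 * G23) * c +
        (-(p3 * κ * G13) + p1 * κ * G11 + p2 * κ * G12 + p2 * (2 * κ) * G12 + p3 * κ * G13 -
          p3 * G22 + p3 * κ * G13) * c ^ 2 +
        (p2 * (2 * κ) * κ * G11 - p3 * κ * G12 - p3 * κ * G12) * c ^ 3 +
        (-(p3 * κ * κ * G11)) * c ^ 4 = 0 := by
      intro c
      have e := hc a (c • w) a
      have hT1 : T QA a (c • w) a = a := T_HB_one hb c
      have hTi : (T QA a (c • w))⁻¹ = T QA a ((-c) • w) := by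
        rw [T_inv hq (by rw [polar_smul_right, hb.p12, smul_zero]), neg_smul]
      have hO : T QA a (c • w) ∈ O QA := T_mem_O _ _
      have e2 : polar QA (m (T QA a (c • w) (m ((T QA a (c • w))⁻¹ a)))) a' =
          polar QA (T QA a (c • w) (m a)) (m a') := by
        rw [hTi, T_HB_one hb, hm]
      have e3 : polar QA (T QA a (c • w) (m ((T QA a (c • w))⁻¹ (m a)))) a' =
          polar QA ((T QA a (c • w))⁻¹ (m a)) (m ((T QA a (c • w))⁻¹ a')) := by
        rw [← hm]
        have e4 : a' = T QA a (c • w) ((T QA a (c • w))⁻¹ a') :=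
          (LinearEquiv.apply_symm_apply (T QA a (c • w)) a').symm
        conv_lhs => rw [e4]
        rw [polar_map hO]
      have e5 : polar QA (T QA a (c • w) (m a)) (m a') =
          polar QA ((T QA a (c • w))⁻¹ (m a)) (m ((T QA a (c • w))⁻¹ a')) := by
        rw [← e2, ← e3, e]
      rw [hTi, hma] at e5
      simp only [map_add, map_smul, map_sub, T_HB_one hb, T_HB_two hb, T_HB_three hb,
        polar_add_left, polar_add_right, polar_sub_left, polar_sub_right, polar_smul_left,
        polar_smul_right, smul_eq_mul] at e5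
      have q1 : polar QA a (m a) = G11 := by rw [polar_comm]
      have q2 : polar QA w (m a) = G12 := by rw [polar_comm]
      have q3 : polar QA a' (m a) = G13 := by rw [polar_comm]
      have q4 : polar QA a (m w) = G12 := by rw [polar_comm, hG21]
      have q5 : polar QA w (m w) = G22 := by rw [polar_comm]
      have q6 : polar QA a' (m w) = G23 := by rw [polar_comm]
      have q7 : polar QA a (m a') = G13 := by rw [polar_comm, hG31]
      have q8 : polar QA w (m a') = G23 := by rw [polar_comm, hG32]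
      have q9 : polar QA a' (m a') = G33 := by rw [polar_comm]
      rw [q1, q2, q3, q4, q5, q6, q7, q8, q9] at e5
      linear_combination e5
    have h4 := (coeff_zero hF hpoly).2.2.2.2
    have hκ0 : κ ≠ 0 := hb.q2
    have : κ * κ * (G11 * G11) = 0 := by linear_combination -h4
    have := (mul_eq_zero.1 this).resolve_left (mul_ne_zero hκ0 hκ0)
    exact mul_self_eq_zero.1 this
  -- conclusion
  set κ := QA a2 with hκ
  have hκ0 : κ ≠ 0 := ha.q2
  set G11 := polar QA (m a1) a1 with hG11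
  set G12 := polar QA (m a1) a2 with hG12
  set G13 := polar QA (m a1) a3 with hG13
  set G22 := polar QA (m a2) a2 with hG22
  set G23 := polar QA (m a2) a3 with hG23
  set G33 := polar QA (m a3) a3 with hG33
  have hG21 : polar QA (m a2) a1 = G12 := by rw [hm, polar_comm]
  have hG31 : polar QA (m a3) a1 = G13 := by rw [hm, polar_comm]
  have hG32 : polar QA (m a3) a2 = G23 := by rw [hm, polar_comm]
  have hpoly : ∀ c : F, G33 + (2 * G23) * c + (G22 - 2 * κ * G13) * c ^ 2 + (-(2 * κ * G12)) * c ^ 3 +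
      (κ ^ 2 * G11) * c ^ 4 = 0 := by
    intro c
    have e := key (T QA a1 (c • a2) a3) (by rw [mem_O.1 (T_mem_O _ _)]; exact ha.hyp.right)
    rw [T_HB_three ha] at e
    simp only [map_add, map_smul, map_sub,
        polar_add_left, polar_add_right, polar_sub_left, polar_sub_right, polar_smul_left,
        polar_smul_right, smul_eq_mul, hG21, hG31, hG32] at e
    linear_combination e
  obtain ⟨k0, k1, k2, k3, k4⟩ := coeff_zero hF hpoly
  have g11 : G11 = 0 := (mul_eq_zero.1 k4).resolve_left (pow_ne_zero 2 hκ0)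
  have g12 : G12 = 0 := by
    have := neg_eq_zero.1 k3
    exact (mul_eq_zero.1 this).resolve_left (mul_ne_zero h2 hκ0)
  have g23 : G23 = 0 := (mul_eq_zero.1 k1).resolve_left h2
  have g22 : G22 = 2 * κ * G13 := sub_eq_zero.1 k2
  refine ⟨G13, ?_⟩
  have e : m = G13 • LinearMap.id := by
    refine ha.ext ?_ ?_ ?_
    · rw [ha.span (m a1), polar_comm QA a3, polar_comm QA a2, polar_comm QA a1, ← hG11, ← hG12,
        ← hG13, g11, g12]
      simp
    · rw [ha.span (m a2), polar_comm QA a3, polar_comm QA a2, polar_comm QA a1, ← hG23, ← hG22,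
        hG21, g23, g12, g22]
      simp only [zero_smul, zero_add, add_zero, LinearMap.smul_apply, LinearMap.id_apply]
      rw [← mul_assoc, inv_mul_cancel₀ (mul_ne_zero h2 hκ0), one_mul]
    · rw [ha.span (m a3), polar_comm QA a3, polar_comm QA a2, polar_comm QA a1, ← hG33, hG32,
        hG31, g23, k0]
      simp
  intro x
  rw [e]
  rfl

/-- **(1b)** `L ∩ R(A ⊗ b1)` is the group of the elements `1 ⊗ T b1 (c b2)`. -/
theorem rad_eq [Finite F] (hF : 5 ≤ Nat.card F) (h : TD Q QA QB ten) {L : Subgroup (V ≃ₗ[F] V)}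
    (hL : Ov Q ten L) (hG : Good Q) (hne : ¬ E Q ≤ L) (ha : HB QA a1 a2 a3)
    (hd : Module.finrank F A = 3) (hb : HB QB b1 b2 b3) {r : V ≃ₗ[F] V}
    (hr : r ∈ L) (h1 : ∀ x, r (ten x b1) = ten x b1)
    (h2 : ∀ x, ∃ y, r (ten x b2) = ten x b2 + ten y b1) :
    ∃ c : F, r = h.tm 1 (T QB b1 (c • b2)) := by
  have hZ : ∀ g ∈ L, (∀ x, g (ten x b1) = ten x b1) → (∀ x, g (ten x b2) = ten x b2) → g = 1 :=
    fun g hg h1 h2 => central_trivial h hL hG hne ha hb hg h1 h2
  obtain ⟨m, n, k, hR, hrel⟩ := exists_RTy h hb (hL.leO hr) h1 h2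
  have hδ : (2 * QB b2) ≠ 0 := mul_ne_zero h.two hb.q2
  -- `m = -δ n`
  have hmn : ∀ x, m x = (-(2 * QB b2)) • n x := by
    intro x
    have := hR.comm h hb hZ hr (hL.tB h hG b1 ((1 : F) • b2)) (RTy_u h hb 1) x
    simpa using this
  have hnm : ∀ x, n x = (-(2 * QB b2)⁻¹) • m x := by
    intro x
    rw [hmn, smul_smul, neg_mul_neg, inv_mul_cancel₀ hδ, one_smul]
  have hsym : ∀ x y, polar QA (m x) y = polar QA x (m y) := by
    intro x y
    have := hrel x y
    rw [hmn x, polar_smul_left, smul_eq_mul]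
    linear_combination -this
  have hcomm : ∀ a w x, m (T QA a w (m ((T QA a w)⁻¹ x))) = T QA a w (m ((T QA a w)⁻¹ (m x))) := by
    intro a w x
    have hα : h.tm (T QA a w) 1 ∈ L := hL.tA h hG a w
    have hr' := L.mul_mem (L.mul_mem hα hr) (L.inv_mem hα)
    have := hR.comm h hb hZ hr hr' (hR.conj h (T QA a w)) x
    simp only [LinearMap.comp_apply, LinearEquiv.coe_coe] at this
    rw [hnm x, hnm] at this
    simp only [map_smul] at this
    exact smul_right_injective A (neg_ne_zero.2 (inv_ne_zero hδ)) this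
  obtain ⟨μ, hμ⟩ := scalar_of_comm hF h.two ha hd h.nA hsym hcomm
  refine ⟨-(μ * (2 * QB b2)⁻¹), ?_⟩
  set c := -(μ * (2 * QB b2)⁻¹) with hc
  set u := h.tm 1 (T QB b1 (c • b2)) with hu
  have hUL : u ∈ L := hL.tB h hG b1 (c • b2)
  have hRu := RTy_u h hb c
  rw [← hu] at hRu
  have hg : r * u⁻¹ = 1 := by
    have hgg : ∀ v, (r * u⁻¹) (u v) = r v := by
      intro v
      show r (u⁻¹ (u v)) = _
      have : u⁻¹ (u v) = v := LinearEquiv.symm_apply_apply u v
      rw [this]
    have hg1 : ∀ x, (r * u⁻¹) (ten x b1) = ten x b1 := by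
      intro x
      have := hgg (ten x b1)
      rwa [hRu.one, hR.one] at this
    refine hZ _ (L.mul_mem hr (L.inv_mem hUL)) hg1 fun x => ?_
    have := hgg (ten x b2)
    rw [hRu.two, hR.two, map_add, hg1, hμ] at this
    have e : ((-(c * (2 * QB b2))) • (LinearMap.id : A →ₗ[F] A)) x = μ • x := by
      rw [LinearMap.smul_apply, LinearMap.id_apply, hc, neg_mul, neg_neg, mul_assoc,
        inv_mul_cancel₀ hδ, mul_one]
    rw [e] at this
    exact add_right_cancel this
  exact mul_inv_eq_one.1 hg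

end Cfsg.Agent.H922.Ten
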