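import Mathlib
import Cfsg.Agent.H922.TenFiveThree

/-!
Tensor decompositions `V = A ⊗ B`, `dim A = dim B = 3`: the decomposable isometries cover `O/E`;
every group strictly between the stabiliser in `E Q` and `E Q` is excluded.
-/

set_option autoImplicit false
set_option linter.unusedSectionVars false

namespace Cfsg.Agent.H922.Ten

open QuadraticMap Cfsg.Agent.LieClassical.OrthCore Cfsg.Agent.LieClassical.OrthTrans
  Cfsg.Agent.LieClassical.OrthSimple Cfsg.Agent.ClassicalGeometry.OrthAutBasic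
  Cfsg.Agent.H887.SiegelMethod

variable {F V A B : Type*} [Field F] [AddCommGroup V] [Module F V] [AddCommGroup A] [Module F A]
  [AddCommGroup B] [Module F B] {Q : QuadraticForm F V} {QA : QuadraticForm F A}
  {QB : QuadraticForm F B} {ten : A →ₗ[F] B →ₗ[F] V}

variable {a1 a2 a3 : A} {b1 b2 b3 : B}

/-- The isometries congruent modulo `E Q` to decomposable ones. -/
def DK (Q : QuadraticForm F V) (ten : A →ₗ[F] B →ₗ[F] V) : Subgroup (V ≃ₗ[F] V) where
  carrier := {g | g ∈ O Q ∧ ∃ k ∈ O Q, Dec ten k ∧ g * k⁻¹ ∈ E Q}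
  mul_mem' := by
    rintro g g' ⟨hg, k, hk, hd, he⟩ ⟨hg', k', hk', hd', he'⟩
    refine ⟨(O Q).mul_mem hg hg', k * k', (O Q).mul_mem hk hk', hd.mul hd', ?_⟩
    have e : g * g' * (k * k')⁻¹ = (g * (g' * k'⁻¹) * g⁻¹) * (g * k⁻¹) := by group
    rw [e]
    exact (E Q).mul_mem (conj_mem_E hg he') he
  one_mem' := ⟨(O Q).one_mem, 1, (O Q).one_mem, dec_one, by simp⟩
  inv_mem' := by
    rintro g ⟨hg, k, hk, hd, he⟩
    refine ⟨(O Q).inv_mem hg, k⁻¹, (O Q).inv_mem hk, hd.inv, ?_⟩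
    have e : g⁻¹ * k⁻¹⁻¹ = g⁻¹ * (g * k⁻¹)⁻¹ * g⁻¹⁻¹ := by group
    rw [e]
    exact conj_mem_E ((O Q).inv_mem hg) ((E Q).inv_mem he)

theorem E_le_DK : E Q ≤ DK Q ten := fun g hg =>
  ⟨E_le_O hg, 1, (O Q).one_mem, dec_one, by simpa using hg⟩

theorem dec_mem_DK {k : V ≃ₗ[F] V} (hk : k ∈ O Q) (hd : Dec ten k) : k ∈ DK Q ten :=
  ⟨hk, k, hk, hd, by simp⟩

theorem refl_sq_mem (hG : Good Q) {v v' : V} (hv : Q v ≠ 0) (hv' : Q v' ≠ 0) {c : F} (hc : c ≠ 0)
    (h : Q v = c ^ 2 * Q v') : refl Q v hv * refl Q v' hv' ∈ E Q := by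
  have e : Q (c • v') = Q v := by
    rw [QuadraticMap.map_smul, h, smul_eq_mul]
    ring
  have hcv : Q (c • v') ≠ 0 := by rw [e]; exact hv
  rw [← refl_smul hv' hc hcv]
  exact hG.refl_mul_refl_mem hcv hv e

/-- The reflections of the first factor. -/
theorem TD.tm_refl (h : TD Q QA QB ten) (hb : HB QB b1 b2 b3) {a : A} (ha : QA a ≠ 0)
    (h1 : Q (ten a (b1 + b3)) ≠ 0) (h2 : Q (ten a b2) ≠ 0) (h3 : Q (ten a (b1 - b3)) ≠ 0) :
    h.tm (refl QA a ha) 1 = refl Q _ h1 * refl Q _ h2 * refl Q _ h3 := by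
  have hδ : (2 * QB b2) ≠ 0 := mul_ne_zero h.two hb.q2
  have q1 : QB (b1 + b3) = 1 := by
    rw [Q_add, hb.hyp.left, hb.hyp.right, hb.p13]
    ring
  have q3 : QB (b1 - b3) = -1 := by
    rw [sub_eq_add_neg, ← neg_one_smul F b3, Q_add, QuadraticMap.map_smul, polar_smul_right,
      hb.hyp.left, hb.hyp.right, hb.p13]
    simp
  refine h.ext_equiv fun x y => ?_
  rw [h.tm_ten, LinearEquiv.mul_apply, LinearEquiv.mul_apply]
  simp only [refl_apply, polar_sub_right, polar_smul_right, h.form, h.Q_ten, q1, q3,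
    polar_add_left, polar_sub_left, polar_add_right, hb.p11, hb.p12, hb.p13, hb.p21, hb.p22,
    hb.p23, hb.p31, hb.p32, hb.p33, polar_self']
  have e1 : (1 : B ≃ₗ[F] B) y = polar QB b3 y • b1 + ((2 * QB b2)⁻¹ * polar QB b2 y) • b2 +
      polar QB b1 y • b3 := hb.span y
  rw [e1]
  have e2 : ten x y = ten x (polar QB b3 y • b1 + ((2 * QB b2)⁻¹ * polar QB b2 y) • b2 +
      polar QB b1 y • b3) := by rw [← hb.span y]
  rw [e2]
  have h22 : (2 : F) ≠ 0 := h.two
  have hb2 := hb.q2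
  simp only [map_add, map_sub, map_smul, LinearMap.sub_apply, LinearMap.smul_apply, smul_eq_mul]
  match_scalars
  all_goals (try field_simp)
  all_goals (try ring)

/-- In a finite field of odd order one of `x y`, `-x y` is a square times... -/
theorem sq_or [Finite F] (h1 : ¬ IsSquare (-1 : F)) {x y : F} (hx : x ≠ 0)
    (hy : y ≠ 0) : (∃ c : F, c ≠ 0 ∧ x = c ^ 2 * y) ∨ (∃ c : F, c ≠ 0 ∧ -x = c ^ 2 * y) := by
  classical
  have hFt : Fintype F := Fintype.ofFinite F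
  have key : ∀ z : F, z ≠ 0 → IsSquare (z * y) → ∃ c : F, c ≠ 0 ∧ z = c ^ 2 * y := by
    rintro z hz ⟨r, hr⟩
    refine ⟨r * y⁻¹, ?_, ?_⟩
    · intro h0
      have hr0 : r = 0 := (mul_eq_zero.1 h0).resolve_right (inv_ne_zero hy)
      rw [hr0, mul_zero] at hr
      exact mul_ne_zero hz hy hr
    · have : (r * y⁻¹) ^ 2 * y = (r * r) * y⁻¹ * (y⁻¹ * y) := by ring
      rw [this, inv_mul_cancel₀ hy, ← hr, mul_one, mul_assoc, mul_inv_cancel₀ hy, mul_one]
  by_cases hs : IsSquare (x * y)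
  · exact Or.inl (key x hx hs)
  · right
    apply key (-x) (neg_ne_zero.2 hx)
    have hxy : -x * y ≠ 0 := mul_ne_zero (neg_ne_zero.2 hx) hy
    rw [← quadraticChar_one_iff_isSquare hxy]
    have e : -x * y = (-1) * (x * y) := by ring
    rw [e, map_mul, quadraticChar_neg_one_iff_not_isSquare.2 h1,
      quadraticChar_neg_one_iff_not_isSquare.2 hs]
    norm_num

/-- All reflections are congruent to decomposable isometries. -/
theorem refl_mem_DK [Finite F] (hG : Good Q) (h : TD Q QA QB ten) (ha : HB QA a1 a2 a3)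
    (hb : HB QB b1 b2 b3) {v : V} (hv : Q v ≠ 0) : refl Q v hv ∈ DK Q ten := by
  have hgen : ∀ ν : F, ν ≠ 0 → ∃ (v1 v2 v3 : V) (h1 : Q v1 ≠ 0) (h2 : Q v2 ≠ 0) (h3 : Q v3 ≠ 0),
      Q v1 = 2 * ν ∧ Q v2 = 2 * ν * QB b2 ∧ Q v3 = -(2 * ν) ∧
      refl Q v1 h1 * refl Q v2 h2 = refl Q v2 h2 * refl Q v1 h1 ∧
      refl Q v2 h2 * refl Q v3 h3 = refl Q v3 h3 * refl Q v2 h2 ∧
      refl Q v1 h1 * refl Q v3 h3 = refl Q v3 h3 * refl Q v1 h1 ∧
      refl Q v1 h1 * refl Q v2 h2 * refl Q v3 h3 ∈ DK Q ten := by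
    intro ν hν
    have hQa : QA (a1 + ν • a3) = ν := by
      rw [Q_add, QuadraticMap.map_smul, polar_smul_right, ha.hyp.left, ha.hyp.right, ha.p13]
      simp
    have hQa0 : QA (a1 + ν • a3) ≠ 0 := by rw [hQa]; exact hν
    have q1 : QB (b1 + b3) = 1 := by
      rw [Q_add, hb.hyp.left, hb.hyp.right, hb.p13]
      ring
    have q3 : QB (b1 - b3) = -1 := by
      rw [sub_eq_add_neg, ← neg_one_smul F b3, Q_add, QuadraticMap.map_smul, polar_smul_right,
        hb.hyp.left, hb.hyp.right, hb.p13]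
      simp
    have e1 : Q (ten (a1 + ν • a3) (b1 + b3)) = 2 * ν := by rw [h.Q_ten, hQa, q1, mul_one]
    have e2 : Q (ten (a1 + ν • a3) b2) = 2 * ν * QB b2 := by rw [h.Q_ten, hQa]
    have e3 : Q (ten (a1 + ν • a3) (b1 - b3)) = -(2 * ν) := by rw [h.Q_ten, hQa, q3]; ring
    have f1 : Q (ten (a1 + ν • a3) (b1 + b3)) ≠ 0 := by rw [e1]; exact mul_ne_zero h.two hν
    have f2 : Q (ten (a1 + ν • a3) b2) ≠ 0 := by
      rw [e2]; exact mul_ne_zero (mul_ne_zero h.two hν) hb.q2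
    have f3 : Q (ten (a1 + ν • a3) (b1 - b3)) ≠ 0 := by
      rw [e3]; exact neg_ne_zero.2 (mul_ne_zero h.two hν)
    have o12 : polar QB (b1 + b3) b2 = 0 := by
      rw [polar_add_left, hb.p12, hb.p32, add_zero]
    have o23 : polar QB b2 (b1 - b3) = 0 := by
      rw [polar_sub_right, hb.p21, hb.p23, sub_zero]
    have o13 : polar QB (b1 + b3) (b1 - b3) = 0 := by
      rw [polar_add_left, polar_sub_right, polar_sub_right, hb.p11, hb.p13, hb.p31,
        hb.p33]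
      ring
    refine ⟨_, _, _, f1, f2, f3, e1, e2, e3, ?_, ?_, ?_, ?_⟩
    · apply refl_comm
      rw [h.form, o12, mul_zero]
    · apply refl_comm
      rw [h.form, o23, mul_zero]
    · apply refl_comm
      rw [h.form, o13, mul_zero]
    · rw [← h.tm_refl hb hQa0 f1 f2 f3]
      exact dec_mem_DK (h.tm_mem_O (refl_mem_O _) (Subgroup.one_mem _)) (h.dec_tm _ _)
  have hfin : ∀ {w : V} (hw : Q w ≠ 0), refl Q w hw ∈ DK Q ten → ∀ c : F, c ≠ 0 →
      Q w = c ^ 2 * Q v → refl Q v hv ∈ DK Q ten := by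
    intro w hw hwD c hc hwv
    have h1 := E_le_DK (ten := ten) (refl_sq_mem hG hw hv hc hwv)
    have e : refl Q v hv = (refl Q w hw)⁻¹ * (refl Q w hw * refl Q v hv) := by group
    rw [e]
    exact (DK Q ten).mul_mem ((DK Q ten).inv_mem hwD) h1
  have h2 := h.two
  by_cases hs : IsSquare (-1 : F)
  · obtain ⟨i, hi⟩ := hs
    have hi0 : i ≠ 0 := by
      rintro rfl
      rw [mul_zero] at hi
      exact one_ne_zero (neg_eq_zero.1 hi)
    obtain ⟨v1, v2, v3, f1, f2, f3, e1, e2, e3, c12, c23, c13, hD⟩ :=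
      hgen (Q v / (2 * QB b2)) (div_ne_zero hv (mul_ne_zero h.two hb.q2))
    have h13 : refl Q v3 f3 * refl Q v1 f1 ∈ DK Q ten := by
      refine E_le_DK (refl_sq_mem hG f3 f1 hi0 ?_)
      rw [e3, e1, pow_two, ← hi]
      ring
    refine hfin f2 ?_ 1 one_ne_zero ?_
    · have e : refl Q v2 f2 = (refl Q v1 f1 * refl Q v2 f2 * refl Q v3 f3) *
          (refl Q v3 f3 * refl Q v1 f1) := by
        calc refl Q v2 f2 = refl Q v2 f2 * (refl Q v1 f1 * refl Q v1 f1) := by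
              rw [refl_mul_self, mul_one]
          _ = refl Q v1 f1 * refl Q v2 f2 * refl Q v1 f1 := by rw [← mul_assoc, c12]
          _ = refl Q v1 f1 * refl Q v2 f2 * (refl Q v3 f3 * refl Q v3 f3) * refl Q v1 f1 := by
              rw [refl_mul_self f3, mul_one]
          _ = _ := by simp only [mul_assoc]
      rw [e]
      exact (DK Q ten).mul_mem hD h13
    · rw [e2]
      have := hb.q2
      field_simp
  · obtain ⟨v1, v2, v3, f1, f2, f3, e1, e2, e3, c12, c23, c13, hD⟩ :=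
      hgen (-Q v / (2 * QB b2)) (div_ne_zero (neg_ne_zero.2 hv) (mul_ne_zero h.two hb.q2))
    have e2' : Q v2 = - Q v := by
      rw [e2]
      have := hb.q2
      field_simp
    rcases sq_or hs f1 hv with ⟨c, hc, hcv⟩ | ⟨c, hc, hcv⟩
    · -- `v1 ~ v`, `v3 ~ v2`
      refine hfin f1 ?_ c hc hcv
      have h32 : refl Q v3 f3 * refl Q v2 f2 ∈ DK Q ten := by
        refine E_le_DK (refl_sq_mem hG f3 f2 hc ?_)
        rw [e3, e2', ← e1, hcv]
        ring
      have e : refl Q v1 f1 = (refl Q v1 f1 * refl Q v2 f2 * refl Q v3 f3) *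
          (refl Q v3 f3 * refl Q v2 f2) := by
        calc refl Q v1 f1 = refl Q v1 f1 * (refl Q v2 f2 * refl Q v2 f2) := by
              rw [refl_mul_self, mul_one]
          _ = refl Q v1 f1 * refl Q v2 f2 * (refl Q v3 f3 * refl Q v3 f3) * refl Q v2 f2 := by
              rw [refl_mul_self f3, mul_one, mul_assoc]
          _ = _ := by simp only [mul_assoc]
      rw [e]
      exact (DK Q ten).mul_mem hD h32
    · -- `v3 ~ v`, `v1 ~ v2`
      refine hfin f3 ?_ c hc (by rw [e3, ← e1, hcv])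
      have h12 : refl Q v1 f1 * refl Q v2 f2 ∈ DK Q ten := by
        refine E_le_DK (refl_sq_mem hG f1 f2 hc ?_)
        rw [e2', ← neg_neg (Q v1), hcv]
        ring
      have e : refl Q v3 f3 = (refl Q v1 f1 * refl Q v2 f2)⁻¹ *
          (refl Q v1 f1 * refl Q v2 f2 * refl Q v3 f3) := by group
      rw [e]
      exact (DK Q ten).mul_mem ((DK Q ten).inv_mem h12) hD

theorem DK_eq [Finite F] (hG : Good Q) (h : TD Q QA QB ten) (ha : HB QA a1 a2 a3)
    (hb : HB QB b1 b2 b3) {g : V ≃ₗ[F] V} (hg : g ∈ O Q) : g ∈ DK Q ten := by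
  have : FiniteDimensional F V := Module.finite_of_finrank_pos (by have := hG.dim; omega)
  rw [O_eq_closure hG.nondeg] at hg
  refine (Subgroup.closure_le _).2 ?_ hg
  rintro x (⟨v, hv, rfl⟩ | ⟨u, w, hu, hw, rfl⟩)
  · exact refl_mem_DK hG h ha hb hv
  · exact E_le_DK (siegel_mem_E hu hw)

/-- The swap can be chosen in `E Q`. -/
theorem exists_swap [Finite F] (hG : Good Q) (h : TD Q QA QB ten) (ha : HB QA a1 a2 a3)
    (hb : HB QB b1 b2 b3) {s : V ≃ₗ[F] V} (hs : s ∈ O Q) (hsw : Sw ten s) :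
    ∃ s0 ∈ E Q, Sw ten s0 := by
  obtain ⟨-, k, hk, hd, he⟩ := DK_eq hG h ha hb hs
  exact ⟨s * k⁻¹, he, hsw.mul_dec hd.inv⟩

/-- The standard swap for similar factors. -/
theorem TD.exists_sw (h : TD Q QA QB ten) {σ : B ≃ₗ[F] A} {μ : F} (hμ : μ ≠ 0)
    (hσ : ∀ b, QA (σ b) = μ * QB b) : ∃ s ∈ O Q, Sw ten s := by
  let φ : V →ₗ[F] V := h.tl ((ten ∘ₗ σ.toLinearMap).flip ∘ₗ σ.symm.toLinearMap)
  have hφ : ∀ a b, φ (ten a b) = ten (σ b) (σ.symm a) := by
    intro a b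
    show h.tl _ (ten a b) = _
    rw [h.tl_ten]
    rfl
  have hφφ : φ ∘ₗ φ = LinearMap.id := by
    refine h.ext fun a b => ?_
    rw [LinearMap.comp_apply, hφ, hφ, LinearMap.id_apply, LinearEquiv.apply_symm_apply,
      LinearEquiv.symm_apply_apply]
  let s : V ≃ₗ[F] V := LinearEquiv.ofLinearMap φ φ hφφ hφφ
  have hsa : ∀ a b, s (ten a b) = ten (σ b) (σ.symm a) := hφ
  refine ⟨s, ?_, σ, σ.symm, hsa⟩
  have hpA : ∀ b b', polar QA (σ b) (σ b') = μ * polar QB b b' := by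
    intro b b'
    simp only [polar, ← map_add, hσ]
    ring
  have h1 : (polarBilin Q).compl₁₂ s.toLinearMap s.toLinearMap = polarBilin Q := by
    refine h.ext₂ fun a b a' b' => ?_
    simp only [LinearMap.compl₁₂_apply, LinearEquiv.coe_coe, polarBilin_apply_apply]
    rw [hsa, hsa, h.form, h.form, hpA]
    have e : polar QA a a' = μ * polar QB (σ.symm a) (σ.symm a') := by
      rw [← hpA, LinearEquiv.apply_symm_apply, LinearEquiv.apply_symm_apply]
    rw [e]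
    ring
  intro v
  have h2 := LinearMap.congr_fun₂ h1 v v
  simp only [LinearMap.compl₁₂_apply, LinearEquiv.coe_coe, polarBilin_apply_apply] at h2
  rw [polar_self', polar_self'] at h2
  exact mul_left_cancel₀ h.two h2

/-- **Maximality**, abstract form. -/
theorem DS_of_lt [Finite F] [FiniteDimensional F A] [FiniteDimensional F B]
    (hF : 5 ≤ Nat.card F) (h : TD Q QA QB ten) {L : Subgroup (V ≃ₗ[F] V)}
    (hLE : L ≤ E Q) (hds : ∀ g ∈ E Q, DS ten g → g ∈ L) (hG : Good Q) (hne : ¬ E Q ≤ L)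
    (ha : HB QA a1 a2 a3)
    (hdA : Module.finrank F A = 3) (hdB : Module.finrank F B = 3) (hb : HB QB b1 b2 b3)
    {σ : B ≃ₗ[F] A} {μ : F} (hμ : μ ≠ 0)
    (hσ : ∀ b, QA (σ b) = μ * QB b) {g : V ≃ₗ[F] V} (hg : g ∈ L) :
    DS ten g := by
  obtain ⟨s, hs, hsw⟩ := h.exists_sw hμ hσ
  obtain ⟨s0, hs0, hsw0⟩ := exists_swap hG h ha hb hs hsw
  have hL : Ov Q ten L := ⟨hLE, fun g hg hd => hds g hg (Or.inl hd)⟩
  have hs0L : s0 ∈ L := hds s0 hs0 (Or.inr hsw0)
  have hFt : Fintype F := Fintype.ofFinite F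
  have hodd : Nat.card F % 2 = 1 := by
    rw [Nat.card_eq_fintype_card]
    refine FiniteField.odd_card_of_char_ne_two ?_
    intro hc
    apply h.two
    have := ringChar.spec F 2
    rw [hc] at this
    have h22 := (this.2 (dvd_refl 2))
    exact_mod_cast h22
  rcases (show Nat.card F = 5 ∨ 7 ≤ Nat.card F by omega) with h5 | h7
  · exact DS_of_five h5 h hL hG hne ha hdA hdB hb hs0L hsw0 hg
  · exact DS_of_seven h7 h hL hG hne ha hdA hdB hb hs0L hsw0 hg

end Cfsg.Agent.H922.Ten
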