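import Mathlib
import Cfsg.Agent.H922.TenSwap
import Cfsg.Agent.H922.OddTensorTwo
import Cfsg.Agent.H922.OddNot
import Cfsg.Agent.H887.OmegaBridge

/-!
Tensor squares of three-dimensional symmetric forms: the stabiliser in `Ω_9(q)`, `q ≥ 5` odd, is
maximal.
-/

set_option autoImplicit false
set_option linter.unusedSectionVars false

namespace Cfsg.Agent.H922.Ten

open QuadraticMap Cfsg.Agent.LieClassical.OrthCore Cfsg.Agent.LieClassical.OrthTrans
  Cfsg.Agent.LieClassical.OrthSimple Cfsg.Agent.ClassicalGeometry.OrthAutBasic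
  Cfsg.Agent.H887.SiegelMethod Cfsg.Agent.H887.OmegaBridge Cfsg Cfsg.Geo Cfsg.Agent.H919
open scoped MatrixGroups Matrix

variable {ι : Type} [Fintype ι] [DecidableEq ι] {F : Type*} [Field F]

theorem pv_apply (a b : Fin 3 → F) (i : Fin 2 → Fin 3) : pureVec ![a, b] i = a (i 0) * b (i 1) := by
  simp [pureVec, Fin.prod_univ_two]

/-- The tensor map. -/
noncomputable def pten (e : ι ≃ (Fin 2 → Fin 3)) (P : GL ι F) :
    (Fin 3 → F) →ₗ[F] (Fin 3 → F) →ₗ[F] (ι → F) :=
  LinearMap.mk₂ F (fun a b => (P : Matrix ι ι F) *ᵥ (pureVec ![a, b] ∘ e))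
    (fun a a' b => by
      rw [← Matrix.mulVec_add]
      congr 1
      funext i
      simp only [Function.comp_apply, Pi.add_apply, pv_apply]
      ring)
    (fun c a b => by
      rw [← Matrix.mulVec_smul]
      congr 1
      funext i
      simp only [Function.comp_apply, Pi.smul_apply, pv_apply, smul_eq_mul]
      ring)
    (fun a b b' => by
      rw [← Matrix.mulVec_add]
      congr 1
      funext i
      simp only [Function.comp_apply, Pi.add_apply, pv_apply]
      ring)
    (fun c a b => by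
      rw [← Matrix.mulVec_smul]
      congr 1
      funext i
      simp only [Function.comp_apply, Pi.smul_apply, pv_apply, smul_eq_mul]
      ring)

theorem pten_apply (e : ι ≃ (Fin 2 → Fin 3)) (P : GL ι F) (a b : Fin 3 → F) :
    pten e P a b = (P : Matrix ι ι F) *ᵥ (pureVec ![a, b] ∘ e) := rfl

theorem pten_single (e : ι ≃ (Fin 2 → Fin 3)) (P : GL ι F) (i : ι) :
    pten e P (Pi.single (e i 0) 1) (Pi.single (e i 1) 1) = (P : Matrix ι ι F) *ᵥ (Pi.single i 1) := by
  rw [pten_apply]
  congr 1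
  funext j
  rw [Function.comp_apply, pv_apply]
  by_cases hij : j = i
  · subst hij
    simp
  · rw [Pi.single_eq_of_ne hij]
    have hne : e j ≠ e i := fun h => hij (e.injective h)
    by_cases h0 : e j 0 = e i 0
    · have h1 : e j 1 ≠ e i 1 := by
        intro h1
        apply hne
        funext k
        fin_cases k
        · exact h0
        · exact h1
      rw [Pi.single_eq_of_ne h1, mul_zero]
    · rw [Pi.single_eq_of_ne h0, zero_mul]

theorem pten_bij (e : ι ≃ (Fin 2 → Fin 3)) (P : GL ι F) :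
    Function.Bijective (TensorProduct.lift (pten e P)) := by
  have hsurj : Function.Surjective (TensorProduct.lift (pten e P)) := by
    rw [← LinearMap.range_eq_top, eq_top_iff]
    intro v _
    have hv : v = (P : Matrix ι ι F) *ᵥ (((P⁻¹ : GL ι F) : Matrix ι ι F) *ᵥ v) := by
      rw [Matrix.mulVec_mulVec, ← Units.val_mul, mul_inv_cancel, Units.val_one, Matrix.one_mulVec]
    set w := ((P⁻¹ : GL ι F) : Matrix ι ι F) *ᵥ v with hw
    have hw' : w = ∑ i, w i • (Pi.single i 1 : ι → F) := pi_eq_sum_univ' w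
    rw [hv, hw', Matrix.mulVec_sum]
    refine Submodule.sum_mem _ fun i _ => ?_
    rw [Matrix.mulVec_smul, ← pten_single e P i]
    refine Submodule.smul_mem _ _ ⟨TensorProduct.tmul F _ _, TensorProduct.lift.tmul _ _⟩
  have hd : Module.finrank F (TensorProduct F (Fin 3 → F) (Fin 3 → F)) =
      Module.finrank F (ι → F) := by
    rw [Module.finrank_tensorProduct, Module.finrank_fintype_fun_eq_card,
      Module.finrank_fintype_fun_eq_card, Fintype.card_congr e]
    simp
  exact ⟨(LinearMap.injective_iff_surjective_of_finrank_eq_finrank hd).2 hsurj, hsurj⟩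

/-- The quadratic form of a symmetric bilinear form. -/
noncomputable def hqf {f : (Fin 3 → F) → (Fin 3 → F) → F} (hf : IsBilinearForm f) :
    QuadraticForm F (Fin 3 → F) :=
  LinearMap.BilinMap.toQuadraticMap ((2 : F)⁻¹ • toBilin hf)

theorem polar_hqf (h2 : (2 : F) ≠ 0) {f : (Fin 3 → F) → (Fin 3 → F) → F}
    (hf : IsSymmetricForm f) (x y : Fin 3 → F) : polar (hqf hf.bilinear) x y = f x y := by
  rw [hqf, LinearMap.BilinMap.polar_toQuadraticMap, LinearMap.smul_apply, LinearMap.smul_apply,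
    LinearMap.smul_apply, LinearMap.smul_apply, toBilin_apply, toBilin_apply, hf.symm y x,
    ← add_smul, ← two_mul, mul_inv_cancel₀ h2, one_smul]

/-- The tensor decomposition. -/
theorem pten_TD (h2 : (2 : F) ≠ 0) {Q : (ι → F) → F} (hQ : IsNondegenerateQuadraticForm Q)
    {f₁ : (Fin 3 → F) → (Fin 3 → F) → F} (hf₁ : IsSymmetricForm f₁)
    {e : ι ≃ (Fin 2 → Fin 3)} {P : GL ι F} {c : F} (hc : c ≠ 0)
    (hP : ∀ x y : (Fin 2 → Fin 3) → F,
      polar Q ((P : Matrix ι ι F) *ᵥ (x ∘ e)) ((P : Matrix ι ι F) *ᵥ (y ∘ e)) =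
      c * (x ⬝ᵥ (pureMat (fun _ => gramMatrix f₁) *ᵥ y))) :
    TD (qf Q hQ) (hqf hf₁.bilinear) (c • hqf hf₁.bilinear) (pten e P) := by
  have hnd : Nondeg (hqf hf₁.bilinear) := by
    intro x hx
    by_contra h0
    obtain ⟨y, hy⟩ := (hf₁.nondegenerate x h0).2
    apply hy
    rw [← polar_hqf h2 hf₁]
    exact hx y
  have hcp : ∀ x y, polar (⇑(c • hqf hf₁.bilinear)) x y = c * polar (hqf hf₁.bilinear) x y := by
    intro x y
    simp only [polar, QuadraticMap.smul_apply, smul_eq_mul]
    ring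
  refine ⟨h2, ?_, pten_bij e P, hnd, ?_⟩
  · intro a b a' b'
    rw [hcp, polar_hqf h2 hf₁, polar_hqf h2 hf₁, pten_apply, pten_apply, polar_qf, hP,
      pureMat_mulVec, dot_pureVec, Fin.prod_univ_two, eq_gram hf₁.bilinear a a',
      eq_gram hf₁.bilinear b b']
    simp only [Matrix.cons_val_zero, Matrix.cons_val_one]
    ring
  · intro x hx
    apply hnd
    intro y
    have := hx y
    rw [hcp] at this
    exact (mul_eq_zero.1 this).resolve_left hc

theorem finTwo_perm (σ : Equiv.Perm (Fin 2)) : σ = 1 ∨ σ = Equiv.swap 0 1 := by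
  revert σ
  decide

/-- The tensor-wreath subgroup. -/
theorem mem_wreath_iff (e : ι ≃ (Fin 2 → Fin 3)) (P : GL ι F) (g : GL ι F) :
    g ∈ tensorWreathSubgroup 3 2 e P ↔ DS (pten e P) (le ι F g) := by
  have hval : ∀ (σ : Equiv.Perm (Fin 2)) (x : Fin 2 → GL (Fin 3) F) (w : Fin 2 → (Fin 3 → F)),
      ((frameGL e P (pureGL x * facPerm F 3 σ) : GL ι F) : Matrix ι ι F) *ᵥ
        ((P : Matrix ι ι F) *ᵥ (pureVec w ∘ e)) =
      (P : Matrix ι ι F) *ᵥ
        (pureVec (fun i => (x i : Matrix (Fin 3) (Fin 3) F) *ᵥ w (σ⁻¹ i)) ∘ e) := by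
    intro σ x w
    rw [frameGL_mulVec, Units.val_mul, ← Matrix.mulVec_mulVec, facPerm_mulVec, pureGL_val,
      pureMat_mulVec]
  have hone : ∀ (x : Fin 2 → GL (Fin 3) F) (a b : Fin 3 → F),
      le ι F (frameGL e P (pureGL x * facPerm F 3 1)) (pten e P a b) =
        pten e P (le (Fin 3) F (x 0) a) (le (Fin 3) F (x 1) b) := by
    intro x a b
    rw [le_apply, pten_apply, hval, pten_apply]
    congr 3
    funext i
    fin_cases i <;> simp [le_apply]
  have htwo : ∀ (x : Fin 2 → GL (Fin 3) F) (a b : Fin 3 → F),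
      le ι F (frameGL e P (pureGL x * facPerm F 3 (Equiv.swap 0 1))) (pten e P a b) =
        pten e P (le (Fin 3) F (x 0) b) (le (Fin 3) F (x 1) a) := by
    intro x a b
    rw [le_apply, pten_apply, hval, pten_apply]
    congr 3
    funext i
    fin_cases i <;> simp [le_apply]
  have hext : ∀ g g' : GL ι F, (∀ a b, le ι F g (pten e P a b) = le ι F g' (pten e P a b)) →
      g = g' := by
    intro g g' h
    apply (le ι F).injective
    have h1 : (le ι F g).toLinearMap ∘ₗ TensorProduct.lift (pten e P) =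
        (le ι F g').toLinearMap ∘ₗ TensorProduct.lift (pten e P) := by
      apply TensorProduct.ext'
      intro a b
      simpa using h a b
    ext1 v
    obtain ⟨t, rfl⟩ := (pten_bij e P).2 v
    exact LinearMap.congr_fun h1 t
  constructor
  · intro hg
    obtain ⟨g', hg', rfl⟩ := (mem_tensorWreathSubgroup_iff e P g).1 hg
    obtain ⟨σ, x, rfl⟩ := exists_normal_form hg'
    rcases finTwo_perm σ with rfl | rfl
    · exact Or.inl ⟨_, _, hone x⟩
    · exact Or.inr ⟨_, _, htwo x⟩
  · rintro (⟨α, β, h⟩ | ⟨σ, τ, h⟩)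
    · rw [mem_tensorWreathSubgroup_iff]
      refine ⟨pureGL ![(le (Fin 3) F).symm α, (le (Fin 3) F).symm β] * facPerm F 3 1, ?_, ?_⟩
      · refine Subgroup.mul_mem _ (Subgroup.subset_closure (Or.inl ?_))
          (Subgroup.subset_closure (Or.inr ?_))
        · exact ⟨_, fun x y => by rw [pureGL_val, pureMat_apply]⟩
        · exact ⟨1, fun x y => by rw [facPerm_val]⟩
      · apply hext
        intro a b
        rw [hone, h]
        simp
    · rw [mem_tensorWreathSubgroup_iff]
      refine ⟨pureGL ![(le (Fin 3) F).symm σ, (le (Fin 3) F).symm τ] *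
        facPerm F 3 (Equiv.swap 0 1), ?_, ?_⟩
      · refine Subgroup.mul_mem _ (Subgroup.subset_closure (Or.inl ?_))
          (Subgroup.subset_closure (Or.inr ?_))
        · exact ⟨_, fun x y => by rw [pureGL_val, pureMat_apply]⟩
        · exact ⟨_, fun x y => by rw [facPerm_val]⟩
      · apply hext
        intro a b
        rw [htwo, h]
        simp

/-- **Tensor squares of three-dimensional forms.** -/
theorem tensor_square_maximal [Finite F] (h2 : (2 : F) ≠ 0) (hF : 5 ≤ Nat.card F)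
    {Q : (ι → F) → F} (hQ : IsNondegenerateQuadraticForm Q)
    {f₁ : (Fin 3 → F) → (Fin 3 → F) → F} (hf₁ : IsSymmetricForm f₁)
    {e : ι ≃ (Fin 2 → Fin 3)} {P : GL ι F}
    (hP : IsTensorPowerFormStructure id (polar Q) f₁ e P) :
    IsMaximalIn (omegaGL Q) (tensorWreathSubgroup 3 2 e P ⊓ omegaGL Q) := by
  have hcard : Fintype.card ι = 9 := by
    rw [Fintype.card_congr e]
    simp
  have hG : Good (qf Q hQ) := (big_qf Q hQ (by omega)).good
  have hnot := omegaGL_not_le_tensorWreath h2 hQ (by omega) (by decide) le_rfl le_rfl hf₁ hP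
  obtain ⟨c, hc, hcf⟩ := hP
  have hcf' := tensorPower_eq hcf rfl
  have hT := pten_TD h2 hQ hf₁ hc hcf'
  have hd3 : Module.finrank F (Fin 3 → F) = 3 := by
    rw [Module.finrank_fintype_fun_eq_card, Fintype.card_fin]
  -- hyperbolic bases
  obtain ⟨a1, -, ha10, ha1⟩ := exists_sing_of_three_le (Q := hqf hf₁.bilinear)
    (⊤ : Submodule F (Fin 3 → F)) (by rw [finrank_top, hd3])
  obtain ⟨a2, a3, ha⟩ := exists_HB h2 hT.nA hd3 ha1 ha10
  obtain ⟨b1, -, hb10, hb1⟩ := exists_sing_of_three_le (Q := c • hqf hf₁.bilinear)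
    (⊤ : Submodule F (Fin 3 → F)) (by rw [finrank_top, hd3])
  obtain ⟨b2, b3, hb⟩ := exists_HB h2 hT.nB hd3 hb1 hb10
  refine isMaximalIn_omegaGL Q hQ hG _ {g | DS (pten e P) g} (mem_wreath_iff e P) ?_ ?_
  · by_contra hcon
    push Not at hcon
    apply hnot
    intro g hg
    exact (mem_wreath_iff e P g).2 (hcon _ ((mem_omegaGL_iff Q hQ hG g).1 hg))
  · rintro H hHE hHS ⟨g, hgH, hg⟩
    by_contra hne
    apply hg
    refine DS_of_lt hF hT hHE hHS hG hne ha hd3 hd3 hb (σ := LinearEquiv.refl F _) (μ := c⁻¹)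
      (inv_ne_zero hc) (fun b => ?_) hgH
    show hqf hf₁.bilinear b = c⁻¹ * (c • hqf hf₁.bilinear) b
    rw [QuadraticMap.smul_apply, smul_eq_mul, ← mul_assoc, inv_mul_cancel₀ hc, one_mul]

end Cfsg.Agent.H922.Ten
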