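import Mathlib
import Cfsg.Agent.H922.TenFive

/-!
Skew operators and forms on a three-dimensional quadratic space.
-/

set_option autoImplicit false
set_option linter.unusedSectionVars false

namespace Cfsg.Agent.H922.Ten

open QuadraticMap Cfsg.Agent.LieClassical.OrthCore Cfsg.Agent.LieClassical.OrthTrans
  Cfsg.Agent.LieClassical.OrthSimple Cfsg.Agent.ClassicalGeometry.OrthAutBasic
  Cfsg.Agent.H887.SiegelMethod

variable {F V A B : Type*} [Field F] [AddCommGroup V] [Module F V] [AddCommGroup A] [Module F A]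
  [AddCommGroup B] [Module F B] {Q : QuadraticForm F V} {QA : QuadraticForm F A}
  {QB : QuadraticForm F B} {ten : A →ₗ[F] B →ₗ[F] V}

variable {a1 a2 a3 : A} {b1 b2 b3 : B}

/-- The operator of a bilinear form. -/
theorem HB.exists_op (hb : HB QB b1 b2 b3) (m : B →ₗ[F] B →ₗ[F] F) :
    ∃ r : B →ₗ[F] B, ∀ y y', polar QB (r y) y' = m y y' := by
  refine ⟨(m.flip b3).smulRight b1 + ((2 * QB b2)⁻¹ • m.flip b2).smulRight b2 +
    (m.flip b1).smulRight b3, fun y y' => ?_⟩
  conv_rhs => rw [hb.span y']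
  simp only [LinearMap.add_apply, LinearMap.smulRight_apply, LinearMap.flip_apply,
    LinearMap.smul_apply, polar_add_left, polar_smul_left, map_add, map_smul, smul_eq_mul]
  ring

/-- Coordinates of a skew operator. -/
theorem HB.skew_apply (h2 : (2 : F) ≠ 0) (hb : HB QB b1 b2 b3) {r : B →ₗ[F] B}
    (hr : ∀ x, polar QB (r x) x = 0) : ∃ x y z : F, r = x • wd QB b1 b2 + y • wd QB b1 b3 +
      z • wd QB b2 b3 ∧ r b1 = (-y) • b1 + (-z) • b2 ∧
      r b2 = (-(x * (2 * QB b2))) • b1 + (z * (2 * QB b2)) • b3 ∧ r b3 = x • b2 + y • b3 := by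
  have h := hb.skew_coord h2 hr
  refine ⟨_, _, _, h, ?_, ?_, ?_⟩
  · conv_lhs => rw [h]
    simp only [LinearMap.add_apply, LinearMap.smul_apply, wd_apply, hb.p11, hb.p21, hb.p31]
    module
  · conv_lhs => rw [h]
    simp only [LinearMap.add_apply, LinearMap.smul_apply, wd_apply, hb.p12, hb.p22, hb.p32]
    module
  · conv_lhs => rw [h]
    simp only [LinearMap.add_apply, LinearMap.smul_apply, wd_apply, hb.p13, hb.p23, hb.p33]
    module

/-- Independence of a hyperbolic basis. -/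
theorem HB.coord (h2 : (2 : F) ≠ 0) (hb : HB QB b1 b2 b3) {x y z : F}
    (h : x • b1 + y • b2 + z • b3 = 0) : x = 0 ∧ y = 0 ∧ z = 0 := by
  have e1 := congrArg (polar QB b3) h
  have e2 := congrArg (polar QB b2) h
  have e3 := congrArg (polar QB b1) h
  simp only [polar_add_right, polar_smul_right, hb.p31, hb.p32, hb.p33, hb.p21, hb.p22, hb.p23,
    hb.p11, hb.p12, hb.p13, polar_zero_right, smul_eq_mul, mul_zero, mul_one, add_zero,
    zero_add] at e1 e2 e3
  exact ⟨e1, (mul_eq_zero.1 e2).resolve_right (mul_ne_zero h2 hb.q2), e3⟩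

/-- A skew operator with scalar square is zero. -/
theorem HB.skew_scalar (h2 : (2 : F) ≠ 0) (hb : HB QB b1 b2 b3) {r : B →ₗ[F] B}
    (hr : ∀ x, polar QB (r x) x = 0) {c : F} (hc : ∀ x, r (r x) = c • x) : r = 0 := by
  obtain ⟨x, y, z, e, h1, hr2, h3⟩ := hb.skew_apply h2 hr
  have hδ : (2 * QB b2) ≠ 0 := mul_ne_zero h2 hb.q2
  have e1 : (y ^ 2 + x * z * (2 * QB b2) - c) • b1 + (y * z) • b2 +
      (-(z ^ 2 * (2 * QB b2))) • b3 = 0 := by
    have := hc b1
    rw [h1, map_add, map_smul, map_smul, h1, hr2] at this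
    rw [← sub_eq_zero] at this
    rw [← this]
    module
  have e3 : (-(x ^ 2 * (2 * QB b2))) • b1 + (x * y) • b2 +
      (y ^ 2 + x * z * (2 * QB b2) - c) • b3 = 0 := by
    have := hc b3
    rw [h3, map_add, map_smul, map_smul, h3, hr2] at this
    rw [← sub_eq_zero] at this
    rw [← this]
    module
  have e2 : (x * y * (2 * QB b2)) • b1 + (2 * (x * z * (2 * QB b2)) - c) • b2 +
      (y * z * (2 * QB b2)) • b3 = 0 := by
    have := hc b2
    rw [hr2, map_add, map_smul, map_smul, h1, h3] at this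
    rw [← sub_eq_zero] at this
    rw [← this]
    module
  obtain ⟨f1, f2, f3⟩ := hb.coord h2 e1
  obtain ⟨g1, g2, g3⟩ := hb.coord h2 e3
  obtain ⟨k1, k2, k3⟩ := hb.coord h2 e2
  have hz : z = 0 := by
    have := (mul_eq_zero.1 (neg_eq_zero.1 f3)).resolve_right hδ
    exact pow_eq_zero_iff (two_ne_zero) |>.1 this
  have hx : x = 0 := by
    have := (mul_eq_zero.1 (neg_eq_zero.1 g1)).resolve_right hδ
    exact pow_eq_zero_iff (two_ne_zero) |>.1 this
  have hy : y = 0 := by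
    have : y ^ 2 = 0 := by
      rw [hz, hx] at f1 k2
      linear_combination f1 - k2
    exact pow_eq_zero_iff (two_ne_zero) |>.1 this
  rw [e, hx, hy, hz]
  simp

/-- The square of a nilpotent skew operator has rank at most one. -/
theorem HB.skew_sq (h2 : (2 : F) ≠ 0) (hb : HB QB b1 b2 b3) {r : B →ₗ[F] B}
    (hr : ∀ x, polar QB (r x) x = 0) (h3 : ∀ x, r (r (r x)) = 0) :
    ∃ u, ∀ y, ∃ c : F, r (r y) = c • u := by
  by_cases hr0 : r = 0
  · exact ⟨0, fun y => ⟨0, by rw [hr0]; simp⟩⟩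
  obtain ⟨x, y, z, e, e1, e2, e3⟩ := hb.skew_apply h2 hr
  have hδ : (2 * QB b2) ≠ 0 := mul_ne_zero h2 hb.q2
  -- the squares
  have s1 : r (r b1) = (y ^ 2 + x * z * (2 * QB b2)) • b1 + (y * z) • b2 +
      (-(z ^ 2 * (2 * QB b2))) • b3 := by
    rw [e1, map_add, map_smul, map_smul, e1, e2]
    module
  have s3 : r (r b3) = (-(x ^ 2 * (2 * QB b2))) • b1 + (x * y) • b2 +
      (y ^ 2 + x * z * (2 * QB b2)) • b3 := by
    rw [e3, map_add, map_smul, map_smul, e3, e2]
    module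
  have s2 : r (r b2) = (x * y * (2 * QB b2)) • b1 + (2 * (x * z * (2 * QB b2))) • b2 +
      (y * z * (2 * QB b2)) • b3 := by
    rw [e2, map_add, map_smul, map_smul, e1, e3]
    module
  have c1 : (0 : F) • b1 + (x * (y ^ 2 + 2 * (x * z * (2 * QB b2)))) • b2 +
      (y * (y ^ 2 + 2 * (x * z * (2 * QB b2)))) • b3 = 0 := by
    have := h3 b3
    rw [s3, map_add, map_add, map_smul, map_smul, map_smul, e1, e2, e3] at this
    rw [← this]
    module
  have c3 : (y * (y ^ 2 + 2 * (x * z * (2 * QB b2)))) • b1 +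
      (z * (y ^ 2 + 2 * (x * z * (2 * QB b2)))) • b2 + (0 : F) • b3 = 0 := by
    have := h3 b1
    rw [s1, map_add, map_add, map_smul, map_smul, map_smul, e1, e2, e3] at this
    rw [← neg_eq_zero, ← this]
    module
  obtain ⟨-, f2, f3⟩ := hb.coord h2 c1
  obtain ⟨-, g2, -⟩ := hb.coord h2 c3
  have hk : y ^ 2 + 2 * (x * z * (2 * QB b2)) = 0 := by
    by_contra hk
    have hx := (mul_eq_zero.1 f2).resolve_right hk
    have hy := (mul_eq_zero.1 f3).resolve_right hk
    have hz := (mul_eq_zero.1 g2).resolve_right hk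
    apply hr0
    rw [e, hx, hy, hz]
    simp
  refine ⟨(x * (2 * QB b2)) • b1 + (-y) • b2 + (z * (2 * QB b2)) • b3, fun w => ?_⟩
  refine ⟨(-z) * polar QB b3 w + y * ((2 * QB b2)⁻¹ * polar QB b2 w) +
    (-x) * polar QB b1 w, ?_⟩
  have hk' : y ^ 2 = - (2 * (x * z * (2 * QB b2))) := by linear_combination hk
  have t1 : r (r b1) = (-z) • ((x * (2 * QB b2)) • b1 + (-y) • b2 + (z * (2 * QB b2)) • b3) := by
    rw [s1, hk']
    module
  have t2 : r (r b2) = y • ((x * (2 * QB b2)) • b1 + (-y) • b2 + (z * (2 * QB b2)) • b3) := by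
    rw [s2]
    have : 2 * (x * z * (2 * QB b2)) = - (y * y) := by linear_combination hk
    rw [this]
    module
  have t3 : r (r b3) = (-x) • ((x * (2 * QB b2)) • b1 + (-y) • b2 + (z * (2 * QB b2)) • b3) := by
    rw [s3, hk']
    module
  conv_lhs => rw [hb.span w]
  simp only [map_add, map_smul]
  rw [t1, t2, t3]
  module

/-- Decomposition of the skew forms. -/
theorem HB.skew_form (h2 : (2 : F) ≠ 0) (hb : HB QB b1 b2 b3) {ω : B →ₗ[F] B →ₗ[F] F}
    (hω : ∀ b y, ω y b = - ω b y) : ∃ c1 c2 c3 : F, ω = c1 • om QB b1 b2 + c2 • om QB b3 b2 +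
      c3 • om QB (T QB b1 ((1 : F) • b2) b3) (T QB b1 ((1 : F) • b2) b2) := by
  have hδ : (2 * QB b2) ≠ 0 := mul_ne_zero h2 hb.q2
  have hδ1 : (2 * QB b2)⁻¹ * (2 * QB b2) = 1 := inv_mul_cancel₀ hδ
  refine ⟨-((2 * QB b2)⁻¹ * ω b2 b3) + (2 * QB b2)⁻¹ * (2 * QB b2 - QB b2) * ω b1 b3,
    (2 * QB b2)⁻¹ * ω b1 b2 + (2 * QB b2)⁻¹ * ω b1 b3, -((2 * QB b2)⁻¹ * ω b1 b3), ?_⟩
  refine LinearMap.ext₂ fun y y' => ?_
  simp only [LinearMap.add_apply, LinearMap.smul_apply, smul_eq_mul, om_apply, T_HB_two hb,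
    T_HB_three hb, polar_sub_left, polar_add_left, polar_smul_left]
  have hz : ∀ b, ω b b = 0 := by
    intro b
    have := hω b b
    have h3 : 2 * ω b b = 0 := by linear_combination this
    exact (mul_eq_zero.1 h3).resolve_left h2
  have e : ω y y' =
      (polar QB b3 y * ((2 * QB b2)⁻¹ * polar QB b2 y') -
        ((2 * QB b2)⁻¹ * polar QB b2 y) * polar QB b3 y') * ω b1 b2 +
      (polar QB b3 y * polar QB b1 y' - polar QB b1 y * polar QB b3 y') * ω b1 b3 +
      (((2 * QB b2)⁻¹ * polar QB b2 y) * polar QB b1 y' -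
        polar QB b1 y * ((2 * QB b2)⁻¹ * polar QB b2 y')) * ω b2 b3 := by
    conv_lhs => rw [hb.span y, hb.span y']
    simp only [map_add, map_smul, LinearMap.add_apply, LinearMap.smul_apply, smul_eq_mul]
    rw [hz b1, hz b2, hz b3, hω b1 b2, hω b1 b3, hω b2 b3]
    ring
  rw [e]
  linear_combination (-(polar QB b3 y * polar QB b1 y' - polar QB b1 y * polar QB b3 y') *
        ω b1 b3) * hδ1

end Cfsg.Agent.H922.Ten
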