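import Mathlib
import Cfsg.Agent.H922.TenLocal

/-!
Tensor decompositions `V = A ⊗ B`, `dim A = dim B = 3`: the stabiliser of `A ⊗ b` in a proper
overgroup is decomposable.
-/

set_option autoImplicit false
set_option linter.unusedSectionVars false

namespace Cfsg.Agent.H922.Ten

open QuadraticMap Cfsg.Agent.LieClassical.OrthCore Cfsg.Agent.LieClassical.OrthTrans
  Cfsg.Agent.LieClassical.OrthSimple Cfsg.Agent.ClassicalGeometry.OrthAutBasic
  Cfsg.Agent.H887.SiegelMethod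

variable {F V A B : Type*} [Field F] [AddCommGroup V] [Module F V] [AddCommGroup A] [Module F A]
  [AddCommGroup B] [Module F B] {Q : QuadraticForm F V} {QA : QuadraticForm F A}
  {QB : QuadraticForm F B} {ten : A →ₗ[F] B →ₗ[F] V}

variable {a1 a2 a3 : A} {b1 b2 b3 : B}

/-- The isometry `b1 ↦ c b1`, `b2 ↦ b2`, `b3 ↦ c⁻¹ b3`. -/
theorem exists_dg (h2 : (2 : F) ≠ 0) (hb : HB QB b1 b2 b3) {c : F} (hc : c ≠ 0) :
    ∃ β : B ≃ₗ[F] B, β ∈ O QB ∧ β b1 = c • b1 ∧ β b2 = b2 ∧ β b3 = c⁻¹ • b3 := by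
  have hδ : (2 * QB b2) ≠ 0 := mul_ne_zero h2 hb.q2
  let dg : F → B →ₗ[F] B := fun c =>
    (c • polarBilin QB b3).smulRight b1 + ((2 * QB b2)⁻¹ • polarBilin QB b2).smulRight b2 +
      (c⁻¹ • polarBilin QB b1).smulRight b3
  have hdg : ∀ c y, dg c y = (c * polar QB b3 y) • b1 + ((2 * QB b2)⁻¹ * polar QB b2 y) • b2 +
      (c⁻¹ * polar QB b1 y) • b3 := by
    intro c y
    simp [dg]
  have h1 : ∀ c, dg c b1 = c • b1 := by
    intro c
    rw [hdg, hb.p31, hb.p21, hb.p11]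
    simp
  have h2 : ∀ c, dg c b2 = b2 := by
    intro c
    rw [hdg, hb.p32, hb.p22, hb.p12, inv_mul_cancel₀ hδ]
    simp
  have h3 : ∀ c, dg c b3 = c⁻¹ • b3 := by
    intro c
    rw [hdg, hb.p33, hb.p23, hb.p13]
    simp
  have hcomp : ∀ c : F, c ≠ 0 → dg c ∘ₗ dg c⁻¹ = LinearMap.id := by
    intro c hc
    refine hb.ext ?_ ?_ ?_
    · rw [LinearMap.comp_apply, h1, map_smul, h1, smul_smul, inv_mul_cancel₀ hc, one_smul]
      rfl
    · rw [LinearMap.comp_apply, h2, h2]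
      rfl
    · rw [LinearMap.comp_apply, h3, map_smul, h3, smul_smul, inv_inv, mul_inv_cancel₀ hc, one_smul]
      rfl
  have hcomp' : dg c⁻¹ ∘ₗ dg c = LinearMap.id := by
    have := hcomp c⁻¹ (inv_ne_zero hc)
    rwa [inv_inv] at this
  refine ⟨LinearEquiv.ofLinearMap (dg c) (dg c⁻¹) (hcomp c hc) hcomp', ?_, h1 c, h2 c, h3 c⟩
  intro y
  show QB (dg c y) = QB y
  conv_rhs => rw [hb.span y]
  rw [hdg, hb.Q_eq, hb.Q_eq]
  have : c * c⁻¹ = 1 := mul_inv_cancel₀ hc
  linear_combination (polar QB b3 y * polar QB b1 y) * this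

/-- `g - 1`. -/
def nm (g : V ≃ₗ[F] V) : V →ₗ[F] V := g.toLinearMap - LinearMap.id

theorem nm_apply (g : V ≃ₗ[F] V) (v : V) : nm g v = g v - v := rfl

/-- Unipotent elements have order a power of `p`. -/
theorem pow_char_eq_one [Nontrivial V] {p : ℕ} [Fact p.Prime] [CharP F p] (hp3 : 3 ≤ p)
    {g : V ≃ₗ[F] V}
    (hg : ∀ v, nm g (nm g (nm g v)) = 0) : g ^ p = 1 := by
  have hch : CharP (Module.End F V) p :=
    charP_of_injective_algebraMap (algebraMap F (Module.End F V)).injective p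
  set G : Module.End F V := g.toLinearMap with hG
  have h3 : (G - 1) ^ 3 = 0 := by
    ext v
    rw [pow_succ, pow_two]
    exact hg v
  have hp : (G - 1) ^ p = 0 := by
    obtain ⟨k, rfl⟩ := Nat.exists_eq_add_of_le hp3
    rw [pow_add, h3, zero_mul]
  have h4 : (G - 1) ^ p = G ^ p - 1 ^ p := sub_pow_char_of_commute _ (Commute.one_right G)
  rw [hp, one_pow] at h4
  have h5 : G ^ p = 1 := (sub_eq_zero.1 h4.symm)
  have h6 : ∀ n : ℕ, ((g ^ n : V ≃ₗ[F] V) : V →ₗ[F] V) = G ^ n := by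
    intro n
    induction n with
    | zero => rfl
    | succ n ih =>
      rw [pow_succ, pow_succ, ← ih]
      rfl
  ext v
  have := LinearMap.congr_fun ((h6 p).trans h5) v
  exact this

/-- An `RTy` isometry is in `E Q`. -/
theorem RTy.mem_E [Finite F] (h : TD Q QA QB ten) (hG : Good Q) (hb : HB QB b1 b2 b3)
    {r : V ≃ₗ[F] V} (hr : r ∈ O Q) {m n k : A →ₗ[F] A} (hR : RTy ten b1 b2 b3 r m n k) :
    r ∈ E Q := by
  have : FiniteDimensional F V := Module.finite_of_finrank_pos (by have := hG.dim; omega)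
  have : Nontrivial V := Module.nontrivial_of_finrank_pos (R := F) (by have := hG.dim; omega)
  obtain ⟨p, hp⟩ := CharP.exists F
  have hpp : p.Prime := CharP.char_is_prime F p
  have : Fact p.Prime := ⟨hpp⟩
  have hp2 : p ≠ 2 := by
    rintro rfl
    exact h.two (by exact_mod_cast CharP.cast_eq_zero F 2)
  have hodd : Odd p := hpp.odd_of_ne_two hp2
  have hp3 : 3 ≤ p := by
    have := hpp.two_le
    omega
  refine mem_E_of_pow hG hr hodd (pow_char_eq_one hp3 fun v => ?_)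
  have e1 : ∀ x, nm r (ten x b1) = 0 := by
    intro x
    rw [nm_apply, hR.one, sub_self]
  have e2 : ∀ x, nm r (ten x b2) = ten (m x) b1 := by
    intro x
    rw [nm_apply, hR.two, add_sub_cancel_left]
  have e3 : ∀ x, nm r (ten x b3) = ten (n x) b2 + ten (k x) b1 := by
    intro x
    rw [nm_apply, hR.three, add_assoc, add_sub_cancel_left]
  rw [h.decomp hb v]
  simp only [map_add, e1, e2, e3, map_zero, zero_add, add_zero]

/-- **(2)** The stabiliser of `A ⊗ b1` in a proper overgroup is decomposable. -/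
theorem dec_of_stab [Finite F] [FiniteDimensional F A] (hF : 5 ≤ Nat.card F)
    (h : TD Q QA QB ten) {L : Subgroup (V ≃ₗ[F] V)}
    (hL : Ov Q ten L) (hG : Good Q) (hne : ¬ E Q ≤ L) (ha : HB QA a1 a2 a3)
    (hd : Module.finrank F A = 3) (hb : HB QB b1 b2 b3) {g : V ≃ₗ[F] V}
    (hg : g ∈ L) (h1 : ∀ x, ∃ y, g (ten x b1) = ten y b1) : Dec ten g := by
  have hδ : (2 * QB b2) ≠ 0 := mul_ne_zero h.two hb.q2
  have hgO := hL.leO hg
  -- `g` on `A ⊗ b1`
  let g1 : A →ₗ[F] A := h.pb b3 ∘ₗ g.toLinearMap ∘ₗ ten.flip b1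
  have hg1 : ∀ x, g (ten x b1) = ten (g1 x) b1 := by
    intro x
    obtain ⟨y, hy⟩ := h1 x
    have : g1 x = h.pb b3 (g (ten x b1)) := rfl
    rw [this, hy, h.pb_ten, hb.p31, one_smul]
  have hinj1 : Function.Injective g1 := by
    intro x y hxy
    have := hg1 x
    rw [hxy, ← hg1 y] at this
    exact h.ten_inj hb.hyp.left_ne (g.injective this)
  have hsurj1 : Function.Surjective g1 := LinearMap.injective_iff_surjective.1 hinj1
  -- `g` on `A ⊗ b2`
  let g2 : A →ₗ[F] A := (2 * QB b2)⁻¹ • (h.pb b2 ∘ₗ g.toLinearMap ∘ₗ ten.flip b2)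
  let g3 : A →ₗ[F] A := h.pb b3 ∘ₗ g.toLinearMap ∘ₗ ten.flip b2
  have hg2 : ∀ x, g (ten x b2) = ten (g2 x) b2 + ten (g3 x) b1 := by
    intro x
    have e1 : h.pb b1 (g (ten x b2)) = 0 := by
      apply h.nA
      intro y
      obtain ⟨y, rfl⟩ := hsurj1 y
      rw [h.polar_pb, ← hg1, polar_map hgO, h.form, hb.p21, mul_zero]
    have e := h.decomp hb (g (ten x b2))
    rw [e1, map_zero, LinearMap.zero_apply, add_zero] at e
    have e2 : g2 x = (2 * QB b2)⁻¹ • h.pb b2 (g (ten x b2)) := rfl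
    have e3 : g3 x = h.pb b3 (g (ten x b2)) := rfl
    rw [e2, e3, add_comm]
    exact e
  have hiso : ∀ x y, polar QA (g2 x) (g2 y) = polar QA x y := by
    intro x y
    have e := polar_map hgO (ten x b2) (ten y b2)
    rw [hg2, hg2] at e
    simp only [polar_add_left, polar_add_right, h.form, hb.p11, hb.p12, hb.p21, hb.p22, mul_zero,
      add_zero] at e
    exact mul_right_cancel₀ hδ e
  have hinj2 : Function.Injective g2 := by
    intro x y hxy
    have h0 : x - y = 0 := by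
      apply h.nA
      intro z
      rw [← hiso, map_sub, hxy, sub_self, polar_zero_left]
    exact sub_eq_zero.1 h0
  have hsurj2 : Function.Surjective g2 := LinearMap.injective_iff_surjective.1 hinj2
  -- `g u g⁻¹`
  set u := h.tm 1 (T QB b1 ((1 : F) • b2)) with hu
  have hUL : u ∈ L := hL.tB h hG b1 _
  have hRu := RTy_u h hb 1
  rw [← hu] at hRu
  have hrL : g * u * g⁻¹ ∈ L := L.mul_mem (L.mul_mem hg hUL) (L.inv_mem hg)
  have hrg : ∀ v, (g * u * g⁻¹) (g v) = g (u v) := by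
    intro v
    show g (u (g⁻¹ (g v))) = _
    have : g⁻¹ (g v) = v := LinearEquiv.symm_apply_apply g v
    rw [this]
  have hr1 : ∀ x, (g * u * g⁻¹) (ten x b1) = ten x b1 := by
    intro x
    obtain ⟨x, rfl⟩ := hsurj1 x
    rw [← hg1, hrg, hRu.one]
  have hu2 : ∀ x, u (ten x b2) = ten x b2 - ten ((2 * QB b2) • x) b1 := by
    intro x
    rw [hRu.two]
    simp only [LinearMap.smul_apply, LinearMap.id_apply, one_mul, neg_smul, map_neg,
      LinearMap.neg_apply]
    abel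
  have hr2 : ∀ x, ∃ y, (g * u * g⁻¹) (ten x b2) = ten x b2 + ten y b1 := by
    intro x
    obtain ⟨x, rfl⟩ := hsurj2 x
    have e : ten (g2 x) b2 = g (ten x b2) - ten (g3 x) b1 := by
      rw [hg2]; abel
    refine ⟨- g1 ((2 * QB b2) • x), ?_⟩
    conv_lhs => rw [e, map_sub, hrg, hu2, hr1, map_sub, hg1]
    rw [e, map_neg, LinearMap.neg_apply]
    abel
  obtain ⟨c, hc⟩ := rad_eq hF h hL hG hne ha hd hb hrL hr1 hr2
  have hRc := RTy_u h hb c
  rw [← hc] at hRc
  have hc1 : ∀ x, g1 x = c • g2 x := by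
    intro x
    have e := hrg (ten x b2)
    rw [hu2, map_sub, hg1, hg2, map_add, hr1, hRc.two] at e
    simp only [LinearMap.smul_apply, LinearMap.id_apply, map_smul, map_neg, LinearMap.neg_apply,
      neg_smul] at e
    have e2 : ten ((2 * QB b2) • (g1 x)) b1 = ten ((2 * QB b2) • (c • g2 x)) b1 := by
      simp only [map_smul, LinearMap.smul_apply]
      have e3 : ten (g2 x) b2 + -((c * (2 * QB b2)) • ten (g2 x) b1) + ten (g3 x) b1 -
          (ten (g2 x) b2 + ten (g3 x) b1) =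
          ten (g2 x) b2 + ten (g3 x) b1 - (2 * QB b2) • ten (g1 x) b1 -
          (ten (g2 x) b2 + ten (g3 x) b1) := by rw [e]
      have e4 : -((c * (2 * QB b2)) • ten (g2 x) b1) = - ((2 * QB b2) • ten (g1 x) b1) := by
        have l : ten (g2 x) b2 + -((c * (2 * QB b2)) • ten (g2 x) b1) + ten (g3 x) b1 -
          (ten (g2 x) b2 + ten (g3 x) b1) = -((c * (2 * QB b2)) • ten (g2 x) b1) := by abel
        have l' : ten (g2 x) b2 + ten (g3 x) b1 - (2 * QB b2) • ten (g1 x) b1 -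
          (ten (g2 x) b2 + ten (g3 x) b1) = - ((2 * QB b2) • ten (g1 x) b1) := by abel
        rw [← l, e3, l']
      rw [neg_inj] at e4
      rw [← e4, smul_smul, mul_comm]
    exact smul_right_injective A hδ (h.ten_inj hb.hyp.left_ne e2)
  have hc0 : c ≠ 0 := by
    rintro rfl
    have := hc1 a1
    rw [zero_smul] at this
    exact ha.hyp.left_ne (hinj1 (this.trans (map_zero g1).symm))
  -- the model element
  let e2 : A ≃ₗ[F] A := LinearEquiv.ofBijective g2 ⟨hinj2, hsurj2⟩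
  have he2 : ∀ x, e2 x = g2 x := fun x => rfl
  have he2O : e2 ∈ O QA := by
    intro x
    have := hiso x x
    rw [polar_self', polar_self'] at this
    exact mul_left_cancel₀ h.two this
  obtain ⟨β, hβO, hβ1, hβ2, hβ3⟩ := exists_dg h.two hb hc0
  set h0 := h.tm e2 β with hh0
  have hh0O : h0 ∈ O Q := h.tm_mem_O he2O hβO
  set r' := h0⁻¹ * g with hr'
  have hr'O : r' ∈ O Q := (O Q).mul_mem ((O Q).inv_mem hh0O) hgO
  have hh0r : ∀ v w, h0 w = g v → r' v = w := by
    intro v w hvw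
    show h0⁻¹ (g v) = w
    rw [← hvw]
    exact LinearEquiv.symm_apply_apply h0 w
  have hr'1 : ∀ x, r' (ten x b1) = ten x b1 := by
    intro x
    apply hh0r
    rw [h.tm_ten, he2, hβ1, hg1, hc1]
    simp
  have hr'2 : ∀ x, ∃ y, r' (ten x b2) = ten x b2 + ten y b1 := by
    intro x
    obtain ⟨y, hy⟩ := hsurj2 (c⁻¹ • g3 x)
    refine ⟨y, ?_⟩
    apply hh0r
    rw [map_add, h.tm_ten, h.tm_ten, he2, he2, hβ1, hβ2, hy, hg2]
    simp [smul_smul, mul_inv_cancel₀ hc0]
  obtain ⟨m, n, k, hR', -⟩ := exists_RTy h hb hr'O hr'1 hr'2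
  have hr'E : r' ∈ E Q := hR'.mem_E h hG hb hr'O
  have hh0E : h0 ∈ E Q := by
    have : h0 = g * r'⁻¹ := by rw [hr']; group
    rw [this]
    exact (E Q).mul_mem (hL.le hg) ((E Q).inv_mem hr'E)
  have hh0L : h0 ∈ L := hL.dec _ hh0E (h.dec_tm _ _)
  have hr'L : r' ∈ L := L.mul_mem (L.inv_mem hh0L) hg
  obtain ⟨c', hc'⟩ := rad_eq hF h hL hG hne ha hd hb hr'L hr'1 hr'2
  have hg' : g = h0 * r' := by rw [hr']; group
  rw [hg', hc']
  exact (h.dec_tm _ _).mul (h.dec_tm _ _)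

end Cfsg.Agent.H922.Ten
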