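import Mathlib
import Cfsg.Agent.H922.TenStab

/-!
Unipotent isometries of three-dimensional spaces, and unipotent decomposable elements.
-/

set_option autoImplicit false
set_option linter.unusedSectionVars false

namespace Cfsg.Agent.H922.Ten

open QuadraticMap Cfsg.Agent.LieClassical.OrthCore Cfsg.Agent.LieClassical.OrthTrans
  Cfsg.Agent.LieClassical.OrthSimple Cfsg.Agent.ClassicalGeometry.OrthAutBasic
  Cfsg.Agent.H887.SiegelMethod

variable {F V A B : Type*} [Field F] [AddCommGroup V] [Module F V] [AddCommGroup A] [Module F A]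
  [AddCommGroup B] [Module F B] {Q : QuadraticForm F V} {QA : QuadraticForm F A}
  {QB : QuadraticForm F B} {ten : A →ₗ[F] B →ₗ[F] V}

variable {a1 a2 a3 : A} {b1 b2 b3 : B}

/-- The scalar with `c ^ p = 1` is `1`. -/
theorem scalar_one {p : ℕ} [Fact p.Prime] [CharP F p] {c : F} (h : c ^ p = 1) : c = 1 := by
  have h1 : (c - 1) ^ p = 0 := by rw [sub_pow_char, h, one_pow, sub_self]
  exact sub_eq_zero.1 (pow_eq_zero_iff (Fact.out : p.Prime).ne_zero |>.1 h1)

theorem pow_apply_fix {g : B ≃ₗ[F] B} {b : B} {c : F} (h : g b = c • b) (n : ℕ) :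
    (g ^ n) b = c ^ n • b := by
  induction n with
  | zero => rw [pow_zero, pow_zero, one_smul]; rfl
  | succ n ih =>
    rw [pow_succ, LinearEquiv.mul_apply, h, map_smul, ih, smul_smul, pow_succ, mul_comm]

theorem fix_of_eigen {p : ℕ} [Fact p.Prime] [CharP F p] {g : B ≃ₗ[F] B} (hg : g ^ p = 1) {b : B}
    (hb0 : b ≠ 0) {c : F} (h : g b = c • b) : g b = b := by
  have h1 := pow_apply_fix h p
  rw [hg] at h1
  have h2 : (1 - c ^ p) • b = 0 := by
    rw [sub_smul, one_smul, ← h1]
    exact sub_self b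
  have h3 := (smul_eq_zero.1 h2).resolve_right hb0
  have h4 : c = 1 := scalar_one (sub_eq_zero.1 h3).symm
  rw [h, h4, one_smul]

/-- A unipotent isometry fixing `b1` is a Siegel element. -/
theorem unip_eq_T {p : ℕ} [Fact p.Prime] [CharP F p] (h2 : (2 : F) ≠ 0) (hb : HB QB b1 b2 b3)
    {g : B ≃ₗ[F] B} (hgO : g ∈ O QB) (hg : g ^ p = 1) (h1 : g b1 = b1) :
    ∃ c : F, g = T QB b1 (c • b2) := by
  have hδ : (2 * QB b2) ≠ 0 := mul_ne_zero h2 hb.q2
  -- the image of `b2`
  set l := (2 * QB b2)⁻¹ * polar QB b2 (g b2) with hl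
  set γ := polar QB b3 (g b2) with hγ
  have e2 : g b2 = γ • b1 + l • b2 := by
    have e := hb.span (g b2)
    have : polar QB b1 (g b2) = 0 := by
      conv_lhs => rw [← h1]
      rw [polar_map hgO, hb.p12]
    rw [this, zero_smul, add_zero] at e
    exact e
  have e2n : ∀ n : ℕ, ∃ c : F, (g ^ n) b2 = c • b1 + (l ^ n) • b2 := by
    intro n
    induction n with
    | zero => exact ⟨0, by rw [pow_zero, pow_zero, one_smul, zero_smul, zero_add]; rfl⟩
    | succ n ih =>
      obtain ⟨c, hc⟩ := ih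
      refine ⟨c + l ^ n * γ, ?_⟩
      have : (g ^ (n + 1)) b2 = g ((g ^ n) b2) := by rw [pow_succ', LinearEquiv.mul_apply]
      rw [this, hc, map_add, map_smul, map_smul, h1, e2]
      module
  have hl1 : l = 1 := by
    obtain ⟨c, hc⟩ := e2n p
    rw [hg] at hc
    have h3 : b2 = c • b1 + l ^ p • b2 := hc
    have h4 := congrArg (polar QB b2) h3
    rw [polar_add_right, polar_smul_right, polar_smul_right, hb.p21, smul_zero, zero_add, hb.p22,
      smul_eq_mul] at h4
    have h5 : (1 : F) = l ^ p := mul_right_cancel₀ hδ (by rw [one_mul]; exact h4)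
    exact scalar_one h5.symm
  rw [hl1, one_smul] at e2
  set c := -(γ * (2 * QB b2)⁻¹) with hc
  have hcδ : c * (2 * QB b2) = -γ := by
    rw [hc, neg_mul, mul_assoc, inv_mul_cancel₀ hδ, mul_one]
  set t := T QB b1 (c • b2) with ht
  have htO : t ∈ O QB := T_mem_O _ _
  have ht1 : t b1 = b1 := T_HB_one hb c
  have ht2 : t b2 = g b2 := by
    rw [ht, T_HB_two hb, hcδ, e2, neg_smul, sub_neg_eq_add, add_comm]
  -- `t⁻¹ g` fixes everything
  have hs1 : (t⁻¹ * g) b1 = b1 := by
    show t⁻¹ (g b1) = b1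
    rw [h1]
    conv_lhs => rw [← ht1]
    exact LinearEquiv.symm_apply_apply t b1
  have hs2 : (t⁻¹ * g) b2 = b2 := by
    show t⁻¹ (g b2) = b2
    rw [← ht2]
    exact LinearEquiv.symm_apply_apply t b2
  have hsO : t⁻¹ * g ∈ O QB := (O QB).mul_mem ((O QB).inv_mem htO) hgO
  have hs3 : (t⁻¹ * g) b3 = b3 := by
    set y := (t⁻¹ * g) b3 with hy
    have y1 : polar QB b1 y = 1 := by
      rw [hy]
      conv_lhs => rw [← hs1]
      rw [polar_map hsO, hb.p13]
    have y2 : polar QB b2 y = 0 := by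
      rw [hy]
      conv_lhs => rw [← hs2]
      rw [polar_map hsO, hb.p23]
    have yQ : QB y = 0 := by rw [hy, mem_O.1 hsO, hb.hyp.right]
    have e := hb.span y
    rw [y1, y2, mul_zero] at e
    rw [e, hb.Q_eq] at yQ
    have y3 : polar QB b3 y = 0 := by linear_combination yQ
    rw [e, y3]
    simp
  have hone : t⁻¹ * g = 1 := by
    have : (t⁻¹ * g : B ≃ₗ[F] B).toLinearMap = LinearMap.id := by
      refine hb.ext ?_ ?_ ?_
      · exact hs1
      · exact hs2
      · exact hs3
    ext y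
    exact LinearMap.congr_fun this y
  exact ⟨c, (inv_mul_eq_one.1 hone).symm⟩

/-- A unipotent isometry, not the identity, fixes a singular vector. -/
theorem exists_fix_sing {p : ℕ} [Fact p.Prime] [CharP F p] (h2 : (2 : F) ≠ 0) [Nontrivial B]
    {g : B ≃ₗ[F] B} (hgO : g ∈ O QB) (hg : g ^ p = 1) (h1 : g ≠ 1) :
    ∃ b, b ≠ 0 ∧ QB b = 0 ∧ g b = b := by
  have hch : CharP (Module.End F B) p :=
    charP_of_injective_algebraMap (algebraMap F (Module.End F B)).injective p
  set G : Module.End F B := g.toLinearMap with hG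
  have h6 : ∀ n : ℕ, ((g ^ n : B ≃ₗ[F] B) : B →ₗ[F] B) = G ^ n := by
    intro n
    induction n with
    | zero => rfl
    | succ n ih =>
      rw [pow_succ, pow_succ, ← ih]
      rfl
  have hGp : G ^ p = 1 := by
    rw [← h6, hg]
    rfl
  let N : Module.End F B := G - 1
  have hN : N ^ p = 0 := by
    rw [sub_pow_char_of_commute _ (Commute.one_right G), hGp, one_pow, sub_self]
  have hNv : ∀ v, N v = g v - v := fun v => rfl
  obtain ⟨v, hv⟩ : ∃ v, N v ≠ 0 := by
    by_contra hcon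
    push Not at hcon
    apply h1
    ext v
    exact sub_eq_zero.1 (hcon v)
  have hsucc : ∀ (i : ℕ) (y : B), (N ^ (i + 1)) y = N ((N ^ i) y) := fun i y => by
    rw [pow_succ']
    rfl
  have hsucc' : ∀ (i : ℕ) (y : B), (N ^ (i + 1)) y = (N ^ i) (N y) := fun i y => by
    rw [pow_succ]
    rfl
  -- the last non-zero power
  classical
  have hex : ∃ n, (N ^ n) v = 0 := ⟨p, by rw [hN]; rfl⟩
  set n := Nat.find hex with hn
  have hn0 : (N ^ n) v = 0 := Nat.find_spec hex
  have hn2 : 2 ≤ n := by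
    by_contra hlt
    push Not at hlt
    have hv0 : v ≠ 0 := by
      rintro rfl
      exact hv (map_zero _)
    interval_cases h : n
    · exact hv0 hn0
    · rw [pow_one] at hn0
      exact hv hn0
  obtain ⟨k, hk⟩ : ∃ k, n = k + 1 := ⟨n - 1, by omega⟩
  have hk1 : 1 ≤ k := by omega
  have hmin : (N ^ k) v ≠ 0 := Nat.find_min hex (by omega)
  refine ⟨(N ^ k) v, hmin, ?_, ?_⟩
  · -- singular
    have hadj : ∀ x y, polar QB (N x) y = - polar QB x (N ((g⁻¹ : B ≃ₗ[F] B) y)) := by
      intro x y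
      have e1 : g ((g⁻¹ : B ≃ₗ[F] B) y) = y := LinearEquiv.apply_symm_apply g y
      rw [hNv, hNv, e1, polar_sub_left, polar_sub_right]
      have e2 : polar QB (g x) y = polar QB x ((g⁻¹ : B ≃ₗ[F] B) y) := by
        conv_lhs => rw [← e1]
        rw [polar_map hgO]
      rw [e2]
      ring
    have hcomm : ∀ y, N ((g⁻¹ : B ≃ₗ[F] B) y) = (g⁻¹ : B ≃ₗ[F] B) (N y) := by
      intro y
      have e1 : g ((g⁻¹ : B ≃ₗ[F] B) y) = y := LinearEquiv.apply_symm_apply g y
      have e2 : (g⁻¹ : B ≃ₗ[F] B) (g y) = y := LinearEquiv.symm_apply_apply g y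
      rw [hNv, hNv, e1, map_sub, e2]
    have hc : ∀ (i : ℕ) (y : B), (N ^ i) ((g⁻¹ : B ≃ₗ[F] B) y) =
        (g⁻¹ : B ≃ₗ[F] B) ((N ^ i) y) := by
      intro i
      induction i with
      | zero => intro y; rfl
      | succ i ihi =>
        intro y
        rw [hsucc', hcomm, ihi, hsucc']
    -- `polar (N^m x) y = 0` if `N^m y = 0`
    have hkey : ∀ (m : ℕ) (x y : B), (N ^ m) y = 0 → polar QB ((N ^ m) x) y = 0 := by
      intro m
      induction m with
      | zero =>
        intro x y hy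
        have hy' : y = 0 := hy
        rw [hy', polar_zero_right]
      | succ m ih =>
        intro x y hy
        rw [hsucc, hadj, hcomm, ih, neg_zero]
        rw [hc, ← hsucc', hy, map_zero]
    have h3 : (N ^ k) ((N ^ k) v) = 0 := by
      have : (N ^ k) ((N ^ k) v) = (N ^ (k - 1)) ((N ^ (k + 1)) v) := by
        have e : N ^ k * N ^ k = N ^ (k - 1) * N ^ (k + 1) := by
          rw [← pow_add, ← pow_add]
          congr 1
          omega
        exact LinearMap.congr_fun e v
      rw [this, ← hk, hn0, map_zero]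
    have h4 := hkey k v _ h3
    rw [polar_self'] at h4
    exact (mul_eq_zero.1 h4).resolve_left h2
  · -- fixed
    have : N ((N ^ k) v) = 0 := by
      rw [← hsucc, ← hk, hn0]
    exact sub_eq_zero.1 this

/-- Normal form of decomposable isometries of order `p`. -/
theorem dec_unip [Finite F] (h : TD Q QA QB ten) {p : ℕ} [Fact p.Prime] [CharP F p]
    [Nontrivial A] [Nontrivial B] {x : V ≃ₗ[F] V} (hxO : x ∈ O Q) (hxp : x ^ p = 1)
    (hx : Dec ten x) :
    ∃ (α : A ≃ₗ[F] A) (β : B ≃ₗ[F] B), α ∈ O QA ∧ β ∈ O QB ∧ α ^ p = 1 ∧ β ^ p = 1 ∧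
      ∀ a b, x (ten a b) = ten (α a) (β b) := by
  obtain ⟨α, β, hαβ⟩ := hx
  have hpow : ∀ (α : A ≃ₗ[F] A) (β : B ≃ₗ[F] B), (∀ a b, x (ten a b) = ten (α a) (β b)) →
      ∀ (n : ℕ) a b, (x ^ n) (ten a b) = ten ((α ^ n) a) ((β ^ n) b) := by
    intro α β hαβ n
    induction n with
    | zero => intro a b; rfl
    | succ n ih =>
      intro a b
      rw [pow_succ', pow_succ', pow_succ', LinearEquiv.mul_apply, ih, hαβ]
      rfl
  -- `α ^ p` is a scalar
  obtain ⟨b0, hb0⟩ := exists_ne (0 : B)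
  have hβb0 : (β ^ p) b0 ≠ 0 := fun h0 => hb0 ((LinearEquiv.map_eq_zero_iff _).1 h0)
  obtain ⟨b', hb'⟩ := h.nB.exists_polar_eq hβb0 1
  set μ := polar QB b' b0 with hμ
  have hμα : ∀ a, (α ^ p) a = μ • a := by
    intro a
    have e := hpow α β hαβ p a b0
    rw [hxp] at e
    have e1 := congrArg (h.pb b') e
    have e2 : h.pb b' ((1 : V ≃ₗ[F] V) (ten a b0)) = μ • a := h.pb_ten b' a b0
    rw [e2, h.pb_ten, polar_comm QB b' ((β ^ p) b0), hb', one_smul] at e1
    exact e1.symm
  obtain ⟨a0, ha0⟩ := exists_ne (0 : A)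
  have hμ0 : μ ≠ 0 := by
    intro h0
    have := hμα a0
    rw [h0, zero_smul] at this
    exact ha0 ((LinearEquiv.map_eq_zero_iff _).1 this)
  -- take a `p`-th root
  obtain ⟨ν, hν⟩ : ∃ ν : F, ν ^ p = μ := by
    have hbij : Function.Bijective (frobenius F p) :=
      (Finite.injective_iff_bijective).1 (frobenius_inj F p)
    obtain ⟨ν, hν⟩ := hbij.2 μ
    exact ⟨ν, hν⟩
  have hν0 : ν ≠ 0 := by
    rintro rfl
    rw [zero_pow (Fact.out : p.Prime).ne_zero] at hν
    exact hμ0 hν.symm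
  let α' : A ≃ₗ[F] A := α.trans (LinearEquiv.smulOfNeZero F A ν⁻¹ (inv_ne_zero hν0))
  let β' : B ≃ₗ[F] B := β.trans (LinearEquiv.smulOfNeZero F B ν hν0)
  have hα' : ∀ a, α' a = ν⁻¹ • α a := fun a => rfl
  have hβ' : ∀ b, β' b = ν • β b := fun b => rfl
  have hx' : ∀ a b, x (ten a b) = ten (α' a) (β' b) := by
    intro a b
    rw [hαβ, hα', hβ', map_smul, map_smul, LinearMap.smul_apply, smul_smul, mul_inv_cancel₀ hν0,
      one_smul]
  have hα'p : α' ^ p = 1 := by
    have hn : ∀ n : ℕ, ∀ a, (α' ^ n) a = (ν⁻¹) ^ n • (α ^ n) a := by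
      intro n
      induction n with
      | zero => intro a; rw [pow_zero, pow_zero, pow_zero, one_smul]
      | succ n ih =>
        intro a
        rw [pow_succ', pow_succ', pow_succ', LinearEquiv.mul_apply, LinearEquiv.mul_apply, ih,
          map_smul, hα', smul_smul, mul_comm]
    ext a
    rw [hn, hμα, smul_smul, ← hν, ← mul_pow, inv_mul_cancel₀ hν0, one_pow, one_smul]
    rfl
  have hβ'p : β' ^ p = 1 := by
    ext b
    have e := hpow α' β' hx' p a0 b
    rw [hxp, hα'p] at e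
    have e1 : ten.flip b a0 = ten.flip ((β' ^ p) b) a0 := e
    have e2 := h.flip.ten_inj ha0 (x := b) (y := (β' ^ p) b) e
    exact e2.symm
  -- isometries
  have hiso : ∀ a a' b b', polar QA (α' a) (α' a') * polar QB (β' b) (β' b') =
      polar QA a a' * polar QB b b' := by
    intro a a' b b'
    rw [← h.form, ← hx', ← hx', polar_map hxO, h.form]
  have hsim : ∃ κ : F, ∀ a a', polar QA (α' a) (α' a') = κ * polar QA a a' := by
    obtain ⟨b1, hb1⟩ := h.nB.exists_polar_eq (x := β' b0)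
      (fun h0 => hb0 ((LinearEquiv.map_eq_zero_iff _).1 h0)) 1
    obtain ⟨b1, rfl⟩ := β'.surjective b1
    refine ⟨polar QB b0 b1, fun a a' => ?_⟩
    have := hiso a a' b0 b1
    rw [hb1, mul_one] at this
    rw [this, mul_comm]
  obtain ⟨κ, hκ⟩ := hsim
  have hκ1 : κ = 1 := by
    have hn : ∀ n : ℕ, ∀ a a', polar QA ((α' ^ n) a) ((α' ^ n) a') = κ ^ n * polar QA a a' := by
      intro n
      induction n with
      | zero => intro a a'; rw [pow_zero, pow_zero, one_mul]; rfl
      | succ n ih =>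
        intro a a'
        rw [pow_succ', LinearEquiv.mul_apply, LinearEquiv.mul_apply, hκ, ih, pow_succ']
        ring
    obtain ⟨a1, ha1⟩ := h.nA.exists_polar_eq ha0 1
    have := hn p a0 a1
    rw [hα'p, ha1, mul_one] at this
    have h5 : polar QA ((1 : A ≃ₗ[F] A) a0) ((1 : A ≃ₗ[F] A) a1) = polar QA a0 a1 := rfl
    rw [h5, ha1] at this
    exact scalar_one this.symm
  rw [hκ1] at hκ
  simp only [one_mul] at hκ
  refine ⟨α', β', ?_, ?_, hα'p, hβ'p, hx'⟩
  · intro a
    have := hκ a a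
    rw [polar_self', polar_self'] at this
    exact mul_left_cancel₀ h.two this
  · obtain ⟨a1, ha1⟩ := h.nA.exists_polar_eq ha0 1
    intro b
    have := hiso a0 a1 b b
    rw [hκ, ha1, one_mul, one_mul, polar_self', polar_self'] at this
    exact mul_left_cancel₀ h.two this

end Cfsg.Agent.H922.Ten
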